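import Cfsg.Agent.Lib.Bender.Q.B1.Top
import Cfsg.Agent.Lib.Bender.B1.Circle

/-!
The choice of a circle or oval whose pointwise stabiliser carries as many inverted elements as possible.

Blueprint: `blueprint/bender/Q_B1.md` 4.
-/

set_option autoImplicit false
set_option linter.unusedSectionVars false
set_option linter.style.haveILetI false
set_option linter.unusedVariables false

namespace CfsgLib.Bender.Q

open MulAction Cfsg CfsgLib.SuzukiRankOne
open CfsgLib.Bender.TwoClosed (IsInv two mem_two smul_conj odd_orderOf mem_of_sq_mem conj_mem_of_normalizer)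
open CfsgLib.Bender.B1 (fixer mem_fixer setStab mem_setStab_of_maps fixer_le_setStab setStab_le_normalizer)

universe u

variable {G : Type u} {Ω : Type u} [Group G] [MulAction G Ω] {Z : Set G}

/-- A top with at least `e` inverted elements in its kernel for each of its members. -/
structure Carries (Ω : Type u) [MulAction G Ω] (Z : Set G) (e : ℕ) (X : Subgroup G) : Prop where
  top : IsTop Ω Z X
  ker : ∀ i ∈ X, i ∈ Z → e ≤ (kerBad Ω Z X i).ncard

/-- The subgroup generated by the elements of odd order fixing a set of points. -/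
def fixOdd (G : Type u) [Group G] [MulAction G Ω] (Θ : Set Ω) : Subgroup G :=
  Subgroup.closure {x | x ∈ fixer G Θ ∧ Odd (orderOf x)}

theorem fixOdd_le (Θ : Set Ω) : fixOdd G Θ ≤ fixer G Θ := (Subgroup.closure_le _).mpr fun _ hx => hx.1

theorem mem_fixOdd {Θ : Set Ω} {x : G} (hx : x ∈ fixer G Θ) (hodd : Odd (orderOf x)) : x ∈ fixOdd G Θ :=
  Subgroup.subset_closure ⟨hx, hodd⟩

/-- The odd core of the pointwise stabiliser of a set of points. -/
def coreFix (G : Type u) [Group G] [MulAction G Ω] (Θ : Set Ω) : Subgroup G := oddRad (fixer G Θ)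

theorem coreFix_le (Θ : Set Ω) : coreFix G Θ ≤ fixer G Θ := oddRad_le _

/-- The chosen circle or oval, as the set stabiliser with these centres. -/
structure Chosen {G : Type u} [Group G] [Finite G] (Ω : Type u) [MulAction G Ω] {Z : Set G} (hQ : Hyp G Ω Z)
    (e : ℕ) (M : Subgroup G) : Prop where
  carries : Carries Ω Z e M
  stable : ∀ x : G, (∀ c ∈ centres Ω Z M, x • c ∈ centres Ω Z M) → x ∈ M
  maxq : ∀ X : Subgroup G, Carries Ω Z e X → qTop hQ X ≤ qTop hQ M
  shape : Nat.card (centres Ω Z M) = qTop hQ M + 1 ∨ (Nat.card (centres Ω Z M) = qTop hQ M ^ 2 + 1 ∧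
    ∀ X : Subgroup G, Carries Ω Z e X → qTop hQ X = qTop hQ M →
      Nat.card (centres Ω Z X) = qTop hQ M ^ 2 + 1 ∧
      (fixOdd G (centres Ω Z M) ≤ fixOdd G (centres Ω Z X) →
        fixOdd G (centres Ω Z X) = fixOdd G (centres Ω Z M)))

variable [Finite G] [FaithfulSMul G Ω] (hQ : Hyp G Ω Z) {e : ℕ}
include hQ

theorem carries_of_one {X : Subgroup G} (hT : IsTop Ω Z X) {i : G} (hiX : i ∈ X) (hi : i ∈ Z)
    (h : e ≤ (kerBad Ω Z X i).ncard) : Carries Ω Z e X := by
  refine ⟨hT, fun j hjX hj => h.trans ?_⟩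
  obtain ⟨x, hx, rfl⟩ := invol_conj_top hQ hT hiX hi hjX hj
  have hxX := memGrp_le hx
  refine le_trans (le_of_eq ?_) (Set.ncard_le_ncard (s := (fun k => x * k * x⁻¹) '' kerBad Ω Z X i) ?_ (Set.toFinite _))
  · exact (Set.ncard_image_of_injective _ fun k k' h => mul_left_cancel (mul_right_cancel h)).symm
  · rintro _ ⟨k, ⟨hkX, hki, hko, hkc⟩, rfl⟩
    refine ⟨X.mul_mem (X.mul_mem hxX hkX) (inv_mem hxX), ?_, ?_, fun c hc => ?_⟩
    · calc x * i * x⁻¹ * (x * k * x⁻¹) * (x * i * x⁻¹) = x * (i * k * i) * x⁻¹ := by group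
        _ = (x * k * x⁻¹)⁻¹ := by rw [hki]; group
    · rwa [CfsgLib.Involutions.orderOf_conj]
    · rw [mul_smul, mul_smul, hkc _ (centres_smul hQ (inv_mem hxX) hc), smul_inv_smul]

theorem four_at {X : Subgroup G} (hT : IsTop Ω Z X) {a : Ω} (ha : a ∈ centres Ω Z X) :
    ∃ v ∈ X, ∃ w ∈ X, v ∈ Z ∧ v • a = a ∧ w ∈ Z ∧ w • a = a ∧ v ≠ w ∧ v * w = w * v := by
  obtain ⟨x, hx, y, hy, hxi, hyi, hne, hcom⟩ := hT.four
  obtain ⟨i, hiX, hi, hia⟩ := ha
  obtain ⟨z, hz, hzx⟩ := invol_conj_top hQ hT hx hxi hiX hi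
  have hzX := memGrp_le hz
  have hcom' : (z * y * z⁻¹) * i = i * (z * y * z⁻¹) := by rw [← hzx, conj_mul, conj_mul, hcom]
  refine ⟨i, hiX, z * y * z⁻¹, X.mul_mem (X.mul_mem hzX hy) (inv_mem hzX), hi, hia, hQ.conj y hyi z, ?_, ?_,
    hcom'.symm⟩
  · exact commute_fix hQ hi hia hcom'
  · exact fun e => hne (mul_left_cancel (mul_right_cancel (hzx.trans e)))

theorem even_qTop {X : Subgroup G} (hT : IsTop Ω Z X) (hB : Below.{u} (Nat.card G)) :
    Even (qTop hQ X) ∧ 4 ≤ qTop hQ X := by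
  obtain ⟨f, hf2, hf⟩ := qTop_two_pow hQ hT hB
  rw [hf]
  exact ⟨even_two.pow_of_ne_zero (by omega),
    le_trans (by norm_num) (Nat.pow_le_pow_right (by norm_num : 1 ≤ 2) hf2)⟩

/-- An odd invariant set of centres stabilised by the members at its points. -/
theorem carries_setStab (he : 1 < e) {X : Subgroup G} (hX : Carries Ω Z e X) {Θ : Set Ω}
    (hΘ : Θ ⊆ centres Ω Z X) (hodd : Odd (Nat.card Θ)) {a b : Ω} (ha : a ∈ Θ) (hb : b ∈ Θ) (hne : b ≠ a)
    (hst : ∀ i ∈ X, i ∈ Z → ∀ d ∈ Θ, i • d = d → i ∈ setStab G Θ) :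
    centres Ω Z (setStab G Θ) = Θ ∧ Carries Ω Z e (setStab G Θ) := by
  haveI := finite_points hQ
  set M := setStab G Θ
  have hcen : centres Ω Z M = Θ := by
    refine Set.Subset.antisymm ?_ fun c hc => ?_
    · rintro c ⟨i, hiM, hi, hic⟩
      classical
      haveI := Fintype.ofFinite Θ
      haveI : Fact (Nat.Prime 2) := ⟨Nat.prime_two⟩
      have hii := hQ.inv i hi
      let σ : Equiv.Perm Θ := Function.Involutive.toPerm (fun d => ⟨i • (d : Ω), (hiM _).mpr d.2⟩)
        (fun d => Subtype.ext (hii.smul_twice (d : Ω)))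
      have hcard : ¬ 2 ∣ Fintype.card Θ := by
        rw [← Nat.card_eq_fintype_card]
        exact hodd.not_two_dvd_nat
      obtain ⟨d, hd⟩ := Equiv.Perm.exists_fixed_point_of_prime hcard (σ := σ) (n := 1) (by
        rw [pow_one, pow_two]
        exact Equiv.ext fun d => Subtype.ext (hii.smul_twice (d : Ω)))
      rw [eq_of_fix hQ hi hic (congrArg Subtype.val hd)]
      exact d.2
    · obtain ⟨i, hiX, hi, hic⟩ := hΘ hc
      exact ⟨i, hst i hiX hi c hc hic, hi, hic⟩
  obtain ⟨v, hvX, w, hwX, hv, hva, hw, hwa, hvw, hcom⟩ := four_at hQ hX.top (hΘ ha)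
  have hvM := hst v hvX hv a ha hva
  have hT : IsTop Ω Z M := by
    refine ⟨fun htop => ?_, ⟨v, hvM, w, hst w hwX hw a ha hwa, hv, hw, hvw, hcom⟩,
      ⟨a, b, hcen.symm ▸ ha, hcen.symm ▸ hb, hne⟩⟩
    haveI := pretransitive hQ
    have huniv : ∀ c : Ω, c ∈ Θ := fun c => by
      obtain ⟨g, rfl⟩ := exists_smul_eq G a c
      exact ((htop.symm ▸ Subgroup.mem_top g : g ∈ M) a).mpr ha
    have hsub : kerBad Ω Z X v ⊆ {1} := fun x hx => Set.mem_singleton_iff.mpr
      (eq_of_smul_eq_smul (α := Ω) fun c => by rw [one_smul]; exact hx.2.2.2 c (hΘ (huniv c)))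
    have h1 := (hX.ker v hvX hv).trans (Set.ncard_le_ncard hsub)
    rw [Set.ncard_singleton] at h1
    omega
  refine ⟨hcen, carries_of_one hQ hT hvM hv ((hX.ker v hvX hv).trans (Set.ncard_le_ncard ?_ (Set.toFinite _)))⟩
  rintro x ⟨-, hxv, hxo, hxc⟩
  exact ⟨fixer_le_setStab (mem_fixer.mpr fun c hc => hxc c (hΘ hc)), hxv, hxo,
    fun c hc => hxc c (hΘ (hcen ▸ hc))⟩

theorem circ_eq_of_mem {X : Subgroup G} (hT : IsTop Ω Z X) (hB : Below.{u} (Nat.card G)) {a b c : Ω}
    (ha : a ∈ centres Ω Z X) (hb : b ∈ centres Ω Z X) (hne : b ≠ a) (hc : c ∈ circ Z X a b) (hca : c ≠ a) :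
    circ Z X a c = circ Z X a b := by
  haveI := finite_points hQ
  have hcX := circ_subset hQ ha hb hc
  refine Set.eq_of_subset_of_ncard_le ?_ (le_of_eq ?_) (Set.toFinite _)
  · rintro d (rfl | rfl | ⟨i, hiX, hi, hia, rfl⟩)
    · exact Or.inl rfl
    · exact hc
    · exact smul_circ_invol hQ hT hB ha hb hne hiX hi hia hc
  · rw [← Nat.card_coe_set_eq, ← Nat.card_coe_set_eq, card_circ hQ hT hB ha hb hne,
      card_circ hQ hT hB ha hcX hca]

/-- A member which is not of Suzuki type gives one whose centres form a circle. -/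
theorem exists_circle_member (hB : Below.{u} (Nat.card G)) (he : 1 < e) {X : Subgroup G} (hX : Carries Ω Z e X)
    (hq : Nat.card (centres Ω Z X) ≠ qTop hQ X ^ 2 + 1) :
    ∃ M : Subgroup G, Carries Ω Z e M ∧ qTop hQ X ≤ qTop hQ M ∧ Nat.card (centres Ω Z M) = qTop hQ X + 1 ∧
      ∀ x : G, (∀ c ∈ centres Ω Z M, x • c ∈ centres Ω Z M) → x ∈ M := by
  haveI := finite_points hQ
  obtain ⟨a, b, ha, hb, hne⟩ := hX.top.two
  set Θ := circ Z X a b
  have haΘ : a ∈ Θ := Or.inl rfl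
  have hbΘ : b ∈ Θ := Or.inr (Or.inl rfl)
  have hΘX : Θ ⊆ centres Ω Z X := circ_subset hQ ha hb
  have hcard : Nat.card Θ = qTop hQ X + 1 := card_circ hQ hX.top hB ha hb hne
  have hst : ∀ i ∈ X, i ∈ Z → ∀ d ∈ Θ, i • d = d → i ∈ setStab G Θ := by
    intro i hiX hi d hd hid
    have hata : ∀ j ∈ X, j ∈ Z → j • a = a → j ∈ setStab G Θ := fun j hjX hj hja =>
      mem_setStab_of_maps fun c hc => smul_circ_invol hQ hX.top hB ha hb hne hjX hj hja hc
    by_cases hda : d = a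
    · exact hata i hiX hi (hda ▸ hid)
    obtain ⟨w, hwX, hw, hwa⟩ := centres_swap hQ ha (hΘX hd) (Ne.symm hda)
    have hwi := hQ.inv w hw
    have hwS : w ∈ setStab G Θ := mem_setStab_of_maps fun c hc => by
      have heq : circ Z X a (w • a) = Θ := by rw [hwa]; exact circ_eq_of_mem hQ hX.top hB ha hb hne hd hda
      rw [← heq] at hc ⊢
      exact circ_swap hQ hX.top hB hq ha hwX hw (hwa ▸ hda) hc
    have hj : w * i * w ∈ setStab G Θ := by
      refine hata _ (X.mul_mem (X.mul_mem hwX hiX) hwX) (by simpa [hwi.inv] using hQ.conj i hi w) ?_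
      rw [mul_smul, mul_smul, hwa, hid, ← hwa, hwi.smul_twice]
    have := (setStab G Θ).mul_mem ((setStab G Θ).mul_mem hwS hj) hwS
    rwa [show w * (w * i * w) * w = (w * w) * i * (w * w) by group, hwi.2, one_mul, mul_one] at this
  obtain ⟨hcen, hM⟩ := carries_setStab hQ he hX hΘX
    (by rw [hcard]; exact (even_qTop hQ hX.top hB).1.add_one) haΘ hbΘ hne hst
  refine ⟨setStab G Θ, hM, ?_, by rw [hcen, hcard], fun x hx => ?_⟩
  · have hsub : Θ ⊆ circ Z (setStab G Θ) a b := by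
      rintro c (rfl | rfl | ⟨i, hiX, hi, hia, rfl⟩)
      · exact Or.inl rfl
      · exact Or.inr (Or.inl rfl)
      · exact Or.inr (Or.inr ⟨i, hst i hiX hi a haΘ hia, hi, hia, rfl⟩)
    have h1 := Set.ncard_le_ncard hsub (Set.toFinite _)
    rw [← Nat.card_coe_set_eq, ← Nat.card_coe_set_eq, hcard,
      card_circ hQ hM.top hB (hcen.symm ▸ haΘ) (hcen.symm ▸ hbΘ) hne] at h1
    omega
  · rw [hcen] at hx
    exact mem_setStab_of_maps hx

theorem exists_chosen (hB : Below.{u} (Nat.card G)) (he : 1 < e) (hL : LMember G Ω Z e) :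
    ∃ M : Subgroup G, Chosen Ω hQ e M := by
  haveI := finite_points hQ
  obtain ⟨X0, u, g, hX0, h4, hu, huX, hug, ⟨c, hc, hcg⟩, hker⟩ := hL
  have hT0 : IsTop Ω Z X0 := ⟨hX0, h4, g, c, mem_centres huX hu hug, hc, hcg⟩
  have h0 : Carries Ω Z e X0 := carries_of_one hQ hT0 huX hu hker
  obtain ⟨X1, hX1, hmax⟩ := Set.exists_max_image {X : Subgroup G | Carries Ω Z e X} (qTop hQ) (Set.toFinite _)
    ⟨X0, h0⟩
  set q := qTop hQ X1
  by_cases hcirc : ∃ X : Subgroup G, Carries Ω Z e X ∧ qTop hQ X = q ∧ Nat.card (centres Ω Z X) ≠ q ^ 2 + 1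
  · obtain ⟨X, hX, hXq, hXn⟩ := hcirc
    obtain ⟨M, hM, hle, hcard, hst⟩ := exists_circle_member hQ hB he hX (hXq ▸ hXn)
    have hMq : qTop hQ M = q := le_antisymm (hmax M hM) (hXq ▸ hle)
    exact ⟨M, hM, hst, fun Y hY => hMq ▸ hmax Y hY, Or.inl (by rw [hcard, hXq, hMq])⟩
  push Not at hcirc
  obtain ⟨X, ⟨hX, hXq⟩, hbig⟩ := Set.exists_max_image {X : Subgroup G | Carries Ω Z e X ∧ qTop hQ X = q}
    (fun X => Nat.card (fixOdd G (centres Ω Z X))) (Set.toFinite _) ⟨X1, hX1, rfl⟩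
  obtain ⟨a, b, ha, hb, hne⟩ := hX.top.two
  obtain ⟨hev, h4q⟩ := even_qTop hQ hX.top hB
  have hodd : Odd (Nat.card (centres Ω Z X)) := by
    rw [hcirc X hX hXq]
    exact ((hXq ▸ hev).pow_of_ne_zero two_ne_zero).add_one
  obtain ⟨hcen, hM⟩ := carries_setStab hQ he hX subset_rfl hodd ha hb hne
    (fun i hiX hi d hd hid => mem_setStab_of_maps (fun c hc => centres_smul hQ hiX hc))
  set M := setStab G (centres Ω Z X)
  have hMq : qTop hQ M = q := by
    refine le_antisymm (hmax M hM) (hXq ▸ ?_)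
    refine (qTop_le hQ hB hX.top hM.top ha (fun i hiX hi hia => ?_) (by rw [hcen])).1
    exact mem_setStab_of_maps fun c hc => centres_smul hQ hiX hc
  refine ⟨M, hM, fun x hx => mem_setStab_of_maps (hcen ▸ hx), fun Y hY => hMq ▸ hmax Y hY,
    Or.inr ⟨by rw [hcen, hMq, hcirc X hX hXq],
      fun Y hY hYq => ⟨hMq.symm ▸ hcirc Y hY (hYq.trans hMq), fun hle => ?_⟩⟩⟩
  rw [hcen] at hle ⊢
  exact (Subgroup.eq_of_le_of_card_ge hle (hbig Y ⟨hY, hYq.trans hMq⟩)).symm

/-- A member has odd product with its conjugates under the kernel of a top. -/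
theorem odd_mul_conj_fixer {X : Subgroup G} (hT : IsTop Ω Z X) {i k : G} (hiX : i ∈ X) (hi : i ∈ Z)
    (hkX : k ∈ X) (hk : k ∈ fixer G (centres Ω Z X)) : Odd (orderOf (i * (k * i * k⁻¹))) := by
  refine odd_mul_of_img_eq hQ hT (x := ⟨i, hiX⟩) (y := ⟨k * i * k⁻¹, X.mul_mem (X.mul_mem hkX hiX) (inv_mem hkX)⟩)
    hi (hQ.conj i hi k) (img_eq_of_smul fun c hc => ?_)
  have h1 : k⁻¹ • c = c := inv_smul_eq_iff.mpr (mem_fixer.mp hk c hc).symm
  rw [mul_smul, mul_smul, h1, mem_fixer.mp hk _ (centres_smul hQ hiX hc)]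

section Chosen

variable (hB : Below.{u} (Nat.card G)) (he : 1 < e) {M : Subgroup G} (hM : Chosen Ω hQ e M)
include hB he hM

theorem fixer_le : fixer G (centres Ω Z M) ≤ M := fun x hx =>
  hM.stable x fun c hc => by rwa [mem_fixer.mp hx c hc]

omit hB he in
theorem le_normalizer_fixer : M ≤ Subgroup.normalizer (fixer G (centres Ω Z M) : Set G) := fun x hx =>
  haveI := finite_points hQ
  setStab_le_normalizer (mem_setStab_of_maps (Θ := centres Ω Z M) (h := fun c hc => centres_smul hQ hx hc))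

omit hB he in
theorem le_normalizer_coreFix : M ≤ Subgroup.normalizer (coreFix G (centres Ω Z M) : Set G) :=
  (le_normalizer_fixer hQ hM).trans (le_normalizer_oddRad _)

theorem coreFix_le_self : coreFix G (centres Ω Z M) ≤ M := (coreFix_le _).trans (fixer_le hQ hB he hM)

/-- The members of `M` move the kernel only modulo its odd core. -/
theorem comm_mem_coreFix {i k : G} (hiM : i ∈ M) (hi : i ∈ Z) (hk : k ∈ fixer G (centres Ω Z M)) :
    i * k * i⁻¹ * k⁻¹ ∈ coreFix G (centres Ω Z M) :=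
  comm_mem_oddRad (hQ.inv i hi) (le_normalizer_fixer hQ hM hiM)
    (fun _ hk' => odd_mul_conj_fixer hQ hM.carries.top hiM hi (fixer_le hQ hB he hM hk') hk') hk

/-- An element of odd order of the kernel inverted by a member of `M` lies in its odd core. -/
theorem inverted_mem_coreFix {i x : G} (hiM : i ∈ M) (hi : i ∈ Z) (hx : x ∈ fixer G (centres Ω Z M))
    (hodd : Odd (orderOf x)) (hinv : i * x * i = x⁻¹) : x ∈ coreFix G (centres Ω Z M) := by
  refine CfsgLib.Bender.TwoClosed.mem_of_sq_mem hodd ?_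
  have h := inv_mem (comm_mem_coreFix hQ hB he hM hiM hi hx)
  rwa [(hQ.inv i hi).inv, hinv, mul_inv_rev, inv_inv] at h

theorem kerBad_subset_coreFix {i : G} (hiM : i ∈ M) (hi : i ∈ Z) :
    kerBad Ω Z M i ⊆ (coreFix G (centres Ω Z M) : Set G) := fun _ hx =>
  inverted_mem_coreFix hQ hB he hM hiM hi (mem_fixer.mpr hx.2.2.2) hx.2.2.1 hx.2.1

/-- A subgroup containing the members at `a`, a swapper and the inverted kernel elements of that swapper carries
them, has the same `q` and contains the circle. -/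
theorem normalizer_top {a b : Ω} (ha : a ∈ centres Ω Z M) (hb : b ∈ centres Ω Z M) (hne : b ≠ a) {u : G}
    (huM : u ∈ M) (hu : u ∈ Z) (hua : u • a = b) {Y : Subgroup G} (hY : Y ≠ ⊤) (huY : u ∈ Y)
    (hinv : ∀ i ∈ M, i ∈ Z → i • a = a → i ∈ Y) (hker : kerBad Ω Z M u ⊆ Y) :
    Carries Ω Z e Y ∧ qTop hQ Y = qTop hQ M ∧ circ Z Y a b = circ Z M a b := by
  haveI := finite_points hQ
  obtain ⟨v, hvM, w, hwM, hv, hva, hw, hwa, hvw, hcom⟩ := four_at hQ hM.carries.top ha
  have haY : a ∈ centres Ω Z Y := mem_centres (hinv v hvM hv hva) hv hva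
  have hbY : b ∈ centres Ω Z Y := hua ▸ centres_smul hQ huY haY
  have hT : IsTop Ω Z Y :=
    ⟨hY, ⟨v, hinv v hvM hv hva, w, hinv w hwM hw hwa, hv, hw, hvw, hcom⟩, a, b, haY, hbY, hne⟩
  obtain ⟨g, hug⟩ := exists_fix hQ hu
  have hgM : g ∈ centres Ω Z M := mem_centres huM hu hug
  have hY' : Carries Ω Z e Y := by
    refine carries_of_one hQ hT huY hu ((hM.carries.ker u huM hu).trans (Set.ncard_le_ncard ?_ (Set.toFinite _)))
    intro x hx
    obtain ⟨hxM, hxu, hxo, hxc⟩ := id hx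
    have hga : a ≠ g := fun e => hne (by rw [← hua, e, hug])
    exact ⟨hker hx, hxu, hxo, fun c hc => inverted_fix_centres hQ hB hY hT.four hu huY hug ⟨a, haY, hga⟩
      (hker hx) (hxc g hgM) hxu hxo hc⟩
  have hsub : circ Z M a b ⊆ circ Z Y a b := by
    rintro c (rfl | rfl | ⟨i, hiM, hi, hia, rfl⟩)
    · exact Or.inl rfl
    · exact Or.inr (Or.inl rfl)
    · exact Or.inr (Or.inr ⟨i, hinv i hiM hi hia, hi, hia, rfl⟩)
  have h1 := Set.ncard_le_ncard hsub (Set.toFinite _)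
  rw [← Nat.card_coe_set_eq, ← Nat.card_coe_set_eq, card_circ hQ hM.carries.top hB ha hb hne,
    card_circ hQ hT hB haY hbY hne] at h1
  have hq : qTop hQ Y = qTop hQ M := le_antisymm (hM.maxq Y hY') (by omega)
  refine ⟨hY', hq, (Set.eq_of_subset_of_ncard_le hsub ?_ (Set.toFinite _)).symm⟩
  rw [← Nat.card_coe_set_eq, ← Nat.card_coe_set_eq, card_circ hQ hM.carries.top hB ha hb hne,
    card_circ hQ hT hB haY hbY hne, hq]

/-- Q1: two-point stabilisers only normalise the invariant subgroups of the fixer inside the chosen stabiliser. -/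
theorem normalizer_inf_two_le {a b : Ω} (ha : a ∈ centres Ω Z M) (hb : b ∈ centres Ω Z M) (hne : b ≠ a) {u : G}
    (huM : u ∈ M) (hu : u ∈ Z) (hua : u • a = b) {J : Subgroup G} (hJ : J ≠ ⊥)
    (hJK : J ≤ fixer G (centres Ω Z M)) (huJ : u ∈ Subgroup.normalizer (J : Set G))
    (hinv : ∀ i ∈ M, i ∈ Z → i • a = a → i ∈ Subgroup.normalizer (J : Set G))
    (hcore : coreFix G (centres Ω Z M) ≤ Subgroup.normalizer (J : Set G)) :
    two a b ⊓ Subgroup.normalizer (J : Set G) ≤ M := by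
  haveI := finite_points hQ
  set Y := Subgroup.normalizer (J : Set G)
  have hker : kerBad Ω Z M u ⊆ Y := fun x hx => hcore (kerBad_subset_coreFix hQ hB he hM huM hu hx)
  have hY : Y ≠ ⊤ := fun e => by
    haveI := Subgroup.normalizer_eq_top_iff.mp e
    exact hJ (eq_bot_of_normal hQ fun x hx => mem_fixer.mp (hJK hx) a ha)
  obtain ⟨hYc, hYq, hcirc⟩ := normalizer_top hQ hB he hM ha hb hne huM hu hua hY huJ hinv hker
  intro x hx
  obtain ⟨hxa, hxb⟩ := mem_two.mp hx.1
  rcases hM.shape with h | ⟨h, hsz⟩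
  · refine hM.stable x fun c hc => ?_
    rw [← circ_eq_centres hQ hM.carries.top hB ha hb hne h, ← hcirc] at hc ⊢
    exact smul_circ_of_two hQ hx.2 hxa hxb hc
  · set W := M ⊓ Y
    obtain ⟨hWc, hWq, -⟩ := normalizer_top hQ hB he hM ha hb hne huM hu hua (Y := W)
      (fun e => hY (top_le_iff.mp (e ▸ inf_le_right))) ⟨huM, huJ⟩ (fun i hiM hi hia => ⟨hiM, hinv i hiM hi hia⟩)
      (fun y hy => ⟨hy.1, hker hy⟩)
    have hW2 := (hsz W hWc hWq).1
    have hY2 := (hsz Y hYc hYq).1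
    have e1 : centres Ω Z W = centres Ω Z M := Set.eq_of_subset_of_ncard_le (centres_mono inf_le_left)
      (by rw [← Nat.card_coe_set_eq, ← Nat.card_coe_set_eq, h, hW2]) (Set.toFinite _)
    have e2 : centres Ω Z W = centres Ω Z Y := Set.eq_of_subset_of_ncard_le (centres_mono inf_le_right)
      (by rw [← Nat.card_coe_set_eq, ← Nat.card_coe_set_eq, hY2, hW2]) (Set.toFinite _)
    refine hM.stable x fun c hc => ?_
    rw [← e1, e2] at hc ⊢
    exact centres_smul hQ hx.2 hc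

end Chosen

end CfsgLib.Bender.Q
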