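import Cfsg.Agent.Lib.Bender.Q.B1.Line
import Cfsg.Agent.Lib.Bender.B1.RankOneEnd

/-!
Case 1 of B1: a maximal number `e > 1` of inverted elements forces a kernel of Lie type.

Blueprint: `blueprint/bender/Q_B1.md` 3.
-/

set_option autoImplicit false
set_option linter.unusedSectionVars false
set_option linter.style.haveILetI false
set_option linter.unusedVariables false

namespace CfsgLib.Bender.Q

open MulAction CfsgLib.SuzukiRankOne Cfsg
open CfsgLib.Bender.Ext (IsSylowOf centOther mem_centOther pCoreOf_le isPGroup_pCoreOf normalizer_le_pCoreOf)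
open CfsgLib.Bender.TwoClosed (IsInv two mem_two smul_conj odd_orderOf mem_normalizer_of_conj conj_mem_of_normalizer)
open CfsgLib.Bender.B1 (invol_conj_mul invol_conj_inv invol_conj_conj le_pCoreOf' pCoreOf_mono
  mem_fittingOf_of_centralizes cent_other_step commute_of_inverted_fixed inverted_centralize coprime_closure_facts
  eq_bot_of_coprime_closure omegaZ normalizer_le_omegaZ omegaZ_ne_bot card_lt_of_coprime_faithful)

universe u

variable {G : Type u} [Group G] [Finite G]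

/-- Two odd subgroups of which the second normalises the first generate an odd subgroup. -/
theorem odd_sup_of_le_normalizer {A B : Subgroup G} (hA : Odd (Nat.card A)) (hB : Odd (Nat.card B))
    (hn : B ≤ Subgroup.normalizer (A : Set G)) : Odd (Nat.card ↥(A ⊔ B)) := by
  haveI : (A.subgroupOf (A ⊔ B)).Normal :=
    (Subgroup.normal_subgroupOf_iff_le_normalizer le_sup_left).mpr (sup_le Subgroup.le_normalizer hn)
  have h := CfsgLib.card_sup_dvd_mul (B.subgroupOf (A ⊔ B)) (A.subgroupOf (A ⊔ B))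
  rw [Nat.card_congr (Subgroup.subgroupOfEquivOfLe (le_sup_right : B ≤ A ⊔ B)).toEquiv,
    Nat.card_congr (Subgroup.subgroupOfEquivOfLe (le_sup_left : A ≤ A ⊔ B)).toEquiv,
    ← Subgroup.subgroupOf_sup le_sup_right le_sup_left, sup_comm B A, Subgroup.subgroupOf_self, Subgroup.card_top] at h
  exact (hB.mul hA).of_dvd_nat h

theorem odd_of_pGroup {l : ℕ} [Fact l.Prime] (hl : l ≠ 2) {P : Subgroup G} (hP : IsPGroup l P) :
    Odd (Nat.card P) := by
  obtain ⟨k, hk⟩ := IsPGroup.iff_card.mp hP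
  rw [hk]
  exact ((Fact.out : l.Prime).odd_of_ne_two hl).pow

theorem pCoreOf_le_oddRad {l : ℕ} [Fact l.Prime] (hl : l ≠ 2) (X : Subgroup G) : pCoreOf l X ≤ oddRad X :=
  le_oddRad (pCoreOf_le l X) (odd_of_pGroup hl (isPGroup_pCoreOf l X)) fun _ hg _ hk =>
    conj_mem_of_normalizer ((Subgroup.le_normalizer.trans (normalizer_le_pCoreOf l X)) hg) hk

variable {Ω : Type u} [MulAction G Ω] [FaithfulSMul G Ω] {Z : Set G}

/-- The odd core of the pair stabiliser together with the odd core of the line stabiliser. -/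
def lineOdd (g : Ω) (r : G) : Subgroup G :=
  oddRad (two (r⁻¹ • g) (r • g) : Subgroup G) ⊔ oddRad (lineStab g r)

theorem lineStab_le_normalizer_oddRad {g : Ω} {r : G} :
    lineStab g r ≤ Subgroup.normalizer (oddRad (two (r⁻¹ • g) (r • g) : Subgroup G) : Set G) :=
  lineStab_le_two.trans (Subgroup.le_normalizer.trans (le_normalizer_oddRad _))

theorem lineOdd_le_two {g : Ω} {r : G} : lineOdd g r ≤ two (r⁻¹ • g) (r • g) :=
  sup_le (oddRad_le _) ((oddRad_le _).trans lineStab_le_two)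

theorem odd_lineOdd {g : Ω} {r : G} : Odd (Nat.card (lineOdd g r)) :=
  odd_sup_of_le_normalizer (odd_oddRad _) (odd_oddRad _) ((oddRad_le _).trans lineStab_le_normalizer_oddRad)

theorem lineStab_le_normalizer_lineOdd {g : Ω} {r : G} :
    lineStab g r ≤ Subgroup.normalizer (lineOdd g r : Set G) := by
  intro y hy
  have h1 := lineStab_le_normalizer_oddRad hy
  have h2 := (Subgroup.le_normalizer.trans (le_normalizer_oddRad (lineStab g r))) hy
  refine mem_normalizer_of_conj fun x hx => ?_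
  have : (lineOdd g r).map (MulAut.conj y).toMonoidHom ≤ lineOdd g r := by
    rw [lineOdd, Subgroup.map_sup]
    exact sup_le_sup (Subgroup.map_le_iff_le_comap.mpr fun z hz => conj_mem_of_normalizer h1 hz)
      (Subgroup.map_le_iff_le_comap.mpr fun z hz => conj_mem_of_normalizer h2 hz)
  exact this ⟨x, hx, rfl⟩

theorem lineOdd_inf {g : Ω} {r : G} : lineOdd g r ⊓ lineStab g r ≤ oddRad (lineStab g r) :=
  le_oddRad inf_le_right (odd_lineOdd.of_dvd_nat (Subgroup.card_dvd_of_le inf_le_left)) fun _ hm _ hk =>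
    ⟨conj_mem_of_normalizer (lineStab_le_normalizer_lineOdd hm) hk.1,
      Subgroup.mul_mem _ (Subgroup.mul_mem _ hm hk.2) (Subgroup.inv_mem _ hm)⟩

variable {K M : Subgroup G} {e : ℕ} {u : G} {g : Ω} {r : G}
variable (hQ : Hyp G Ω Z) (h4G : FourIn Z ⊤) (hM : MaxBad G Ω Z e) (he : 1 < e)
include hQ h4G hM he

omit hM he h4G in
theorem u_normalizer_two (h : Line Z e u g r) :
    u ∈ Subgroup.normalizer ((two (r⁻¹ • g) (r • g) : Subgroup G) : Set G) :=
  mem_normalizer_two hQ (line_ne h).symm h.mem (u_smul_two h)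

omit hM he h4G in
theorem kerLine_subset (h : Line Z e u g r) :
    kerLine u g r ⊆ (oddRad (two (r⁻¹ • g) (r • g) : Subgroup G) : Set G) := fun x hx =>
  inverted_mem_oddRad hQ (line_ne h).symm h.mem (u_smul_two h) (lineStab_le_two hx.1) hx.2.2 hx.2.1

omit hM h4G in
theorem exists_ker_ne_one (h : Line Z e u g r) : ∃ x ∈ kerLine u g r, x ≠ 1 := by
  obtain ⟨x, hx, hx'⟩ := Set.exists_ne_of_one_lt_ncard (lt_of_lt_of_le he h.ker) 1
  exact ⟨x, hx, hx'⟩

omit h4G he in
/-- P1 for a subgroup normalised by the line stabiliser. -/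
theorem inf_normalizer_le (h : Line Z e u g r) (hnf : NoFourLine Z K M u g r) (hK : K ≤ lineStab g r)
    {W : Subgroup G} (hW : W ≠ ⊥) (hWY : W ≤ lineStab g r) (hY : lineStab g r ≤ Subgroup.normalizer (W : Set G))
    (hu : u ∈ Subgroup.normalizer (W : Set G)) (hr : r ∈ Subgroup.normalizer (W : Set G)) :
    two (r⁻¹ • g) (r • g) ⊓ Subgroup.normalizer (W : Set G) ≤ lineStab g r :=
  normalizer_inf_two hQ hM h (hnf W hW hWY (fun _ hx => hY hx.1) (hK.trans hY) hu hr (Or.inl hY))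
    (fun _ hx => hY hx.1) hu hr

/-- P3: some core of the odd group over the line stabiliser is not in the line stabiliser. -/
theorem exists_core_not_le (h : Line Z e u g r) (hnf : NoFourLine Z K M u g r) (hK : K ≤ lineStab g r) :
    ∃ l : ℕ, l.Prime ∧ l ≠ 2 ∧ ¬ pCoreOf l (lineOdd g r) ≤ lineStab g r := by
  by_contra hall'
  push Not at hall'
  set W := lineOdd g r
  set Y := lineStab g r
  set Y' := oddRad Y
  have hWodd : Odd (Nat.card W) := odd_lineOdd
  have hno2 : ∀ s : ℕ, s.Prime → s = 2 → pCoreOf s W = ⊥ := by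
    rintro s - rfl
    haveI := Fact.mk Nat.prime_two
    obtain ⟨k, hk⟩ := IsPGroup.iff_card.mp (isPGroup_pCoreOf 2 W)
    refine Subgroup.eq_bot_of_card_eq _ ?_
    rcases Nat.eq_zero_or_pos k with rfl | hk0
    · rw [hk, pow_zero]
    · exact absurd ((hk ▸ dvd_pow_self 2 hk0.ne').trans (Subgroup.card_dvd_of_le (pCoreOf_le 2 W)))
        hWodd.not_two_dvd_nat
  have hall : ∀ s : ℕ, s.Prime → pCoreOf s W ≤ Y' := fun s hs => by
    by_cases h2 : s = 2
    · rw [hno2 s hs h2]; exact bot_le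
    · exact (le_inf (pCoreOf_le s W) (hall' s hs h2)).trans lineOdd_inf
  have hYW : Y' ≤ W := le_sup_right
  have hWD : W ≤ two (r⁻¹ • g) (r • g) := lineOdd_le_two
  haveI : Group.IsSolvable W := Cfsg.Agent.S0205.result hWodd
  obtain ⟨x, hx, hx1⟩ := exists_ker_ne_one hQ he h
  obtain ⟨q, hq, hqD⟩ : ∃ q : ℕ, q.Prime ∧ pCoreOf q W ≠ ⊥ := by
    by_contra hno
    push Not at hno
    have hxF : x ∈ fittingOf W := mem_fittingOf_of_centralizes
      (le_sup_left (b := oddRad (lineStab g r)) (kerLine_subset hQ h hx)) fun s hs t ht => by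
      rw [hno s hs, Subgroup.mem_bot] at ht
      rw [ht, one_mul, mul_one]
    refine hx1 ?_
    rw [fittingOf, CfsgLib.fittingSubgroup_eq_iSup_pCore, Subgroup.map_iSup] at hxF
    have : (⨆ p : Nat.Primes, pCoreOf (p : ℕ) W) = ⊥ := iSup_eq_bot.mpr fun p => hno p p.2
    exact Subgroup.mem_bot.mp (this.le hxF)
  haveI := Fact.mk hq
  have hq2 : q ≠ 2 := fun e0 => hqD (hno2 q hq e0)
  have hY'odd : Odd (Nat.card Y') := odd_oddRad Y
  set Cy := Y' ⊓ centOther q Y'
  set Cd := W ⊓ centOther q W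
  have hCyd : Cy ≤ Cd := fun y hy => ⟨hYW hy.1, mem_centOther.mpr fun s hs hsq t ht =>
    mem_centOther.mp hy.2 s hs hsq t (pCoreOf_mono hYW (hall s hs) ht)⟩
  obtain ⟨I, hI⟩ := CfsgLib.Bender.Ext.exists_isSylowOf q Cy
  have hqY : pCoreOf q Y' ≤ Cy := fun y hy => ⟨pCoreOf_le q Y' hy, mem_centOther.mpr fun s hs hsq t ht => by
    haveI := Fact.mk hs
    have hd : Disjoint (pCoreOf s Y') (pCoreOf q Y') :=
      IsPGroup.disjoint_of_ne s q hsq _ _ (isPGroup_pCoreOf s Y') (isPGroup_pCoreOf q Y')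
    have hd' := hd.symm
    exact CfsgLib.Bender.Ext.commute_of_inf_eq_bot
      ((pCoreOf_le q Y').trans (Subgroup.le_normalizer.trans (normalizer_le_pCoreOf s Y')))
      ((pCoreOf_le s Y').trans (Subgroup.le_normalizer.trans (normalizer_le_pCoreOf q Y')))
      (disjoint_iff.mp hd') hy t ht⟩
  have hI0 : I ≠ ⊥ := by
    intro e0
    have h1 := hI.not_dvd
    rw [e0, Subgroup.relIndex_bot_left] at h1
    refine h1 (dvd_trans ?_ (Subgroup.card_dvd_of_le hqY))
    obtain ⟨k, hk⟩ := IsPGroup.iff_card.mp (isPGroup_pCoreOf q Y')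
    have hk0 : k ≠ 0 := fun e1 => hqD (le_bot_iff.mp ((pCoreOf_mono hYW (hall q hq)).trans
      (Subgroup.eq_bot_of_card_eq _ (by rw [hk, e1, pow_zero])).le))
    exact hk ▸ dvd_pow_self q hk0
  set J := CfsgLib.ZJ.zj 0 I
  have hJ : J ≠ ⊥ := CfsgLib.ZJ.zj_ne_bot (p := q) (Or.inl rfl) hI.isPGroup hI0
  have hJY : J ≤ Y := (CfsgLib.ZJ.zj_le 0 I).trans (hI.le.trans (inf_le_left.trans (oddRad_le Y)))
  have hNY := CfsgLib.Bender.Ext.zj_of_odd hY'odd hq2 hI
  have hYN := (le_normalizer_oddRad Y).trans hNY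
  have hP1 : two (r⁻¹ • g) (r • g) ⊓ Subgroup.normalizer (J : Set G) ≤ Y :=
    inf_normalizer_le hQ hM h hnf hK hJ hJY (Subgroup.le_normalizer.trans hYN) (hYN (u_normalizer h))
      (hYN r_normalizer)
  have hP1' : W ⊓ Subgroup.normalizer (J : Set G) ≤ Y' :=
    (le_inf inf_le_left ((inf_le_inf_right _ hWD).trans hP1)).trans lineOdd_inf
  have hI' : IsSylowOf q I Cd := by
    refine ⟨hI.le.trans hCyd, hI.isPGroup, ?_⟩
    have hIp : IsPGroup q (I.subgroupOf Cd) :=
      hI.isPGroup.of_equiv (Subgroup.subgroupOfEquivOfLe (hI.le.trans hCyd)).symm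
    obtain ⟨S, hS⟩ := hIp.exists_le_sylow
    suffices heq : (S : Subgroup Cd) = I.subgroupOf Cd by
      rw [Subgroup.relIndex, ← heq]
      exact S.not_dvd_index
    by_contra hne
    set S' := (S : Subgroup Cd).map Cd.subtype with hS'def
    have hS'p : IsPGroup q S' := S.isPGroup'.map _
    have hIS : I ≤ S' := fun z hz => ⟨⟨z, hI.le.trans hCyd hz⟩, hS hz, rfl⟩
    have hlt : I.subgroupOf S' < ⊤ := lt_of_le_of_ne le_top fun e0 => hne (le_antisymm (fun z hz => by
      rw [Subgroup.mem_subgroupOf]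
      exact (Subgroup.subgroupOf_eq_top.mp e0) ⟨z, hz, rfl⟩) hS)
    haveI : Group.IsNilpotent S' := hS'p.isNilpotent
    obtain ⟨y, hyN, hyI⟩ := SetLike.exists_of_lt (Group.normalizerCondition_of_isNilpotent _ hlt)
    refine hyI ?_
    rw [Subgroup.mem_subgroupOf]
    obtain ⟨⟨y', hy'⟩, -, hyy⟩ := y.2
    have hyCd : (y : G) ∈ Cd := by rw [← hyy]; exact hy'
    have hyI' : (y : G) ∈ Subgroup.normalizer (I : Set G) := mem_normalizer_of_conj fun z hz =>
      (Subgroup.mem_normalizer_iff.mp hyN ⟨z, hIS hz⟩).mp hz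
    obtain ⟨k, hk⟩ := hS'p y
    have hk' : (y : G) ^ q ^ k = 1 := congrArg Subtype.val hk
    have hyY : (y : G) ∈ Y' := hP1' ⟨hyCd.1, CfsgLib.ZJ.normalizer_le_normalizer_zj 0 I hyI'⟩
    have hyCy : (y : G) ∈ Cy := ⟨hyY, cent_other_step hYW hall hyCd.1 hyCd.2 hk'⟩
    -- a `q`-subgroup of `Cy` above `I`
    by_contra hyI0
    have hS'C : IsPGroup q (S' ⊓ Cy : Subgroup G) := hS'p.to_le inf_le_left
    have hle : I ≤ S' ⊓ Cy := le_inf hIS hI.le
    have hdvd : I.relIndex (S' ⊓ Cy) ∣ I.relIndex Cy :=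
      Dvd.intro _ (Subgroup.relIndex_mul_relIndex I (S' ⊓ Cy) Cy hle inf_le_right)
    obtain ⟨j, hj⟩ := (hS'C.index (I.subgroupOf (S' ⊓ Cy)))
    rcases Nat.eq_zero_or_pos j with rfl | hj0
    · rw [pow_zero] at hj
      exact hyI0 ((Subgroup.index_eq_one.mp hj).symm ▸ Subgroup.mem_top _ :
        (⟨y, y.2, hyCy⟩ : (S' ⊓ Cy : Subgroup G)) ∈ I.subgroupOf (S' ⊓ Cy))
    · exact hI.not_dvd ((hj ▸ dvd_pow_self q hj0.ne').trans hdvd)
  have hND := CfsgLib.Bender.Ext.zj_of_odd hWodd hq2 hI'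
  obtain ⟨y, hy, hyg⟩ := exists_moves hQ h4G h.mem h.fix (u_smul_two h) (line_ne h).symm
  refine hyg (lineStab_fix (oddRad_le Y (hP1' ⟨le_sup_left (b := oddRad (lineStab g r)) hy, ?_⟩)))
  exact hND (Subgroup.le_normalizer (le_sup_left (b := oddRad (lineStab g r)) hy))

omit he h4G in
/-- The subgroup generated by the inverted elements is normalised by the centre stabiliser of the pair. -/
theorem closure_ker_normal (h : Line Z e u g r) :
    two (r⁻¹ • g) (r • g) ⊓ stabilizer G g ≤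
      Subgroup.normalizer (Subgroup.closure (kerLine u g r) : Set G) := by
  set A : Subgroup G := two (r⁻¹ • g) (r • g) ⊓ stabilizer G g
  have hj : ∀ a ∈ A, a⁻¹ * u * a * u ∈ kerLine u g r := by
    intro a ha
    obtain ⟨haD, hag⟩ := ha
    obtain ⟨h1, h2⟩ := mem_two.mp haD
    have hag' := mem_stabilizer_iff.mp hag
    rw [← bad_line_one hQ hM h]
    obtain ⟨hwZ, hwa⟩ := conj_swap hQ (line_ne h).symm h.mem (u_smul_two h) (Subgroup.inv_mem _ haD)
    rw [inv_inv] at hwZ hwa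
    refine ⟨?_, ?_, ?_, odd_swap hQ (line_ne h).symm hwZ hwa h.mem (u_smul_two h)⟩
    · rw [mul_inv_rev, mul_inv_rev, mul_inv_rev, inv_inv, h.inv.inv]
      calc u * (a⁻¹ * u * a * u) * u = u * (a⁻¹ * u * a) * (u * u) := by group
        _ = u * (a⁻¹ * (u * a)) := by rw [h.inv.2, mul_one, mul_assoc]
    · rw [mul_smul, h.fix, mul_smul, hag', mul_smul, h.fix, inv_smul_eq_iff, hag']
    · have hu2 : u • r • g = r⁻¹ • g := by rw [← u_smul_two h, h.inv.smul_twice]
      rw [mul_smul, hu2, mul_smul, h1, mul_smul, u_smul_two h, inv_smul_eq_iff, h2]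
  intro a ha
  refine mem_normalizer_of_conj fun x hx => ?_
  induction hx using Subgroup.closure_induction with
  | mem x hx =>
    obtain ⟨k, hk⟩ := CfsgLib.Involutions.exists_sqrt hx.2.2
    set s := x ^ k
    have hsA : s ∈ A := by
      have hxA : x ∈ A := ⟨lineStab_le_two hx.1, mem_stabilizer_iff.mpr (lineStab_fix hx.1)⟩
      exact pow_mem hxA k
    have hsu : u * s⁻¹ * u = s := by
      have h1 := conj_pow (i := k) (a := u) (b := x)
      rw [h.inv.inv] at h1
      rw [invol_conj_inv h.inv.2, ← h1, hx.2.1, inv_pow, inv_inv]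
    have h1 : s⁻¹ * a⁻¹ ∈ A := A.mul_mem (inv_mem hsA) (inv_mem ha)
    have h2 := hj _ h1
    have h3 := hj _ (inv_mem ha)
    have e1 : a * x * a⁻¹ =
        ((s⁻¹ * a⁻¹)⁻¹ * u * (s⁻¹ * a⁻¹) * u) * ((a⁻¹)⁻¹ * u * a⁻¹ * u)⁻¹ := by
      calc a * x * a⁻¹ = a * (s * (u * s⁻¹ * u)) * a⁻¹ := by rw [hsu, hk]
        _ = a * s * u * s⁻¹ * a⁻¹ * (u * u) * a * u * a⁻¹ := by rw [h.inv.2]; group
        _ = _ := by simp only [mul_inv_rev, inv_inv, h.inv.inv, mul_assoc]
    rw [e1]
    exact Subgroup.mul_mem _ (Subgroup.subset_closure h2) (inv_mem (Subgroup.subset_closure h3))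
  | one => simp
  | mul y z _ _ hy hz => rw [← conj_mul]; exact Subgroup.mul_mem _ hy hz
  | inv y _ hy => rw [← conj_inv]; exact inv_mem hy

omit he h4G hM in
theorem lineStab_le_stab (h : Line Z e u g r) :
    lineStab g r ≤ two (r⁻¹ • g) (r • g) ⊓ stabilizer G g :=
  fun x hx => ⟨lineStab_le_two hx, mem_stabilizer_iff.mpr (lineStab_fix hx)⟩

omit he h4G hM in
theorem u_normalizer_closure (h : Line Z e u g r) :
    u ∈ Subgroup.normalizer (Subgroup.closure (kerLine u g r) : Set G) := by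
  refine mem_normalizer_of_conj fun x hx => ?_
  rw [h.inv.inv]
  induction hx using Subgroup.closure_induction with
  | mem x hx => rw [hx.2.1]; exact inv_mem (Subgroup.subset_closure hx)
  | one => rw [mul_one, h.inv.2]; exact one_mem _
  | mul y z _ _ hy hz => rw [invol_conj_mul h.inv.2]; exact Subgroup.mul_mem _ hy hz
  | inv y _ hy => rw [invol_conj_inv h.inv.2]; exact inv_mem hy

/-- P2, first part: an `l`-subgroup outside the line stabiliser normalised by it and by `u`. -/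
theorem outside_facts (h : Line Z e u g r) (hnf : NoFourLine Z K M u g r) (hK : K ≤ lineStab g r) {l : ℕ}
    [Fact l.Prime] (hl : l ≠ 2) {P : Subgroup G} (hPD : P ≤ two (r⁻¹ • g) (r • g))
    (hYP : lineStab g r ≤ Subgroup.normalizer (P : Set G)) (hP : IsPGroup l P)
    (huP : u ∈ Subgroup.normalizer (P : Set G)) (hPY : ¬ P ≤ lineStab g r) :
    pCoreOf l (lineStab g r) = ⊥ ∧
      (∀ p ∈ P, p ∈ lineStab g r → p = 1) ∧
      (∀ p ∈ P, p • g = g → u * p * u = p ∧ ∀ x ∈ kerLine u g r, x * p = p * x) ∧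
      (∀ x ∈ Subgroup.closure (kerLine u g r), (orderOf x).Coprime l → ∀ p ∈ P, x * p = p * x) := by
  set Y := lineStab g r
  set D : Subgroup G := two (r⁻¹ • g) (r • g)
  have hYD : Y ≤ D := lineStab_le_two
  have hPodd := odd_of_pGroup hl hP
  have hinfY : P ⊓ Y ≤ pCoreOf l Y := le_pCoreOf' inf_le_right
    (fun y hy => mem_normalizer_of_conj fun x hx =>
      ⟨conj_mem_of_normalizer (hYP hy) hx.1, Y.mul_mem (Y.mul_mem hy hx.2) (Y.inv_mem hy)⟩)
    (hP.to_le inf_le_left)
  have hcore : pCoreOf l Y = ⊥ := by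
    by_contra hne
    set J := pCoreOf l Y
    have hP1 := inf_normalizer_le hQ hM h hnf hK hne (pCoreOf_le l Y)
      (Subgroup.le_normalizer.trans (normalizer_le_pCoreOf l Y))
      (normalizer_le_pCoreOf l Y (u_normalizer h)) (normalizer_le_pCoreOf l Y r_normalizer)
    have hJP : J ≤ Subgroup.normalizer (P : Set G) := (pCoreOf_le l Y).trans hYP
    set S := J ⊔ P
    have hSp : IsPGroup l S := (isPGroup_pCoreOf l Y).to_sup_of_normal_right' hP hJP
    have hlt : J.subgroupOf S < ⊤ := lt_of_le_of_ne le_top fun e0 =>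
      hPY ((le_sup_right.trans (Subgroup.subgroupOf_eq_top.mp e0)).trans (pCoreOf_le l Y))
    haveI : Group.IsNilpotent S := hSp.isNilpotent
    obtain ⟨y, hyN, hyJ⟩ := SetLike.exists_of_lt (Group.normalizerCondition_of_isNilpotent _ hlt)
    refine hyJ ?_
    rw [Subgroup.mem_subgroupOf]
    have hyn : (y : G) ∈ Subgroup.normalizer (J : Set G) := mem_normalizer_of_conj fun z hz =>
      (Subgroup.mem_normalizer_iff.mp hyN ⟨z, le_sup_left (b := P) hz⟩).mp hz
    have hyY : (y : G) ∈ Y := hP1 ⟨(sup_le ((pCoreOf_le l Y).trans hYD) hPD) y.2, hyn⟩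
    have hyS := y.2
    rw [← SetLike.mem_coe, Subgroup.coe_mul_of_left_le_normalizer_right _ _ hJP] at hyS
    obtain ⟨z, hz, p, hp, hzp⟩ := hyS
    have hzp' : z * p = (y : G) := hzp
    have hpY : p ∈ Y := by
      rw [show p = z⁻¹ * (y : G) by rw [← hzp', inv_mul_cancel_left]]
      exact Y.mul_mem (Y.inv_mem (pCoreOf_le l Y hz)) hyY
    rw [← hzp']
    exact J.mul_mem hz (hinfY ⟨hp, hpY⟩)
  have hPY' : ∀ p ∈ P, p ∈ Y → p = 1 := by
    intro p hp hpY
    have := hinfY ⟨hp, hpY⟩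
    rwa [hcore, Subgroup.mem_bot] at this
  have hcent : ∀ p ∈ P, p • g = g → u * p * u = p := by
    intro p hp hpg
    have hupu : u * p * u ∈ P := by
      have := conj_mem_of_normalizer huP hp
      rwa [h.inv.inv] at this
    have hj : u * p * u * p⁻¹ ∈ P := P.mul_mem hupu (inv_mem hp)
    have hjk : u * p * u * p⁻¹ ∈ kerLine u g r := by
      rw [← bad_line_one hQ hM h]
      refine ⟨?_, ?_, (mem_two.mp (hPD hj)).2, odd_orderOf hPodd hj⟩
      · rw [invol_conj_mul h.inv.2, invol_conj_conj h.inv.2, invol_conj_inv h.inv.2, mul_inv_rev (u * p * u), inv_inv]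
      · rw [mul_smul, inv_smul_eq_iff.mpr hpg.symm, mul_smul, mul_smul, h.fix, hpg, h.fix]
    have := hPY' _ hj hjk.1
    rwa [mul_inv_eq_one] at this
  have hfix : ∀ p ∈ P, p • g = g → ∀ x ∈ kerLine u g r, x * p = p * x := by
    intro p hp hpg x hx
    have hxp : x * p * x⁻¹ ∈ P := conj_mem_of_normalizer (hYP hx.1) hp
    have hxg : x • g = g := lineStab_fix hx.1
    refine commute_of_inverted_fixed h.inv.2 hx.2.1 hx.2.2 (hcent p hp hpg) (hcent _ hxp ?_)
    rw [mul_smul, mul_smul, inv_smul_eq_iff.mpr hxg.symm, hpg, hxg]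
  refine ⟨hcore, hPY', fun p hp hpg => ⟨hcent p hp hpg, hfix p hp hpg⟩, ?_⟩
  exact inverted_centralize hP hPodd h.inv.2 huP
    (kerLine u g r) (fun x hx => ⟨hx.2.1, hx.2.2, hYP hx.1⟩)
    (fun c hc hcu => hfix c hc (fix_of_fixed hQ h.mem h.fix hcu))

/-- An elementary abelian subgroup of the pair stabiliser outside the line stabiliser which it normalises, in the odd
core and normal, or centralised by the odd core and `u`. -/
def Occurs (Z : Set G) (e l : ℕ) (u : G) (g : Ω) (r : G) (V : Subgroup G) : Prop :=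
  Line Z e u g r ∧ l.Prime ∧ l ≠ 2 ∧ V ≤ two (r⁻¹ • g) (r • g) ∧
    lineStab g r ≤ Subgroup.normalizer (V : Set G) ∧ u ∈ Subgroup.normalizer (V : Set G) ∧
    (∀ x ∈ V, x ^ l = 1) ∧ (∀ x ∈ V, ∀ y ∈ V, x * y = y * x) ∧ ¬ V ≤ lineStab g r ∧
    ((V ≤ oddRad (two (r⁻¹ • g) (r • g) : Subgroup G) ∧
        two (r⁻¹ • g) (r • g) ≤ Subgroup.normalizer (V : Set G)) ∨
      ((∀ x ∈ V, x * u = u * x) ∧
        ∀ x ∈ V, ∀ y ∈ oddRad (two (r⁻¹ • g) (r • g) : Subgroup G), x * y = y * x))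

omit hQ h4G hM he in
theorem Occurs.isPGroup {l : ℕ} {V : Subgroup G} (hV : Occurs Z e l u g r V) : IsPGroup l V := fun v =>
  ⟨1, Subtype.ext (by rw [pow_one]; exact hV.2.2.2.2.2.2.1 _ v.2)⟩

theorem exists_occurs (h : Line Z e u g r) (hnf : NoFourLine Z K M u g r) (hK : K ≤ lineStab g r) :
    ∃ (l : ℕ) (V : Subgroup G), Occurs Z e l u g r V := by
  obtain ⟨l, hl, hl2, hlY⟩ := exists_core_not_le hQ h4G hM he h hnf hK
  haveI := Fact.mk hl
  set D : Subgroup G := two (r⁻¹ • g) (r • g)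
  set Y := lineStab g r
  set O := oddRad D
  set W := lineOdd g r
  have hDO : D ≤ Subgroup.normalizer (O : Set G) := Subgroup.le_normalizer.trans (le_normalizer_oddRad D)
  have hDPO : D ≤ Subgroup.normalizer (pCoreOf l O : Set G) := hDO.trans (normalizer_le_pCoreOf l O)
  have huD := u_normalizer_two hQ h
  have huO := le_normalizer_oddRad D huD
  -- from a suitable group
  have build : ∀ P : Subgroup G, P ≤ D → Y ≤ Subgroup.normalizer (P : Set G) → IsPGroup l P →
      u ∈ Subgroup.normalizer (P : Set G) → ¬ P ≤ Y →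
      ((P ≤ O ∧ D ≤ Subgroup.normalizer (P : Set G)) ∨
        ((∀ x ∈ P, x * u = u * x) ∧ ∀ x ∈ P, ∀ y ∈ O, x * y = y * x)) →
      ∃ (l : ℕ) (V : Subgroup G), Occurs Z e l u g r V := by
    intro P hPD hYP hP huP hPY htype
    obtain ⟨-, hPY', -, -⟩ := outside_facts hQ h4G hM he h hnf hK hl2 hPD hYP hP huP hPY
    have hle : omegaZ l P ≤ P := fun x hx => hx.1
    refine ⟨l, omegaZ l P, h, hl, hl2, hle.trans hPD, hYP.trans (normalizer_le_omegaZ l P),
      normalizer_le_omegaZ l P huP, fun x hx => hx.2.1, fun x hx y hy => hx.2.2 y hy.1, fun hY => ?_, ?_⟩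
    · refine omegaZ_ne_bot hP (fun e0 => hPY ?_) ((Subgroup.eq_bot_iff_forall _).mpr fun x hx =>
        hPY' x hx.1 (hY hx))
      rw [e0]
      exact bot_le
    · rcases htype with ⟨h1, h2⟩ | ⟨h1, h2⟩
      · exact Or.inl ⟨hle.trans h1, h2.trans (normalizer_le_omegaZ l P)⟩
      · exact Or.inr ⟨fun x hx => h1 x (hle hx), fun x hx => h2 x (hle hx)⟩
  by_cases hOY : pCoreOf l O ≤ Y
  swap
  · exact build _ ((pCoreOf_le l O).trans (oddRad_le D)) (lineStab_le_two.trans hDPO) (isPGroup_pCoreOf l O)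
      (normalizer_le_pCoreOf l O huO) hOY (Or.inl ⟨pCoreOf_le l O, hDPO⟩)
  set P := pCoreOf l W
  have hWD : W ≤ D := lineOdd_le_two
  have hPD : P ≤ D := (pCoreOf_le l W).trans hWD
  have hYP : Y ≤ Subgroup.normalizer (P : Set G) := lineStab_le_normalizer_lineOdd.trans (normalizer_le_pCoreOf l W)
  have huW : u ∈ Subgroup.normalizer (W : Set G) := by
    refine mem_normalizer_of_conj fun x hx => ?_
    have : W.map (MulAut.conj u).toMonoidHom ≤ W := by
      show (lineOdd g r).map _ ≤ lineOdd g r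
      rw [lineOdd, Subgroup.map_sup]
      exact sup_le_sup (Subgroup.map_le_iff_le_comap.mpr fun z hz => conj_mem_of_normalizer huO hz)
        (Subgroup.map_le_iff_le_comap.mpr fun z hz =>
          conj_mem_of_normalizer (le_normalizer_oddRad _ (u_normalizer h)) hz)
    exact this ⟨x, hx, rfl⟩
  have huP := normalizer_le_pCoreOf l W huW
  obtain ⟨-, hPY', -, -⟩ := outside_facts hQ h4G hM he h hnf hK hl2 hPD hYP (isPGroup_pCoreOf l W) huP hlY
  have hOW : O ≤ W := le_sup_left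
  have hOP : pCoreOf l O ≤ P := le_pCoreOf' ((pCoreOf_le l O).trans hOW) (hWD.trans hDPO) (isPGroup_pCoreOf l O)
  have hO1 : pCoreOf l O = ⊥ := (Subgroup.eq_bot_iff_forall _).mpr fun x hx => hPY' x (hOP hx) (hOY hx)
  have hPn : O ≤ Subgroup.normalizer (P : Set G) :=
    hOW.trans (Subgroup.le_normalizer.trans (normalizer_le_pCoreOf l W))
  have hinf : P ⊓ O = ⊥ := le_bot_iff.mp (hO1 ▸ le_pCoreOf' inf_le_right
    (fun y hy => mem_normalizer_of_conj fun x hx =>
      ⟨conj_mem_of_normalizer (hPn hy) hx.1, O.mul_mem (O.mul_mem hy hx.2) (O.inv_mem hy)⟩)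
    ((isPGroup_pCoreOf l W).to_le inf_le_left))
  refine build P hPD hYP (isPGroup_pCoreOf l W) huP hlY (Or.inr ⟨fun p hp => ?_, fun p hp y hy => ?_⟩)
  · have h1 : u * p * u * p⁻¹ ∈ P ⊓ O := by
      constructor
      · have := conj_mem_of_normalizer huP hp
        rw [h.inv.inv] at this
        exact P.mul_mem this (P.inv_mem hp)
      · have := comm_mem hQ (line_ne h).symm h.mem (u_smul_two h) (hPD hp)
        rwa [h.inv.inv] at this
    rw [hinf, Subgroup.mem_bot, mul_inv_eq_one] at h1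
    calc p * u = u * p * u * u := by rw [h1]
      _ = u * p := by rw [mul_assoc, h.inv.2, mul_one]
  · exact (CfsgLib.Bender.Ext.commute_of_inf_eq_bot (hPD.trans hDO) hPn hinf hp y hy).symm

/-- P2, second part: no line carries a non-trivial invariant part of its inverted elements. -/
theorem no_invariant (h : Line Z e u g r) (hnf : NoFourLine Z K M u g r) (hK : K ≤ lineStab g r) {Z0 : Subgroup G}
    (hZ0 : Z0 ≤ Subgroup.closure (kerLine u g r)) (hr : r ∈ Subgroup.normalizer (Z0 : Set G)) : Z0 = ⊥ := by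
  by_contra hne
  obtain ⟨l, V, hV⟩ := exists_occurs hQ h4G hM he h hnf hK
  obtain ⟨-, hl, hl2, hVD, hYV, huV, -, -, hlY, -⟩ := id hV
  haveI := Fact.mk hl
  set D : Subgroup G := two (r⁻¹ • g) (r • g)
  set Y := lineStab g r
  obtain ⟨hcore, hPY', -, hcop⟩ := outside_facts hQ h4G hM he h hnf hK hl2 hVD hYV hV.isPGroup huV hlY
  set X := Subgroup.closure (kerLine u g r)
  have hXY : X ≤ Y := (Subgroup.closure_le _).mpr fun x hx => hx.1
  have hYX : Y ≤ Subgroup.normalizer (X : Set G) := (lineStab_le_stab hQ h).trans (closure_ker_normal hQ hM h)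
  let I : Subgroup G :=
    { carrier := {x | ∀ n : ℤ, r ^ n * x * (r ^ n)⁻¹ ∈ X}
      one_mem' := fun n => by simp
      mul_mem' := fun {x y} hx hy n => by
        rw [← conj_mul]
        exact Subgroup.mul_mem _ (hx n) (hy n)
      inv_mem' := fun {x} hx n => by
        rw [← conj_inv]
        exact inv_mem (hx n) }
  have hIX : I ≤ X := fun x hx => by simpa using hx 0
  have hZI : Z0 ≤ I := fun x hx n => hZ0 ((Subgroup.mem_normalizer_iff.mp (zpow_mem hr n) x).mp hx)
  have hrY : r ∈ Subgroup.normalizer (Y : Set G) := r_normalizer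
  have hYI : Y ≤ Subgroup.normalizer (I : Set G) := fun y hy => mem_normalizer_of_conj fun x hx n => by
    have hy' : r ^ n * y * (r ^ n)⁻¹ ∈ Y := (Subgroup.mem_normalizer_iff.mp (zpow_mem hrY n) y).mp hy
    have := (Subgroup.mem_normalizer_iff.mp (hYX hy') _).mp (hx n)
    simpa [mul_assoc] using this
  have hrI : r ∈ Subgroup.normalizer (I : Set G) := mem_normalizer_of_conj fun x hx n => by
    have := hx (n + 1)
    simpa [zpow_add, mul_assoc] using this
  have huI : u ∈ Subgroup.normalizer (I : Set G) := mem_normalizer_of_conj fun x hx n => by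
    have h1 := (Subgroup.mem_normalizer_iff.mp (u_normalizer_closure hQ h) _).mp (hx (-n))
    rw [h.inv.inv, invol_conj_mul h.inv.2, invol_conj_mul h.inv.2, invol_conj_inv h.inv.2,
      rinv_zpow h, neg_neg] at h1
    rwa [h.inv.inv]
  have hIY : I ≤ Y := hIX.trans hXY
  set J := Subgroup.closure {x | x ∈ I ∧ (orderOf x).Coprime l}
  have hJne : J ≠ ⊥ := fun e0 => hne (le_bot_iff.mp (hZI.trans
    (eq_bot_of_coprime_closure hIY hYI hcore e0).le))
  have hJY : J ≤ Y := (Subgroup.closure_le _).mpr fun x hx => hIY hx.1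
  have hnI : Subgroup.normalizer (I : Set G) ≤ Subgroup.normalizer (J : Set G) := coprime_closure_facts
  have hP1 := inf_normalizer_le hQ hM h hnf hK hJne hJY (hYI.trans hnI) (hnI huI) (hnI hrI)
  refine hlY fun p hp => hP1 ⟨hVD hp, mem_normalizer_of_conj fun x hx => ?_⟩
  have : x * p = p * x := by
    have hle : J ≤ Subgroup.centralizer {p} := (Subgroup.closure_le _).mpr fun z hz =>
      Subgroup.mem_centralizer_singleton_iff.mpr (hcop z (hIX hz.1) hz.2 p hp)
    exact Subgroup.mem_centralizer_singleton_iff.mp (hle hx)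
  rw [← this, mul_inv_cancel_right]
  exact hx

/-- An elementary abelian group in a line stabiliser, centralised by `u`, the element and the inverted elements and
meeting `M` trivially, is smaller than every occurrence on the line. -/
theorem occurs_bound {y : G} (h : Line Z e u g y) (hnf : NoFourLine Z K M u g y) (hK : K ≤ lineStab g y) {l : ℕ}
    {V : Subgroup G} (hl : l.Prime) (hl2 : l ≠ 2) (hVl : ∀ v ∈ V, v ^ l = 1)
    (hVc : ∀ v ∈ V, ∀ w ∈ V, v * w = w * v) (hVY1 : V ≤ lineStab g y) (hKV : K ≤ Subgroup.normalizer (V : Set G))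
    (hVu : ∀ v ∈ V, v * u = u * v) (hVy : ∀ v ∈ V, v * y = y * v)
    (hVx : ∀ v ∈ V, ∀ x ∈ kerLine u g y, x * v = v * x) (hVM : ∀ v ∈ V, v ∈ M → v = 1)
    {l' : ℕ} {W : Subgroup G} (hW : Occurs Z e l' u g y W) : Nat.card V < Nat.card W := by
  haveI := Fact.mk hl
  have hVp : IsPGroup l V := fun v => ⟨1, Subtype.ext (by rw [pow_one]; exact hVl _ v.2)⟩
  set Y1 := lineStab g y
  obtain ⟨-, hl', hl'2, hWD, hYW, huW, hWl, hWc, hWY, -⟩ := id hW
  haveI := Fact.mk hl'
  obtain ⟨-, hWY', -, -⟩ := outside_facts hQ h4G hM he h hnf hK hl'2 hWD hYW hW.isPGroup huW hWY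
  -- P1 for a non-trivial part of `V`
  have key : ∀ {V' : Subgroup G}, V' ≠ ⊥ → V' ≤ V → K ≤ Subgroup.normalizer (V' : Set G) →
      two (y⁻¹ • g) (y • g) ⊓ Subgroup.normalizer (V' : Set G) ≤ Y1 := by
    intro V' hne hle hKV'
    have hcentral : ∀ z : G, (∀ v ∈ V, z * v = v * z) → z ∈ Subgroup.normalizer (V' : Set G) := fun z hz =>
      mem_normalizer_of_conj fun s hs => by rw [hz s (hle hs), mul_inv_cancel_right]; exact hs
    have hker : kerLine u g y ⊆ Subgroup.normalizer (V' : Set G) := fun x hx => hcentral x fun v hv => hVx v hv x hx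
    have hu' := hcentral u fun v hv => (hVu v hv).symm
    have hy' := hcentral y fun v hv => (hVy v hv).symm
    obtain ⟨v, hv, hv1⟩ := (Subgroup.bot_or_exists_ne_one V').resolve_left hne
    refine normalizer_inf_two hQ hM h (hnf V' hne (hle.trans hVY1) hker hKV' hu' hy' (Or.inr ⟨v, hv,
      (hl.odd_of_ne_two hl2).of_dvd_nat (orderOf_dvd_of_pow_eq_one (hVl v (hle hv))),
      fun hvM => hv1 (hVM v (hle hv) hvM)⟩)) hker hu' hy'
  have hWne : W ≠ ⊥ := fun e0 => hWY (e0 ▸ bot_le)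
  have hVW : ∀ v ∈ V, ∀ x ∈ W, v * x * v⁻¹ ∈ W := fun v hv x hx =>
    conj_mem_of_normalizer (hYW (hVY1 hv)) hx
  by_cases hV : V = ⊥
  · rw [hV, Subgroup.card_bot]
    exact (Subgroup.one_lt_card_iff_ne_bot _).mpr hWne
  rcases eq_or_ne l l' with rfl | hne
  · -- equal primes: a fixed point of `V` on `W`
    exfalso
    haveI : Nontrivial W := (Subgroup.nontrivial_iff_ne_bot _).mpr hWne
    let act : MulAction V W :=
      { smul := fun v w => ⟨(v : G) * w * (v : G)⁻¹, hVW v v.2 w w.2⟩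
        one_smul := fun w => Subtype.ext (show (1 : G) * w * (1 : G)⁻¹ = w by simp)
        mul_smul := fun v v' w => Subtype.ext (show ((v : G) * v') * w * ((v : G) * v')⁻¹ =
          (v : G) * ((v' : G) * w * (v' : G)⁻¹) * (v : G)⁻¹ by group) }
    have hd : l ∣ Nat.card W := by
      obtain ⟨k, hk⟩ := IsPGroup.iff_card.mp hW.isPGroup
      rw [hk]
      refine dvd_pow_self l fun e0 => ?_
      rw [e0, pow_zero] at hk
      exact absurd hk (Finite.one_lt_card).ne'
    have hone : (1 : W) ∈ MulAction.fixedPoints V W :=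
      fun v => Subtype.ext (show (v : G) * 1 * (v : G)⁻¹ = 1 by simp)
    obtain ⟨w, hw, hw'⟩ := hVp.exists_fixed_point_of_prime_dvd_card_of_fixed_point _ hd hone
    refine hw' (Subtype.ext (hWY' w w.2 (key hV le_rfl hKV ⟨hWD w.2, mem_normalizer_of_conj fun v hv => ?_⟩)).symm)
    have h1 : v * (w : G) * v⁻¹ = w := congrArg Subtype.val (hw ⟨v, hv⟩)
    rwa [← mul_inv_eq_iff_eq_mul.mp h1, mul_inv_cancel_right]
  · have hfaith : V ⊓ Subgroup.centralizer (W : Set G) = ⊥ := by
      by_contra hne'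
      refine hWY fun x hx => key hne' inf_le_left (fun k hk => mem_normalizer_of_conj fun s hs => ?_)
        ⟨hWD hx, mem_normalizer_of_conj fun s hs => ?_⟩
      · refine ⟨conj_mem_of_normalizer (hKV hk) hs.1, fun z hz => ?_⟩
        have hz' : k⁻¹ * z * k ∈ W := (Subgroup.mem_normalizer_iff''.mp (hYW (hK hk)) z).mp hz
        calc z * (k * s * k⁻¹) = k * ((k⁻¹ * z * k) * s) * k⁻¹ := by group
          _ = k * (s * (k⁻¹ * z * k)) * k⁻¹ := by rw [hs.2 _ hz']
          _ = k * s * k⁻¹ * z := by group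
      · rw [hs.2 x hx, mul_inv_cancel_right]
        exact hs
    refine card_lt_of_coprime_faithful hWne hWc hVc hVW ?_ fun v hv hvW =>
      Subgroup.mem_bot.mp (hfaith ▸ ⟨hv, fun x hx => (hvW x hx).symm⟩)
    obtain ⟨i, hi⟩ := IsPGroup.iff_card.mp hVp
    obtain ⟨j, hj⟩ := IsPGroup.iff_card.mp hW.isPGroup
    rw [hi, hj]
    exact Nat.coprime_pow_primes i j hl hl' hne

/-- P2, the growth: an occurrence fixing the centre gives a larger one on a line inside the odd core. -/
theorem occurs_step {l : ℕ} {V : Subgroup G} (hocc : Occurs Z e l u g r V) (hnf : NoFourLine Z K M u g r)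
    (hK : K ≤ lineStab g r) (hVg : ∀ v ∈ V, v • g = g) (hVM : ∀ v ∈ V, v ∈ M → v = 1) {y : G}
    (hyO : y ∈ oddRad (two (r⁻¹ • g) (r • g) : Subgroup G)) (hLine : Line Z e u g y)
    (hnf' : NoFourLine Z K M u g y) (hK' : K ≤ lineStab g y) (hker : kerLine u g y = kerLine u g r) :
    ∃ (l' : ℕ) (W : Subgroup G), Occurs Z e l' u g y W ∧ Nat.card V < Nat.card W := by
  obtain ⟨h, hl, hl2, hVD, hYV, huV, hVl, hVc, hVY, htype⟩ := id hocc
  haveI := Fact.mk hl
  obtain ⟨-, -, hfixV, -⟩ := outside_facts hQ h4G hM he h hnf hK hl2 hVD hYV hocc.isPGroup huV hVY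
  have hyV : y ∈ Subgroup.normalizer (V : Set G) := by
    rcases htype with ⟨-, hn⟩ | ⟨-, hc⟩
    · exact hn (oddRad_le _ hyO)
    · exact mem_normalizer_of_conj fun v hv => by rw [← hc v hv y hyO, mul_inv_cancel_right]; exact hv
  have hVy : ∀ v ∈ V, y * v = v * y := by
    intro v hv
    refine commute_of_inverted_fixed h.inv.2 hLine.rinv hLine.odd (hfixV v hv (hVg v hv)).1 ?_
    have hyv : y * v * y⁻¹ ∈ V := conj_mem_of_normalizer hyV hv
    exact (hfixV _ hyv (hVg _ hyv)).1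
  obtain ⟨l', W, hW⟩ := exists_occurs hQ h4G hM he hLine hnf' hK'
  refine ⟨l', W, hW, occurs_bound hQ h4G hM he hLine hnf' hK' hl hl2 hVl hVc (le_lineStab hyV hVg)
    (hK.trans hYV) (fun v hv => ?_) (fun v hv => (hVy v hv).symm)
    (fun v hv x hx => (hfixV v hv (hVg v hv)).2 x (hker ▸ hx)) hVM hW⟩
  have := (hfixV v hv (hVg v hv)).1
  calc v * u = u * v * u * u := by rw [this]
    _ = u * v := by rw [mul_assoc, h.inv.2, mul_one]

/-- P1-P3 for a family of lines through one member: there is no such family. -/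
theorem no_line_family {u : G} {g : Ω} (L : G → Prop)
    (hline : ∀ r, L r → Line Z e u g r ∧ NoFourLine Z K M u g r ∧ K ≤ lineStab g r)
    (hstep : ∀ (r : G) (l : ℕ) (V : Subgroup G), L r → Occurs Z e l u g r V →
      (∀ v ∈ V, v • g = g) ∧ (∀ v ∈ V, v ∈ M → v = 1) ∧
        ∃ y ∈ oddRad (two (r⁻¹ • g) (r • g) : Subgroup G), L y ∧ kerLine u g r ⊆ kerLine u g y) :
    ∀ r, ¬ L r := by
  intro r₀ hr₀
  obtain ⟨h₀, hnf₀, hK₀⟩ := hline r₀ hr₀
  obtain ⟨l, V, hV⟩ := exists_occurs hQ h4G hM he h₀ hnf₀ hK₀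
  set Ns : Set ℕ := {n | ∃ (l : ℕ) (r : G) (V : Subgroup G), L r ∧ Occurs Z e l u g r V ∧ Nat.card V = n}
  have hfin : Ns.Finite := (Set.finite_le_nat (Nat.card G)).subset fun n hn => by
    obtain ⟨l, r, V, -, -, rfl⟩ := hn
    exact Subgroup.card_le_card_group V
  obtain ⟨n, ⟨l, r, V, hr, hocc, rfl⟩, hmax⟩ := hfin.exists_maximal ⟨_, l, r₀, V, hr₀, hV, rfl⟩
  obtain ⟨hVg, hVM, y, hy, hLy, hsub⟩ := hstep r l V hr hocc
  obtain ⟨hly, hnfy, hKy⟩ := hline y hLy
  obtain ⟨hlr, hnfr, hKr⟩ := hline r hr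
  have hker : kerLine u g y = kerLine u g r := by
    refine (Set.eq_of_subset_of_ncard_le hsub ?_ (Set.toFinite _)).symm
    rw [← bad_line_one hQ hM hly]
    exact (hM u g _ hly.mem hly.fix hly.move).trans hlr.ker
  obtain ⟨l', W, hW, hlt⟩ := occurs_step hQ h4G hM he hocc hnfr hKr hVg hVM hy hly hnfy hKy hker
  exact absurd (hmax ⟨l', y, W, hLy, hW, rfl⟩ hlt.le) (not_le.mpr hlt)

section CaseOne

variable (hB : Below.{u} (Nat.card G)) (hnoL : ¬ LMember G Ω Z e)
include hB hnoL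

/-- A normal occurrence fixes the centre. -/
theorem outside_fix (h : Line Z e u g r) {l : ℕ} [Fact l.Prime] (hl : l ≠ 2) {P : Subgroup G}
    (hPO : P ≤ oddRad (two (r⁻¹ • g) (r • g) : Subgroup G))
    (hDP : two (r⁻¹ • g) (r • g) ≤ Subgroup.normalizer (P : Set G)) (hP : IsPGroup l P)
    (huP : u ∈ Subgroup.normalizer (P : Set G)) (hPY : ¬ P ≤ lineStab g r) :
    ∀ p ∈ P, p • g = g := by
  have hPD := hPO.trans (oddRad_le _)
  obtain ⟨hcore, -, -, hcop⟩ := outside_facts hQ h4G hM he h (noFourLine hQ hM hB hnoL h ⊥ ⊥) bot_le hl hPD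
    (lineStab_le_two.trans hDP) hP huP hPY
  by_contra hmove
  push Not at hmove
  obtain ⟨p₀, hp₀, hp₀g⟩ := hmove
  set D : Subgroup G := two (r⁻¹ • g) (r • g) with hDdef
  set O := oddRad D
  set A : Subgroup G := O ⊓ stabilizer G g with hAdef
  set X := Subgroup.closure (kerLine u g r)
  set Z0 := Subgroup.closure {x | x ∈ X ∧ (orderOf x).Coprime l}
  have hYX : lineStab g r ≤ Subgroup.normalizer (X : Set G) :=
    (lineStab_le_stab hQ h).trans (closure_ker_normal hQ hM h)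
  have hZ0 : Z0 ≠ ⊥ := fun e0 => by
    obtain ⟨x, hx, hx1⟩ := exists_ker_ne_one hQ he h
    have := eq_bot_of_coprime_closure ((Subgroup.closure_le _).mpr fun x hx => hx.1) hYX hcore e0
    exact hx1 ((Subgroup.eq_bot_iff_forall _).mp this x (Subgroup.subset_closure hx))
  have hu2 : u • r • g = r⁻¹ • g := by rw [← u_smul_two h, h.inv.smul_twice]
  have htwo : two (r • g) (u • r • g) = D := by rw [hu2]; exact CfsgLib.Bender.TwoClosed.mem_two_comm
  have huO := le_normalizer_oddRad D (u_normalizer_two hQ h)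
  have huA : u ∈ Subgroup.normalizer (A : Set G) := mem_normalizer_of_conj fun x hx =>
    ⟨conj_mem_of_normalizer huO hx.1, mem_stabilizer_iff.mpr (by
      rw [h.inv.inv, mul_smul, mul_smul, h.fix, mem_stabilizer_iff.mp hx.2, h.fix])⟩
  have hbad := bad_line_one hQ hM h
  obtain ⟨y, hy, hLine, hsub⟩ := exists_line hQ (e := e) h.mem h.fix h.move
    (hbad ▸ h.ker) (M := P ⊔ A)
    ((odd_oddRad D).of_dvd_nat (Subgroup.card_dvd_of_le (sup_le hPO inf_le_left)))
    (by rw [htwo]; exact sup_le hPD (inf_le_left.trans (oddRad_le D)))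
    (mem_normalizer_of_conj fun x hx => by
      have : (P ⊔ A).map (MulAut.conj u).toMonoidHom ≤ P ⊔ A := by
        rw [Subgroup.map_sup]
        exact sup_le_sup (Subgroup.map_le_iff_le_comap.mpr fun z hz => conj_mem_of_normalizer huP hz)
          (Subgroup.map_le_iff_le_comap.mpr fun z hz => conj_mem_of_normalizer huA hz)
      exact this ⟨x, hx, rfl⟩)
    (fun x hx => by
      have hx' := hbad ▸ hx
      exact le_sup_right (a := P) ⟨kerLine_subset hQ h hx', mem_stabilizer_iff.mpr (lineStab_fix hx'.1)⟩)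
    ⟨p₀, le_sup_left (b := A) hp₀, hp₀g⟩
  refine hZ0 (no_invariant hQ h4G hM he hLine (noFourLine hQ hM hB hnoL hLine ⊥ ⊥) bot_le (Z0 := Z0) ?_ ?_)
  · refine (Subgroup.closure_le _).mpr fun x hx => ?_
    exact (Subgroup.closure_mono (hbad ▸ hsub)) hx.1
  · refine (sup_le ?_ ?_ : P ⊔ A ≤ Subgroup.normalizer (Z0 : Set G)) hy
    · intro p hp
      refine mem_normalizer_of_conj fun x hx => ?_
      have hle : Z0 ≤ Subgroup.centralizer {p} := (Subgroup.closure_le _).mpr fun z hz =>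
        Subgroup.mem_centralizer_singleton_iff.mpr (hcop z hz.1 hz.2 p hp)
      rw [← Subgroup.mem_centralizer_singleton_iff.mp (hle hx), mul_inv_cancel_right]
      exact hx
    · exact (inf_le_inf_right _ (oddRad_le D)).trans ((closure_ker_normal hQ hM h).trans coprime_closure_facts)

end CaseOne

/-- Case 1 of B1: a maximal count `e > 1` needs a kernel of Lie type. -/
theorem exists_lMember (hB : Below.{u} (Nat.card G))
    (hex : ∃ (u : G) (g a : Ω), u ∈ Z ∧ u • g = g ∧ a ≠ g ∧ e ≤ (bad u g a).ncard) :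
    LMember G Ω Z e := by
  by_contra hnoL
  obtain ⟨u, g, a, hu, hug, hag, hcard⟩ := hex
  have hne : u • a ≠ a := fun h => hag (eq_of_fix hQ hu h hug)
  obtain ⟨y, -, hL, -⟩ := exists_line hQ hu hug hag hcard (M := oddRad (two a (u • a) : Subgroup G))
    (odd_oddRad _) (oddRad_le _) (le_normalizer_oddRad _ (mem_normalizer_two hQ hne hu rfl))
    (fun x hx => bad_mem_oddRad hQ hu hne hx) (exists_moves hQ h4G hu hug rfl hne)
  refine no_line_family hQ h4G hM he (K := ⊥) (M := ⊥) (fun r => Line Z e u g r)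
    (fun r hr => ⟨hr, noFourLine hQ hM hB hnoL hr ⊥ ⊥, bot_le⟩) ?_ y hL
  rintro r l V h hocc
  obtain ⟨-, hl, hl2, hVD, hYV, huV, hVl, hVc, hVY, htype⟩ := id hocc
  haveI := Fact.mk hl
  refine ⟨?_, fun v _ hv => Subgroup.mem_bot.mp hv, ?_⟩
  · rcases htype with ⟨hVO, hDV⟩ | ⟨hVu, -⟩
    · exact outside_fix hQ h4G hM he hB hnoL h hl2 hVO hDV hocc.isPGroup huV hVY
    · exact fun v hv => commute_fix hQ h.mem h.fix (hVu v hv)
  have hu2 : u • r • g = r⁻¹ • g := by rw [← u_smul_two h, h.inv.smul_twice]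
  have htwo : two (r • g) (u • r • g) = (two (r⁻¹ • g) (r • g) : Subgroup G) := by
    rw [hu2]; exact CfsgLib.Bender.TwoClosed.mem_two_comm
  obtain ⟨z, hz, hzg⟩ := exists_moves hQ h4G h.mem h.fix (u_smul_two h) (line_ne h).symm
  have hbad := bad_line_one hQ hM h
  obtain ⟨y, hyM, hLine, hsub⟩ := exists_line hQ (e := e) h.mem h.fix h.move (hbad ▸ h.ker)
    (M := oddRad (two (r⁻¹ • g) (r • g) : Subgroup G)) (odd_oddRad _) (by rw [htwo]; exact oddRad_le _)
    (le_normalizer_oddRad _ (u_normalizer_two hQ h)) (fun x hx => kerLine_subset hQ h (hbad ▸ hx))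
    ⟨z, hz, hzg⟩
  exact ⟨y, hyM, hLine, hbad ▸ hsub⟩

end CfsgLib.Bender.Q
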