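import Cfsg.Agent.Lib.Bender.Q.B1.Circle
import Cfsg.Agent.Lib.Bender.Q.B1.RankOneEnd
import Cfsg.Agent.Lib.Bender.B1.CircleCore

/-!
The chosen circle or oval: the Glauberman subgroup and the cores of the odd groups of a pair stabiliser.

Blueprint: `blueprint/bender/Q_B1.md` 4.
-/

set_option autoImplicit false
set_option linter.unusedSectionVars false
set_option linter.style.haveILetI false
set_option linter.unusedVariables false

namespace CfsgLib.Bender.Q

open MulAction Cfsg CfsgLib.SuzukiRankOne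
open CfsgLib.Bender.Ext (AbTwo IsSylowOf centOther mem_centOther pCoreOf_le isPGroup_pCoreOf normalizer_le_pCoreOf)
open CfsgLib.Bender.TwoClosed (IsInv two mem_two smul_conj MaxP exists_maxP mem_normalizer_of_conj
  conj_mem_of_normalizer odd_orderOf exists_mem_normalizer eq_one_of_inv_eq eq_one_of_two_odd)
open CfsgLib.Bender.B1 (fixer mem_fixer setStab mem_setStab_of_maps invol_conj_mul invol_conj_inv invol_conj_conj
  le_pCoreOf' pCoreOf_mono mem_fittingOf_of_centralizes cent_other_step commute_of_inverted_fixed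
  inverted_centralize exists_inverted_in)

universe u

variable {G : Type u} {Ω : Type u} [Group G] [MulAction G Ω] {Z : Set G}

/-- The part of a pair stabiliser inside `M`. -/
def pairIn (M : Subgroup G) (a b : Ω) : Subgroup G := two a b ⊓ M

/-- The odd core of the part of a pair stabiliser inside `M`. -/
def pairOdd (M : Subgroup G) (a b : Ω) : Subgroup G := oddRad (pairIn M a b)

/-- The members of `M` at a point. -/
def membersAt (Z : Set G) (M : Subgroup G) (a : Ω) : Set G := {i | i ∈ M ∧ i ∈ Z ∧ i • a = a}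

/-- The group of the members at `a` and the odd pair part. -/
def pointOdd (Z : Set G) (M : Subgroup G) (a b : Ω) : Subgroup G :=
  Subgroup.closure (membersAt Z M a) ⊔ pairOdd M a b

/-- The odd groups of a pair stabiliser and of its part in `M` together. -/
def pairGen (M : Subgroup G) (a b : Ω) : Subgroup G := oddRad (two a b : Subgroup G) ⊔ pairOdd M a b

/-- No member of `M` centralises `O_r` of the odd core of the fixer. -/
def Moving (Ω : Type u) [MulAction G Ω] (Z : Set G) (M : Subgroup G) (r : ℕ) : Prop :=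
  ∀ i ∈ M, i ∈ Z → ∃ x ∈ pCoreOf r (coreFix G (centres Ω Z M)), i * x * i ≠ x

theorem pairOdd_le_pairIn {M : Subgroup G} {a b : Ω} : pairOdd M a b ≤ pairIn M a b := oddRad_le _

theorem pairOdd_le_two {M : Subgroup G} {a b : Ω} : pairOdd M a b ≤ two a b :=
  (oddRad_le _).trans inf_le_left

theorem pairOdd_le {M : Subgroup G} {a b : Ω} : pairOdd M a b ≤ M := (oddRad_le _).trans inf_le_right

theorem fixer_le_two {M : Subgroup G} {a b : Ω} (ha : a ∈ centres Ω Z M) (hb : b ∈ centres Ω Z M) :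
    fixer G (centres Ω Z M) ≤ two a b := fun _ hx => mem_two.mpr ⟨mem_fixer.mp hx a ha, mem_fixer.mp hx b hb⟩

variable [Finite G] [FaithfulSMul G Ω] {e : ℕ} (hQ : Hyp G Ω Z) (hB : Below.{u} (Nat.card G))
  (hM : MaxBad G Ω Z e) (he : 1 < e) {M : Subgroup G} (hCh : Chosen Ω hQ e M)
include hQ hB hM he hCh

theorem M_le_core (r : ℕ) : M ≤ Subgroup.normalizer (pCoreOf r (coreFix G (centres Ω Z M)) : Set G) :=
  (le_normalizer_coreFix hQ hCh).trans (normalizer_le_pCoreOf r _)

theorem kerBad_eq_bad {u : G} (huM : u ∈ M) (hu : u ∈ Z) {g a : Ω} (hug : u • g = g)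
    (ha : a ∈ centres Ω Z M) (hag : a ≠ g) : bad u g a = kerBad Ω Z M u := by
  have hg : g ∈ centres Ω Z M := mem_centres huM hu hug
  refine (Set.eq_of_subset_of_ncard_le (s := kerBad Ω Z M u) (t := bad u g a)
    (fun x (hx : x ∈ kerBad Ω Z M u) => ⟨hx.2.1, hx.2.2.2 g hg, hx.2.2.2 a ha, hx.2.2.1⟩) ?_ (Set.toFinite _)).symm
  exact (hM u g a hu hug hag).trans (hCh.carries.ker u huM hu)

theorem exists_moving : ∃ r : ℕ, r.Prime ∧ Moving Ω Z M r := by
  set K0 := coreFix G (centres Ω Z M) with hK0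
  obtain ⟨u, huM, v, hvM, hu, hv, -, -⟩ := hCh.carries.top.four
  have hKodd : Odd (Nat.card K0) := odd_oddRad _
  have hui := hQ.inv u hu
  suffices h : ∃ r : ℕ, r.Prime ∧ ∃ x ∈ pCoreOf r K0, u * x * u ≠ x by
    obtain ⟨r, hr, x, hx, hne⟩ := h
    refine ⟨r, hr, fun i hiM hi => ?_⟩
    obtain ⟨m, hm, rfl⟩ := invol_conj_top hQ hCh.carries.top huM hu hiM hi
    have hmM := memGrp_le hm
    refine ⟨m * x * m⁻¹, conj_mem_of_normalizer (M_le_core hQ hB hM he hCh r hmM) hx, fun h => hne ?_⟩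
    have h' : m * (u * x * u) * m⁻¹ = m * x * m⁻¹ := by
      conv_rhs => rw [← h]
      group
    exact mul_left_cancel (mul_right_cancel h')
  by_contra hno
  push Not at hno
  haveI : Group.IsSolvable K0 := Cfsg.Agent.S0205.result hKodd
  obtain ⟨x, hx, hx1⟩ := Set.exists_ne_of_one_lt_ncard (lt_of_lt_of_le he (hCh.carries.ker u huM hu)) 1
  have hxK : x ∈ K0 := kerBad_subset_coreFix hQ hB he hCh huM hu hx
  have hodd := hx.2.2.1
  have hxc : ∀ r : ℕ, r.Prime → ∀ z ∈ pCoreOf r K0, z * x = x * z := fun r hr z hz => by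
    refine (commute_of_inverted_fixed hui.2 hx.2.1 hodd (hno r hr z hz) (hno r hr _ ?_)).symm
    exact conj_mem_of_normalizer ((Subgroup.le_normalizer.trans (normalizer_le_pCoreOf r K0)) hxK) hz
  have hxF := mem_fittingOf_of_centralizes hxK hxc
  have hFu : fittingOf K0 ≤ Subgroup.centralizer {u} := by
    rw [fittingOf, CfsgLib.fittingSubgroup_eq_iSup_pCore, Subgroup.map_iSup]
    refine iSup_le fun p z hz => Subgroup.mem_centralizer_singleton_iff.mpr ?_
    calc z * u = u * z * u * u := by rw [hno p p.2 z hz]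
      _ = u * z := by rw [mul_assoc, hui.2, mul_one]
  refine hx1 (eq_one_of_inv_eq ?_ hodd)
  rw [← hx.2.1, mul_assoc, Subgroup.mem_centralizer_singleton_iff.mp (hFu hxF), ← mul_assoc, hui.2, one_mul]

theorem cent_le_fixer {r : ℕ} (hr : Moving Ω Z M r) :
    M ⊓ Subgroup.centralizer (pCoreOf r (coreFix G (centres Ω Z M)) : Set G) ≤ fixer G (centres Ω Z M) := by
  intro n hn
  refine mem_fixer.mpr fun c hc => ?_
  by_contra hnc
  obtain ⟨i, hiM, -, -, hi, -, -, -⟩ := hCh.carries.top.four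
  set N := M ⊓ Subgroup.centralizer (pCoreOf r (coreFix G (centres Ω Z M)) : Set G)
  have hN : M ≤ Subgroup.normalizer (N : Set G) := fun m hm => Subgroup.mem_normalizer_iff.mpr fun x => by
    rw [Subgroup.mem_inf, Subgroup.mem_inf, ← Subgroup.mem_normalizer_iff.mp (Subgroup.le_normalizer hm) x,
      ← Subgroup.mem_normalizer_iff.mp (Ext.normalizer_le_centralizer (M_le_core hQ hB hM he hCh r hm)) x]
  have hiN := invol_mem_of_normal hQ hCh.carries.top hB inf_le_left hN hn hc hnc hiM hi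
  obtain ⟨x, hx, hne⟩ := hr i hiM hi
  refine hne ?_
  rw [← hiN.2 x hx, mul_assoc, (hQ.inv i hi).2, mul_one]

theorem moving_ne_two {r : ℕ} (hr : r.Prime) (hmov : Moving Ω Z M r) : r ≠ 2 := by
  rintro rfl
  obtain ⟨i, hiM, -, -, hi, -, -, -⟩ := hCh.carries.top.four
  obtain ⟨x, hx, hne⟩ := hmov i hiM hi
  haveI := Fact.mk Nat.prime_two
  obtain ⟨k, hk⟩ := isPGroup_pCoreOf 2 _ ⟨x, hx⟩
  have hodd := odd_orderOf_oddRad (pCoreOf_le 2 _ hx)
  have h1 : orderOf x = 1 := Nat.eq_one_of_dvd_coprimes (Nat.Coprime.pow_left k (Nat.coprime_two_left.2 hodd))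
    (orderOf_dvd_of_pow_eq_one (congrArg Subtype.val hk)) dvd_rfl
  exact hne (by rw [orderOf_eq_one_iff.mp h1, mul_one, (hQ.inv i hi).2])

variable {a b : Ω} (ha : a ∈ centres Ω Z M) (hb : b ∈ centres Ω Z M) (hne : b ≠ a)
include ha hb hne

theorem fixer_le_pairIn : fixer G (centres Ω Z M) ≤ pairIn M a b :=
  le_inf (fixer_le_two ha hb) (fixer_le hQ hB he hCh)

theorem pairIn_normalizer : pairIn M a b ≤ Subgroup.normalizer (pairOdd M a b : Set G) :=
  Subgroup.le_normalizer.trans (le_normalizer_oddRad _)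

theorem coreFix_le_pairOdd : coreFix G (centres Ω Z M) ≤ pairOdd M a b :=
  le_oddRad ((coreFix_le _).trans (fixer_le_pairIn hQ hB hM he hCh ha hb hne)) (odd_oddRad _) fun _ hg _ hk =>
    conj_mem_of_normalizer (le_normalizer_coreFix hQ hCh hg.2) hk

theorem pairOdd_inf_fixer : pairOdd M a b ⊓ fixer G (centres Ω Z M) ≤ coreFix G (centres Ω Z M) :=
  le_oddRad inf_le_right ((odd_oddRad _).of_dvd_nat (Subgroup.card_dvd_of_le inf_le_left)) fun _ hg _ hk =>
    ⟨conj_mem_of_normalizer (pairIn_normalizer hQ hB hM he hCh ha hb hne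
      (fixer_le_pairIn hQ hB hM he hCh ha hb hne hg)) hk.1,
      Subgroup.mul_mem _ (Subgroup.mul_mem _ hg hk.2) (Subgroup.inv_mem _ hg)⟩

omit hb hne in
/-- The square of the product of two members of `M` at `a` fixes all centres. -/
theorem sq_mul_mem_fixer {i j : G} (hi : i ∈ membersAt Z M a) (hj : j ∈ membersAt Z M a) :
    (i * j) * (i * j) ∈ fixer G (centres Ω Z M) := by
  obtain ⟨c, hc, hca⟩ := hCh.carries.top.exists_ne hQ a
  obtain ⟨w, hw0, ha0, Q, -, -, hS⟩ := hCh.carries.top.exists_setup hQ hB ha hc hca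
  have hT0 := isTopOdd_memGrp hCh.carries.top
  have hinv : ∀ x : G, ∀ hx : x ∈ membersAt Z M a,
      img hQ (memGrp Z M) ⟨x, mem_memGrp hx.2.1 hx.1⟩ ∈
        involutionsIn (stabilizer (topGrp hQ (memGrp Z M)) (⟨a, ha0⟩ : centres Ω Z (memGrp Z M)) : Set _) :=
    fun x hx => by
      obtain ⟨h1, h2⟩ := img_isInv hQ hT0.toIsTop (x := ⟨x, mem_memGrp hx.2.1 hx.1⟩) hx.2.1
      exact ⟨Subtype.ext hx.2.2, h1, h2⟩
  have hcom := CfsgLib.SuzukiRankOne.invol_comm hS (hT0.fourTop hQ hB) (hinv i hi) (hinv j hj)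
  set I := img hQ (memGrp Z M) ⟨i, mem_memGrp hi.2.1 hi.1⟩
  set J := img hQ (memGrp Z M) ⟨j, mem_memGrp hj.2.1 hj.1⟩
  have h1 : img hQ (memGrp Z M) (⟨i, mem_memGrp hi.2.1 hi.1⟩ * ⟨j, mem_memGrp hj.2.1 hj.1⟩ *
      (⟨i, mem_memGrp hi.2.1 hi.1⟩ * ⟨j, mem_memGrp hj.2.1 hj.1⟩)) = 1 := by
    rw [map_mul, map_mul]
    calc I * J * (I * J) = I * (J * I) * J := by group
      _ = (I * I) * (J * J) := by rw [← hcom]; group
      _ = 1 := by
        rw [(img_isInv hQ hT0.toIsTop (x := ⟨i, mem_memGrp hi.2.1 hi.1⟩) hi.2.1).2,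
          (img_isInv hQ hT0.toIsTop (x := ⟨j, mem_memGrp hj.2.1 hj.1⟩) hj.2.1).2, one_mul]
  exact mem_fixer.mpr fun d hd => img_eq_one_iff.mp h1 d ((centres_memGrp (Ω := Ω) M).symm ▸ hd)

omit hb hne in
/-- The product of two members of `M` at `a` is one or such a member, modulo the odd core of the fixer. -/
theorem members_mul {i j : G} (hi : i ∈ membersAt Z M a) (hj : j ∈ membersAt Z M a) :
    ∃ h, (h = 1 ∨ h ∈ membersAt Z M a) ∧ ∃ k ∈ coreFix G (centres Ω Z M), i * j = h * k := by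
  have hsq := sq_mul_mem_fixer hQ hB hM he hCh ha hi hj
  have hii := hQ.inv i hi.2.1
  have hji := hQ.inv j hj.2.1
  set p := i * j with hp
  have hinvp : i * p * i = p⁻¹ := by
    rw [hp, mul_inv_rev, hii.inv, hji.inv]
    calc i * (i * j) * i = (i * i) * (j * i) := by group
      _ = j * i := by rw [hii.2, one_mul]
  have hev : ∀ m : ℕ, Even m → p ^ m ∈ fixer G (centres Ω Z M) := by
    rintro m ⟨k, rfl⟩
    rw [pow_add, ← (Commute.refl p).mul_pow]
    exact Subgroup.pow_mem _ hsq k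
  have hinvm : ∀ m : ℕ, i * p ^ m * i = (p ^ m)⁻¹ := fun m => by
    have h := conj_pow (i := m) (a := i) (b := p)
    rw [hii.inv, hinvp, inv_pow] at h
    exact h.symm
  rcases Nat.even_or_odd (orderOf p) with hn | hn
  · obtain ⟨n, hn'⟩ := hn
    have hmem := central_mem hQ hi.2.1 hj.2.1 (show Even (orderOf (i * j)) from ⟨n, hn'⟩)
    rw [show orderOf (i * j) / 2 = n by rw [← hp, hn']; omega, ← hp] at hmem
    have hpM : p ^ n ∈ M := Subgroup.pow_mem _ (M.mul_mem hi.1 hj.1) n
    have hpa : p ^ n • a = a := mem_stabilizer_iff.mp (Subgroup.pow_mem _ (mem_stabilizer_iff.mpr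
      (show p • a = a by rw [hp, mul_smul, hj.2.2, hi.2.2])) n)
    have hnodd : Odd n := by
      by_contra hne'
      rw [Nat.not_odd_iff_even] at hne'
      obtain ⟨c, hc, hca⟩ := hCh.carries.top.exists_ne hQ a
      exact hca (eq_of_fix hQ hmem (mem_fixer.mp (hev n hne') c hc) hpa)
    refine ⟨p ^ n, Or.inr ⟨hpM, hmem, hpa⟩, p ^ (n + 1), inverted_mem_coreFix hQ hB he hCh hi.1 hi.2.1
      (hev _ hnodd.add_one) ?_ (hinvm _), ?_⟩
    · refine hnodd.of_dvd_nat (orderOf_dvd_of_pow_eq_one ?_)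
      obtain ⟨k, hk⟩ := hnodd.add_one
      rw [← pow_mul, hk, show (k + k) * n = (n + n) * k by ring, pow_mul, ← hn', pow_orderOf_eq_one, one_pow]
    · rw [← pow_add, show n + (n + 1) = orderOf p + 1 by omega, pow_succ, pow_orderOf_eq_one, one_mul]
  · refine ⟨1, Or.inl rfl, p, inverted_mem_coreFix hQ hB he hCh hi.1 hi.2.1 ?_ hn hinvp, by rw [one_mul]⟩
    obtain ⟨k, hk⟩ := CfsgLib.Involutions.exists_sqrt hn
    rw [← hk, ← (Commute.refl p).mul_pow]
    exact Subgroup.pow_mem _ hsq k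

omit hb hne in
/-- A group between the odd core of the fixer and the stabiliser of `a` in `M`, extended by the members at `a`. -/
theorem mem_members_sup {E : Subgroup G} (hKE : coreFix G (centres Ω Z M) ≤ E) (hEM : E ≤ M)
    (hEa : ∀ x ∈ E, x • a = a) {x : G} (hx : x ∈ Subgroup.closure (membersAt Z M a) ⊔ E) :
    ∃ i, (i = 1 ∨ i ∈ membersAt Z M a) ∧ ∃ f ∈ E, x = i * f := by
  have hconj : ∀ {f i : G}, f ∈ E → i ∈ membersAt Z M a → f * i * f⁻¹ ∈ membersAt Z M a := fun hf hi =>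
    ⟨M.mul_mem (M.mul_mem (hEM hf) hi.1) (M.inv_mem (hEM hf)), hQ.conj _ hi.2.1 _, by
      rw [mul_smul, mul_smul, inv_smul_eq_iff.mpr (hEa _ hf).symm, hi.2.2, hEa _ hf]⟩
  rw [Subgroup.sup_eq_closure] at hx
  induction hx using Subgroup.closure_induction with
  | mem y hy =>
    rcases hy with hy | hy
    · induction hy using Subgroup.closure_induction with
      | mem z hz => exact ⟨z, Or.inr hz, 1, E.one_mem, (mul_one z).symm⟩
      | one => exact ⟨1, Or.inl rfl, 1, E.one_mem, (mul_one 1).symm⟩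
      | mul y z _ _ ihy ihz =>
        obtain ⟨i, hi, f, hf, rfl⟩ := ihy
        obtain ⟨j, hj, f', hf', rfl⟩ := ihz
        rcases hj with rfl | hj
        · exact ⟨i, hi, f * f', E.mul_mem hf hf', by rw [one_mul, mul_assoc]⟩
        rcases hi with rfl | hi
        · exact ⟨_, Or.inr (hconj hf hj), f * f', E.mul_mem hf hf', by group⟩
        obtain ⟨h, hh, k, hk, he'⟩ := members_mul hQ hB hM he hCh ha hi (hconj hf hj)
        refine ⟨h, hh, k * (f * f'), E.mul_mem (hKE hk) (E.mul_mem hf hf'), ?_⟩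
        rw [← mul_assoc h k, ← he']
        group
      | inv y _ ihy =>
        obtain ⟨i, hi, f, hf, rfl⟩ := ihy
        rcases hi with rfl | hi
        · exact ⟨1, Or.inl rfl, f⁻¹, E.inv_mem hf, by group⟩
        refine ⟨_, Or.inr (hconj (E.inv_mem hf) hi), f⁻¹, E.inv_mem hf, ?_⟩
        rw [mul_inv_rev, (hQ.inv i hi.2.1).inv]
        group
    · exact ⟨1, Or.inl rfl, y, hy, (one_mul y).symm⟩
  | one => exact ⟨1, Or.inl rfl, 1, E.one_mem, (mul_one 1).symm⟩
  | mul y z _ _ ihy ihz =>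
    obtain ⟨i, hi, f, hf, rfl⟩ := ihy
    obtain ⟨j, hj, f', hf', rfl⟩ := ihz
    rcases hj with rfl | hj
    · exact ⟨i, hi, f * f', E.mul_mem hf hf', by rw [one_mul, mul_assoc]⟩
    rcases hi with rfl | hi
    · exact ⟨_, Or.inr (hconj hf hj), f * f', E.mul_mem hf hf', by group⟩
    obtain ⟨h, hh, k, hk, he'⟩ := members_mul hQ hB hM he hCh ha hi (hconj hf hj)
    refine ⟨h, hh, k * (f * f'), E.mul_mem (hKE hk) (E.mul_mem hf hf'), ?_⟩
    rw [← mul_assoc h k, ← he']
    group
  | inv y _ ihy =>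
    obtain ⟨i, hi, f, hf, rfl⟩ := ihy
    rcases hi with rfl | hi
    · exact ⟨1, Or.inl rfl, f⁻¹, E.inv_mem hf, by group⟩
    refine ⟨_, Or.inr (hconj (E.inv_mem hf) hi), f⁻¹, E.inv_mem hf, ?_⟩
    rw [mul_inv_rev, (hQ.inv i hi.2.1).inv]
    group

theorem mem_pointOdd {x : G} (hx : x ∈ pointOdd Z M a b) :
    ∃ i, (i = 1 ∨ i ∈ membersAt Z M a) ∧ ∃ f ∈ pairOdd M a b, x = i * f :=
  mem_members_sup hQ hB hM he hCh ha (coreFix_le_pairOdd hQ hB hM he hCh ha hb hne) pairOdd_le
    (fun _ hy => (mem_two.mp (pairOdd_le_two hy)).1) hx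

theorem pointOdd_le : pointOdd Z M a b ≤ M :=
  sup_le ((Subgroup.closure_le _).mpr fun _ hi => hi.1) pairOdd_le

theorem pairOdd_le_pointOdd : pairOdd M a b ≤ pointOdd Z M a b := le_sup_right

theorem invol_mem_pointOdd {i : G} (hiM : i ∈ M) (hi : i ∈ Z) (hia : i • a = a) : i ∈ pointOdd Z M a b :=
  Subgroup.mem_sup_left (Subgroup.subset_closure ⟨hiM, hi, hia⟩)

theorem pointOdd_smul {x : G} (hx : x ∈ pointOdd Z M a b) : x • a = a := by
  obtain ⟨i, hi, f, hf, rfl⟩ := mem_pointOdd hQ hB hM he hCh ha hb hne hx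
  rw [mul_smul, (mem_two.mp (pairOdd_le_two hf)).1]
  rcases hi with rfl | hi
  · exact one_smul _ _
  · exact hi.2.2

theorem pointOdd_inf_two {x : G} (hx : x ∈ pointOdd Z M a b) (hxb : x • b = b) : x ∈ pairOdd M a b := by
  obtain ⟨i, hi, f, hf, rfl⟩ := mem_pointOdd hQ hB hM he hCh ha hb hne hx
  rcases hi with rfl | hi
  · rwa [one_mul]
  · rw [mul_smul, (mem_two.mp (pairOdd_le_two hf)).2] at hxb
    exact absurd (eq_of_fix hQ hi.2.1 hxb hi.2.2) hne

theorem card_pointOdd : ∃ f : ℕ, Nat.card (pointOdd Z M a b) = 2 ^ f * Nat.card (pairOdd M a b) := by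
  haveI := finite_points hQ
  obtain ⟨f, -, hf⟩ := qTop_two_pow hQ hCh.carries.top hB
  refine ⟨f, ?_⟩
  set B := pointOdd Z M a b with hBdef
  have horb : orbit B b = circ Z M a b \ {a} := by
    ext c
    constructor
    · rintro ⟨⟨x, hx⟩, rfl⟩
      refine ⟨?_, fun e => hne (smul_left_cancel x (e.trans (pointOdd_smul hQ hB hM he hCh ha hb hne hx).symm))⟩
      obtain ⟨i, hi, f, hf, rfl⟩ := mem_pointOdd hQ hB hM he hCh ha hb hne hx
      show (i * f) • b ∈ circ Z M a b
      rw [mul_smul, (mem_two.mp (pairOdd_le_two hf)).2]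
      rcases hi with rfl | hi
      · exact Or.inr (Or.inl (one_smul _ _))
      · exact Or.inr (Or.inr ⟨i, hi.1, hi.2.1, hi.2.2, rfl⟩)
    · rintro ⟨hc | hc | ⟨i, hiM, hi, hia, rfl⟩, hca⟩
      · exact absurd hc hca
      · rw [hc]; exact mem_orbit_self b
      · exact ⟨⟨i, invol_mem_pointOdd hQ hB hM he hCh ha hb hne hiM hi hia⟩, rfl⟩
  have hcard : Nat.card (orbit B b) = 2 ^ f := by
    rw [horb, Nat.card_coe_set_eq, Set.ncard_sdiff_singleton_of_mem (show a ∈ circ Z M a b from Or.inl rfl),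
      ← Nat.card_coe_set_eq, card_circ hQ hCh.carries.top hB ha hb hne, hf, Nat.add_sub_cancel]
  have hstab : stabilizer B b = (pairOdd M a b).subgroupOf B := by
    ext x
    rw [mem_stabilizer_iff, Subgroup.mem_subgroupOf]
    exact ⟨fun h => pointOdd_inf_two hQ hB hM he hCh ha hb hne x.2 h, fun h => (mem_two.mp (pairOdd_le_two h)).2⟩
  rw [Subgroup.card_eq_card_quotient_mul_card_subgroup (stabilizer B b),
    ← Nat.card_congr (orbitEquivQuotientStabilizer B b), hcard, hstab,
    Nat.card_congr (Subgroup.subgroupOfEquivOfLe (pairOdd_le_pointOdd hQ hB hM he hCh ha hb hne)).toEquiv]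

omit hb hne in
/-- The group of the members at `a` and the odd core of the fixer is abelian modulo that core. -/
theorem comm_mem_core {x y : G} (hx : x ∈ Subgroup.closure (membersAt Z M a) ⊔ coreFix G (centres Ω Z M))
    (hy : y ∈ Subgroup.closure (membersAt Z M a) ⊔ coreFix G (centres Ω Z M)) :
    x * y * x⁻¹ * y⁻¹ ∈ coreFix G (centres Ω Z M) := by
  set Ko := coreFix G (centres Ω Z M)
  have hfa : ∀ z ∈ Ko, z • a = a := fun z hz => mem_fixer.mp (coreFix_le _ hz) a ha
  obtain ⟨i, hi, k, hk, rfl⟩ :=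
    mem_members_sup hQ hB hM he hCh ha le_rfl (coreFix_le_self hQ hB he hCh) hfa hx
  obtain ⟨j, hj, l, hl, rfl⟩ :=
    mem_members_sup hQ hB hM he hCh ha le_rfl (coreFix_le_self hQ hB he hCh) hfa hy
  have hn : ∀ {i : G}, i = 1 ∨ i ∈ membersAt Z M a →
      i * i = 1 ∧ ∀ z ∈ Ko, i * z * i ∈ Ko := fun {i} hi => by
    rcases hi with rfl | hi
    · exact ⟨one_mul 1, fun z hz => by rwa [one_mul, mul_one]⟩
    · refine ⟨(hQ.inv i hi.2.1).2, fun z hz => ?_⟩
      have := conj_mem_of_normalizer (le_normalizer_coreFix hQ hCh hi.1) hz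
      rwa [(hQ.inv i hi.2.1).inv] at this
  obtain ⟨hi2, hiK⟩ := hn hi
  obtain ⟨hj2, hjK⟩ := hn hj
  have hij : i * j * i * j ∈ Ko := by
    rcases hi with rfl | hi
    · rw [one_mul, mul_one, hj2]; exact Ko.one_mem
    rcases hj with rfl | hj
    · rw [mul_one, mul_one, hi2]; exact Ko.one_mem
    obtain ⟨h, hh, c, hc, he'⟩ := members_mul hQ hB hM he hCh ha hi hj
    obtain ⟨hh2, hhK⟩ := hn hh
    rw [show i * j * i * j = i * j * (i * j) by group, he',
      show h * c * (h * c) = h * c * h * c by group]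
    exact Ko.mul_mem (hhK c hc) hc
  have hiinv : i⁻¹ = i := inv_eq_of_mul_eq_one_right hi2
  have hjinv : j⁻¹ = j := inv_eq_of_mul_eq_one_right hj2
  have e1 : i * k * (j * l) * (i * k)⁻¹ * (j * l)⁻¹ =
      (i * k * i) * ((i * j) * (l * k⁻¹) * (i * j)⁻¹) * (i * j * i * j) * (j * l⁻¹ * j) := by
    simp only [mul_inv_rev, hiinv, hjinv, mul_assoc]
    simp only [← mul_assoc i i, ← mul_assoc j j, hi2, hj2, one_mul]
  rw [e1]
  refine Ko.mul_mem (Ko.mul_mem (Ko.mul_mem (hiK k hk) ?_) hij) (hjK _ (Ko.inv_mem hl))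
  have h2 := hiK _ (hjK _ (Ko.mul_mem hl (Ko.inv_mem hk)))
  rwa [mul_inv_rev, hiinv, hjinv, show i * j * (l * k⁻¹) * (j * i) = i * (j * (l * k⁻¹) * j) * i by group]

theorem pointCore_normal :
    ((Subgroup.closure (membersAt Z M a) ⊔ coreFix G (centres Ω Z M)).subgroupOf (pointOdd Z M a b)).Normal := by
  set U := Subgroup.closure (membersAt Z M a) ⊔ coreFix G (centres Ω Z M)
  have hUB : U ≤ pointOdd Z M a b :=
    sup_le le_sup_left ((coreFix_le_pairOdd hQ hB hM he hCh ha hb hne).trans le_sup_right)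
  refine (Subgroup.normal_subgroupOf_iff_le_normalizer hUB).mpr (sup_le ?_ ?_)
  · exact le_sup_left.trans Subgroup.le_normalizer
  · intro f hf
    refine mem_normalizer_of_conj fun x hx => ?_
    have : U.map (MulAut.conj f).toMonoidHom ≤ U := by
      rw [Subgroup.map_sup]
      refine sup_le_sup (Subgroup.map_le_iff_le_comap.mpr ((Subgroup.closure_le _).mpr fun i hi => ?_))
        (Subgroup.map_le_iff_le_comap.mpr fun z hz =>
          conj_mem_of_normalizer (le_normalizer_coreFix hQ hCh (pairOdd_le hf)) hz)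
      refine Subgroup.subset_closure ⟨M.mul_mem (M.mul_mem (pairOdd_le hf) hi.1) (M.inv_mem (pairOdd_le hf)),
        hQ.conj i hi.2.1 f, ?_⟩
      have hfa := (mem_two.mp (pairOdd_le_two hf)).1
      show (f * i * f⁻¹) • a = a
      rw [mul_smul, mul_smul, inv_smul_eq_iff.mpr hfa.symm, hi.2.2, hfa]
    exact this ⟨x, hx, rfl⟩

theorem pointCore_sup : (Subgroup.closure (membersAt Z M a) ⊔ coreFix G (centres Ω Z M)) ⊔ pairOdd M a b =
    pointOdd Z M a b :=
  le_antisymm (sup_le (sup_le le_sup_left ((coreFix_le_pairOdd hQ hB hM he hCh ha hb hne).trans le_sup_right))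
    le_sup_right) (sup_le (le_sup_left.trans le_sup_left) le_sup_right)

theorem abTwo_pointOdd : AbTwo (pointOdd Z M a b) := by
  set B := pointOdd Z M a b
  set U := Subgroup.closure (membersAt Z M a) ⊔ coreFix G (centres Ω Z M)
  haveI := pointCore_normal hQ hB hM he hCh ha hb hne
  have hsup := pointCore_sup hQ hB hM he hCh ha hb hne
  have hodd : Odd (U.relIndex B) := by
    refine (odd_oddRad (pairIn M a b)).of_dvd_nat ?_
    have hUB : U ≤ B := le_sup_left.trans hsup.le
    have hEB : pairOdd M a b ≤ B := le_sup_right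
    have h1 := Subgroup.relIndex_sup_left (K := U.subgroupOf B) (H := (pairOdd M a b).subgroupOf B)
    rw [← Subgroup.subgroupOf_sup hUB hEB, hsup, Subgroup.subgroupOf_self, Subgroup.relIndex_top_right,
      Subgroup.relIndex_subgroupOf hEB] at h1
    show (U.subgroupOf B).index ∣ _
    rw [h1]
    exact Subgroup.relIndex_dvd_card _ _
  intro P hP x hx y hy
  have hmem : ∀ z ∈ P, (z : G) ∈ U := fun z hz => by
    obtain ⟨k, hk⟩ := hP ⟨z, hz⟩
    have hk' : z ^ 2 ^ k = 1 := congrArg Subtype.val hk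
    have hcop : (U.relIndex B).Coprime (orderOf z) :=
      (Nat.Coprime.pow_right k (Nat.coprime_two_right.mpr hodd)).coprime_dvd_right
        (orderOf_dvd_of_pow_eq_one hk')
    obtain ⟨m, hm⟩ := exists_pow_eq_self_of_coprime hcop
    have h1 : z ^ U.relIndex B ∈ U.subgroupOf B := Subgroup.pow_index_mem _ z
    have h2 := Subgroup.pow_mem _ h1 m
    rwa [hm, Subgroup.mem_subgroupOf] at h2
  obtain ⟨j, hj⟩ := hP ⟨x * y * x⁻¹ * y⁻¹, P.mul_mem (P.mul_mem (P.mul_mem hx hy) (P.inv_mem hx)) (P.inv_mem hy)⟩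
  have hc := comm_mem_core hQ hB hM he hCh ha (hmem x hx) (hmem y hy)
  have hj' : ((x * y * x⁻¹ * y⁻¹ : B) : G) ^ 2 ^ j = 1 := congrArg (fun z : P => ((z : B) : G)) hj
  have h1 : ((x * y * x⁻¹ * y⁻¹ : B) : G) = 1 := orderOf_eq_one_iff.mp (Nat.eq_one_of_dvd_coprimes
    (Nat.Coprime.pow_left j (Nat.coprime_two_left.2 (odd_orderOf_oddRad (show ((x * y * x⁻¹ * y⁻¹ : B) : G) ∈
      coreFix G (centres Ω Z M) by push_cast; exact hc)))) (orderOf_dvd_of_pow_eq_one hj') dvd_rfl)
  have h2 : x * y * x⁻¹ * y⁻¹ = 1 := Subtype.ext h1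
  rw [mul_inv_eq_one, mul_inv_eq_iff_eq_mul] at h2
  exact h2

theorem solvable_pointOdd : Group.IsSolvable (pointOdd Z M a b) := by
  set B := pointOdd Z M a b
  set Ko := coreFix G (centres Ω Z M)
  set U := Subgroup.closure (membersAt Z M a) ⊔ Ko
  haveI := pointCore_normal hQ hB hM he hCh ha hb hne
  have hsup := pointCore_sup hQ hB hM he hCh ha hb hne
  haveI : Group.IsSolvable (pairOdd M a b) := Cfsg.Agent.S0205.result (odd_oddRad _)
  haveI : Group.IsSolvable (B ⧸ U.subgroupOf B) := by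
    refine Group.isSolvable_of_surjective (f := (QuotientGroup.mk' (U.subgroupOf B)).comp
      (Subgroup.inclusion (le_sup_right : pairOdd M a b ≤ B))) fun z => ?_
    obtain ⟨⟨g, hg⟩, rfl⟩ := QuotientGroup.mk'_surjective _ z
    obtain ⟨i, hi, f, hf, rfl⟩ := mem_pointOdd hQ hB hM he hCh ha hb hne hg
    refine ⟨⟨f, hf⟩, (QuotientGroup.mk'_eq_mk' _).mpr ?_⟩
    have hiU : i ∈ U := by
      rcases hi with rfl | hi
      · exact U.one_mem
      · exact Subgroup.mem_sup_left (Subgroup.subset_closure hi)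
    have hUB : U ≤ B := le_sup_left.trans hsup.le
    have hfB : f ∈ B := Subgroup.mem_sup_right hf
    have hfi : f⁻¹ * i * f ∈ B := B.mul_mem (B.mul_mem (B.inv_mem hfB) (hUB hiU)) hfB
    refine ⟨⟨f⁻¹ * i * f, hfi⟩, ?_, Subtype.ext (show f * (f⁻¹ * i * f) = i * f by group)⟩
    have := Subgroup.Normal.conj_mem ‹(U.subgroupOf B).Normal› ⟨i, hUB hiU⟩ hiU ⟨f⁻¹, B.inv_mem hfB⟩
    simpa [Subgroup.mem_subgroupOf] using this
  haveI : Group.IsSolvable (U.subgroupOf B) := by
    haveI : Group.IsSolvable Ko := Cfsg.Agent.S0205.result (odd_oddRad _)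
    have hKU : Ko ≤ U := le_sup_right
    haveI : (Ko.subgroupOf U).Normal := (Subgroup.normal_subgroupOf_iff_le_normalizer hKU).mpr
      ((sup_le ((Subgroup.closure_le _).mpr fun i hi => hi.1) (coreFix_le_self hQ hB he hCh)).trans
        (le_normalizer_coreFix hQ hCh))
    haveI : Group.IsSolvable (U ⧸ Ko.subgroupOf U) := Group.isSolvable_of_comm fun p q => by
      obtain ⟨x, rfl⟩ := QuotientGroup.mk'_surjective _ p
      obtain ⟨y, rfl⟩ := QuotientGroup.mk'_surjective _ q
      rw [← commutatorElement_eq_one_iff_mul_comm, ← map_commutatorElement, QuotientGroup.mk'_apply,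
        QuotientGroup.eq_one_iff, Subgroup.mem_subgroupOf, commutatorElement_def]
      push_cast
      exact comm_mem_core hQ hB hM he hCh ha x.2 y.2
    haveI : Group.IsSolvable (Ko.subgroupOf U) :=
      Group.isSolvable_of_isSolvable_injective (f := (Subgroup.subgroupOfEquivOfLe hKU).toMonoidHom)
        (Subgroup.subgroupOfEquivOfLe hKU).injective
    haveI : Group.IsSolvable U := Group.isSolvable_of_ker_le_range (Ko.subgroupOf U).subtype
      (QuotientGroup.mk' (Ko.subgroupOf U)) (by rw [QuotientGroup.ker_mk', Subgroup.range_subtype])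
    have hUB : U ≤ B := le_sup_left.trans hsup.le
    exact Group.isSolvable_of_isSolvable_injective (f := (Subgroup.subgroupOfEquivOfLe hUB).toMonoidHom)
      (Subgroup.subgroupOfEquivOfLe hUB).injective
  exact Group.isSolvable_of_ker_le_range (U.subgroupOf B).subtype (QuotientGroup.mk' (U.subgroupOf B))
    (by rw [QuotientGroup.ker_mk', Subgroup.range_subtype])

variable {u : G} (huM : u ∈ M) (hu : u ∈ Z) (hua : u • a = b)
include huM hu hua

theorem swap_normalizer_pairOdd : u ∈ Subgroup.normalizer (pairOdd M a b : Set G) :=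
  le_normalizer_oddRad _ (Subgroup.mem_normalizer_iff.mpr fun x =>
    and_congr (Subgroup.mem_normalizer_iff.mp (mem_normalizer_two hQ hne hu hua) x)
      (Subgroup.mem_normalizer_iff.mp (Subgroup.le_normalizer huM) x))

theorem swap_normalizer_cent (l : ℕ) [Fact l.Prime] :
    u ∈ Subgroup.normalizer ((pairOdd M a b ⊓ centOther l (coreFix G (centres Ω Z M)) : Subgroup G) : Set G) := by
  refine Subgroup.mem_normalizer_iff.mpr fun x => ?_
  have hc : x ∈ centOther l (coreFix G (centres Ω Z M)) ↔ u * x * u⁻¹ ∈ centOther l (coreFix G (centres Ω Z M)) := by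
    simp only [mem_centOther]
    refine forall_congr' fun r => imp_congr_right fun hr => imp_congr_right fun _ => ?_
    exact Subgroup.mem_normalizer_iff.mp (Ext.normalizer_le_centralizer (M_le_core hQ hB hM he hCh r huM)) x
  exact and_congr (Subgroup.mem_normalizer_iff.mp (swap_normalizer_pairOdd hQ hB hM he hCh ha hb hne huM hu hua) x) hc

/-- A subgroup of odd order normalised by the members at `a`, the swapper and the odd core fixes all centres. -/
theorem le_fixer_of_normalised {J : Subgroup G} (hJ : J ≠ ⊥) (hJM : J ≤ M) (hodd : Odd (Nat.card J))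
    (hJa : ∀ z ∈ J, z • a = a) (huJ : u ∈ Subgroup.normalizer (J : Set G))
    (hinv : ∀ i ∈ M, i ∈ Z → i • a = a → i ∈ Subgroup.normalizer (J : Set G))
    (hcore : coreFix G (centres Ω Z M) ≤ Subgroup.normalizer (J : Set G)) :
    J ≤ fixer G (centres Ω Z M) := by
  haveI := finite_points hQ
  set X := M ⊓ Subgroup.normalizer (J : Set G) with hXdef
  have hmemX : ∀ {y : G}, y ∈ M → y ∈ Subgroup.normalizer (J : Set G) → y ∈ X := fun h1 h2 =>
    Subgroup.mem_inf.mpr ⟨h1, h2⟩
  have hX : X ≠ ⊤ := fun e => hCh.carries.top.ne_top (top_le_iff.mp (e ▸ inf_le_left))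
  obtain ⟨hXc, hXq, hcirc⟩ := normalizer_top hQ hB he hCh ha hb hne huM hu hua (Y := X) hX (hmemX huM huJ)
    (fun i hiM hi hia => hmemX hiM (hinv i hiM hi hia))
    (fun x hx => hmemX hx.1 (hcore (kerBad_subset_coreFix hQ hB he hCh huM hu hx)))
  have hcen : centres Ω Z X = centres Ω Z M := by
    refine Set.Subset.antisymm (centres_mono inf_le_left) ?_
    rcases hCh.shape with h | ⟨h, hsz⟩
    · rw [← circ_eq_centres hQ hCh.carries.top hB ha hb hne h, ← hcirc]
      obtain ⟨v, hvM, -, -, hv, hva, -⟩ := four_at hQ hCh.carries.top ha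
      exact circ_subset hQ (mem_centres (hmemX hvM (hinv v hvM hv hva)) hv hva)
        (hua ▸ centres_smul hQ (hmemX huM huJ) (mem_centres (hmemX hvM (hinv v hvM hv hva)) hv hva))
    · exact (Set.eq_of_subset_of_ncard_le (centres_mono inf_le_left)
        (by rw [← Nat.card_coe_set_eq, ← Nat.card_coe_set_eq, h, (hsz X hXc hXq).1]) (Set.toFinite _)).ge
  intro z hz
  refine mem_fixer.mpr fun c hc => ?_
  by_contra hzc
  obtain ⟨v, hvM, -, -, hv, hva, -⟩ := four_at hQ hCh.carries.top ha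
  have hvJ := invol_mem_of_normal hQ hXc.top hB (le_inf hJM Subgroup.le_normalizer) inf_le_right hz
    (hcen.symm ▸ hc) hzc (hmemX hvM (hinv v hvM hv hva)) hv
  exact (hQ.inv v hv).1 (eq_one_of_two_odd (by rw [pow_two]; exact (hQ.inv v hv).2) (odd_orderOf hodd hvJ))

/-- Q2: `Z(J)` of an invariant Sylow subgroup of the centraliser of the other cores. -/
theorem zj_pair {l : ℕ} [Fact l.Prime] (hl : l ≠ 2) {R : Subgroup G}
    (hR : MaxP l (pairOdd M a b ⊓ centOther l (coreFix G (centres Ω Z M))) R)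
    (huR : u ∈ Subgroup.normalizer (R : Set G)) (hR0 : R ≠ ⊥) :
    two a b ⊓ Subgroup.normalizer (CfsgLib.ZJ.zj 0 R : Set G) ≤ M := by
  haveI := finite_points hQ
  set K0 := coreFix G (centres Ω Z M) with hK0
  set B := pointOdd Z M a b with hBdef
  set C := B ⊓ centOther l K0 with hCdef
  have hEB : pairOdd M a b ≤ B := pairOdd_le_pointOdd hQ hB hM he hCh ha hb hne
  haveI : Group.IsSolvable B := solvable_pointOdd hQ hB hM he hCh ha hb hne
  haveI : Group.IsSolvable K0 := Cfsg.Agent.S0205.result (odd_oddRad _)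
  have hK0B : K0 ≤ B := (coreFix_le_pairOdd hQ hB hM he hCh ha hb hne).trans hEB
  have hBM : B ≤ M := pointOdd_le hQ hB hM he hCh ha hb hne
  have hBn : B ≤ Subgroup.normalizer (K0 : Set G) := hBM.trans (le_normalizer_coreFix hQ hCh)
  have hCn : B ≤ Subgroup.normalizer (C : Set G) := fun g hg => by
    refine Subgroup.mem_normalizer_iff.mpr fun x => ?_
    have hc : x ∈ centOther l K0 ↔ g * x * g⁻¹ ∈ centOther l K0 := by
      simp only [mem_centOther]
      refine forall_congr' fun r => imp_congr_right fun hr => imp_congr_right fun _ => ?_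
      exact Subgroup.mem_normalizer_iff.mp (Ext.normalizer_le_centralizer (normalizer_le_pCoreOf r K0 (hBn hg))) x
    exact and_congr (Subgroup.mem_normalizer_iff.mp (Subgroup.le_normalizer hg) x) hc
  have hle : pairOdd M a b ⊓ centOther l K0 ≤ C := inf_le_inf_right _ hEB
  -- the index of the pair part is a power of two
  have hidx : ∃ f, (pairOdd M a b ⊓ centOther l K0).relIndex C ∣ 2 ^ f := by
    obtain ⟨f, hf⟩ := card_pointOdd hQ hB hM he hCh ha hb hne
    refine ⟨f, ?_⟩
    haveI : (C.subgroupOf B).Normal := (Subgroup.normal_subgroupOf_iff_le_normalizer inf_le_left).mpr hCn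
    have h1 := Subgroup.relIndex_dvd_index_of_normal (C.subgroupOf B) ((pairOdd M a b).subgroupOf B)
    rw [Subgroup.relIndex_subgroupOf hEB] at h1
    change C.relIndex (pairOdd M a b) ∣ C.relIndex B at h1
    rw [show C.relIndex (pairOdd M a b) = (pairOdd M a b ⊓ centOther l K0).relIndex (pairOdd M a b) by
      rw [← Subgroup.inf_relIndex_right C, show C ⊓ pairOdd M a b = pairOdd M a b ⊓ centOther l K0 by
        rw [hCdef, inf_right_comm, inf_eq_right.mpr hEB]]] at h1
    set E := pairOdd M a b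
    set N := pairOdd M a b ⊓ centOther l K0
    have e1 : Nat.card B = N.relIndex C * C.relIndex B * Nat.card N := by
      rw [← Subgroup.relIndex_bot_left, ← Subgroup.relIndex_bot_left (H := N),
        Subgroup.relIndex_mul_relIndex N C B hle inf_le_left, mul_comm,
        Subgroup.relIndex_mul_relIndex ⊥ N B bot_le (hle.trans inf_le_left)]
    have e2 : Nat.card E = N.relIndex E * Nat.card N := by
      rw [← Subgroup.relIndex_bot_left, ← Subgroup.relIndex_bot_left (H := N), mul_comm,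
        Subgroup.relIndex_mul_relIndex ⊥ N E bot_le inf_le_left]
    rw [e1, e2, ← mul_assoc] at hf
    have h3 := Nat.eq_of_mul_eq_mul_right Nat.card_pos hf
    obtain ⟨k, hk⟩ := h1
    refine ⟨k, Nat.eq_of_mul_eq_mul_right (m := N.relIndex E) ?_ ?_⟩
    · exact Nat.pos_of_ne_zero Subgroup.index_ne_zero_of_finite
    · rw [← h3, hk]; ring
  have hS : IsSylowOf l R C := by
    refine ⟨hR.le.trans hle, hR.isPGroup, ?_⟩
    obtain ⟨T, hT⟩ := hR.sylow
    rw [← Subgroup.relIndex_mul_relIndex R _ C hR.le hle]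
    intro hd
    rcases (Fact.out : l.Prime).dvd_mul.mp hd with h | h
    · refine T.not_dvd_index ?_
      rw [hT]
      exact h
    · obtain ⟨f, hf⟩ := hidx
      exact hl ((Nat.prime_dvd_prime_iff_eq Fact.out Nat.prime_two).mp ((Fact.out : l.Prime).dvd_of_dvd_pow (h.trans hf)))
  have hcent : B ⊓ Subgroup.centralizer (pCoreOf l K0 : Set G) ⊓ centOther l K0 ≤ K0 := by
    intro x hx
    obtain ⟨r, hr, hmov⟩ := exists_moving hQ hB hM he hCh
    have hxK : x ∈ fixer G (centres Ω Z M) := by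
      refine cent_le_fixer hQ hB hM he hCh hmov ⟨hBM hx.1.1, ?_⟩
      rcases eq_or_ne r l with rfl | hne'
      · exact hx.1.2
      · exact mem_centOther.mp hx.2 r hr hne'
    exact pairOdd_inf_fixer hQ hB hM he hCh ha hb hne
      ⟨pointOdd_inf_two hQ hB hM he hCh ha hb hne hx.1.1 (mem_fixer.mp hxK b hb), hxK⟩
  obtain ⟨hJ1, -⟩ := Ext.zj_cent_fitting (abTwo_pointOdd hQ hB hM he hCh ha hb hne) hl hK0B hBn hcent hS
  set J := CfsgLib.ZJ.zj 0 R
  have hJ0 : J ≠ ⊥ := CfsgLib.ZJ.zj_ne_bot (p := l) (Or.inl rfl) hR.isPGroup hR0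
  have hJE : J ≤ pairOdd M a b := (CfsgLib.ZJ.zj_le 0 R).trans (hR.le.trans inf_le_left)
  have huJ : u ∈ Subgroup.normalizer (J : Set G) := CfsgLib.ZJ.normalizer_le_normalizer_zj 0 R huR
  have hinv : ∀ i ∈ M, i ∈ Z → i • a = a → i ∈ Subgroup.normalizer (J : Set G) := fun i hiM hi hia =>
    hJ1 (invol_mem_pointOdd hQ hB hM he hCh ha hb hne hiM hi hia)
  have hJK := le_fixer_of_normalised hQ hB hM he hCh ha hb hne huM hu hua hJ0 (hJE.trans pairOdd_le)
    ((odd_oddRad _).of_dvd_nat (Subgroup.card_dvd_of_le hJE))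
    (fun z hz => (mem_two.mp (pairOdd_le_two (hJE hz))).1) huJ hinv (hK0B.trans hJ1)
  exact normalizer_inf_two_le hQ hB he hCh ha hb hne huM hu hua hJ0 hJK huJ hinv (hK0B.trans hJ1)

theorem exists_pair_sylow (l : ℕ) [Fact l.Prime] :
    ∃ R, MaxP l (pairOdd M a b ⊓ centOther l (coreFix G (centres Ω Z M))) R ∧
      u ∈ Subgroup.normalizer (R : Set G) :=
  CfsgLib.Bender.TwoClosed.exists_invariant_maxP
    ((odd_oddRad _).of_dvd_nat (Subgroup.card_dvd_of_le inf_le_left)) (hQ.inv u hu).2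
    fun k hk => conj_mem_of_normalizer (swap_normalizer_cent hQ hB hM he hCh ha hb hne huM hu hua l) hk

omit huM hu hua in
/-- Cores of the odd pair part commute with the cores of the odd core of the fixer at other primes. -/
theorem commute_core {r l : ℕ} (hr : r.Prime) (hl : l.Prime) (hrl : r ≠ l) {W : Subgroup G}
    (hWE : W ≤ pairOdd M a b) (hEW : pairOdd M a b ≤ Subgroup.normalizer (W : Set G)) (hW : IsPGroup l W) :
    W ≤ Subgroup.centralizer (pCoreOf r (coreFix G (centres Ω Z M)) : Set G) := by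
  haveI := Fact.mk hr
  haveI := Fact.mk hl
  refine Ext.commute_of_inf_eq_bot (hWE.trans (pairOdd_le.trans (M_le_core hQ hB hM he hCh r)))
    (((pCoreOf_le r _).trans (coreFix_le_pairOdd hQ hB hM he hCh ha hb hne)).trans hEW) ?_
  exact disjoint_iff.mp (IsPGroup.disjoint_of_ne l r hrl.symm _ _ hW (isPGroup_pCoreOf r _))

omit huM hu hua in
theorem le_core_of_other {r l : ℕ} (hr : r.Prime) (hl : l.Prime) (hrl : r ≠ l) (hmov : Moving Ω Z M r)
    {W : Subgroup G} (hWE : W ≤ pairOdd M a b) (hEW : pairOdd M a b ≤ Subgroup.normalizer (W : Set G))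
    (hW : IsPGroup l W) : W ≤ pCoreOf l (coreFix G (centres Ω Z M)) := by
  have hWK : W ≤ coreFix G (centres Ω Z M) := fun w hw => pairOdd_inf_fixer hQ hB hM he hCh ha hb hne
    ⟨hWE hw, cent_le_fixer hQ hB hM he hCh hmov
      ⟨pairOdd_le (hWE hw), commute_core hQ hB hM he hCh ha hb hne hr hl hrl hWE hEW hW hw⟩⟩
  exact le_pCoreOf' hWK ((coreFix_le_pairOdd hQ hB hM he hCh ha hb hne).trans hEW) hW

omit huM hu hua in
/-- Growth: if only `M` normalises `R` and `P` meets `M` in `R`, then `P` lies in `M`. -/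
theorem le_of_growth {l : ℕ} [Fact l.Prime] {P R : Subgroup G} (hPD : P ≤ two a b)
    (hEP : pairOdd M a b ≤ Subgroup.normalizer (P : Set G)) (hP : IsPGroup l P) (hRE : R ≤ pairOdd M a b)
    (hR : IsPGroup l R) (hPR : P ⊓ M ≤ R) (hN : two a b ⊓ Subgroup.normalizer (R : Set G) ≤ M) : P ≤ M := by
  have hRP : R ≤ Subgroup.normalizer (P : Set G) := hRE.trans hEP
  rcases (le_sup_left : R ≤ R ⊔ P).eq_or_lt with h | hlt
  · exact (le_sup_right.trans h.ge).trans (hRE.trans pairOdd_le)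
  obtain ⟨y, hy, hyR, hyn⟩ := exists_mem_normalizer (hR.to_sup_of_normal_right' hP hRP) hlt
  have hyM : y ∈ M := hN ⟨sup_le (hRE.trans pairOdd_le_two) hPD hy, hyn⟩
  rw [← SetLike.mem_coe, Subgroup.coe_mul_of_left_le_normalizer_right _ _ hRP] at hy
  obtain ⟨r, hr, p, hp, rfl⟩ := Set.mem_mul.mp hy
  refine absurd (R.mul_mem hr (hPR ⟨hp, ?_⟩)) hyR
  rw [← inv_mul_cancel_left r p]
  exact M.mul_mem (M.inv_mem (pairOdd_le (hRE hr))) hyM

omit huM hu hua in
theorem le_maxP_of_normal {l : ℕ} [Fact l.Prime] {K R W : Subgroup G} (hR : MaxP l K R) (hW : IsPGroup l W)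
    (hWK : W ≤ K) (hKW : K ≤ Subgroup.normalizer (W : Set G)) : W ≤ R := by
  rw [← hR.eq_of_le (hR.isPGroup.to_sup_of_normal_right' hW (hR.le.trans hKW)) (sup_le hR.le hWK) le_sup_left]
  exact le_sup_right

/-- The first half of the growth: an `l`-group outside `M` normalised by the odd pair part meets `M` trivially, and
another prime is moving. -/
theorem outside_inf {l : ℕ} (hl : l.Prime) (hl2 : l ≠ 2) {P : Subgroup G} (hPD : P ≤ two a b)
    (hEP : pairOdd M a b ≤ Subgroup.normalizer (P : Set G)) (hP : IsPGroup l P)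
    (hPME : P ⊓ M ≤ pairOdd M a b) (hPM : ¬ P ≤ M) :
    (∀ p ∈ P, p ∈ M → p = 1) ∧ ∃ r : ℕ, r.Prime ∧ r ≠ l ∧ Moving Ω Z M r := by
  haveI := Fact.mk hl
  set K0 := coreFix G (centres Ω Z M) with hK0
  set E := pairOdd M a b with hE
  have hEPM : E ≤ Subgroup.normalizer ((P ⊓ M : Subgroup G) : Set G) := fun g hg =>
    Subgroup.mem_normalizer_iff.mpr fun x => and_congr (Subgroup.mem_normalizer_iff.mp (hEP hg) x)
      (Subgroup.mem_normalizer_iff.mp (Subgroup.le_normalizer (pairOdd_le hg)) x)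
  have hPMp : IsPGroup l (P ⊓ M : Subgroup G) := hP.to_le inf_le_left
  have hK0E : K0 ≤ E := coreFix_le_pairOdd hQ hB hM he hCh ha hb hne
  obtain ⟨r, hr, hrl, hmov⟩ : ∃ r : ℕ, r.Prime ∧ r ≠ l ∧ Moving Ω Z M r := by
    by_contra hno
    push Not at hno
    obtain ⟨r, hr, hmov⟩ := exists_moving hQ hB hM he hCh
    obtain rfl : r = l := by
      by_contra hrl
      exact hno r hr hrl hmov
    obtain ⟨R, hR, huR⟩ := exists_pair_sylow hQ hB hM he hCh ha hb hne huM hu hua r
    have hPR : P ⊓ M ≤ R := le_maxP_of_normal hQ hB hM he hCh ha hb hne hR hPMp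
      (fun x hx => ⟨hPME hx, mem_centOther.mpr fun s hs hsr =>
        commute_core hQ hB hM he hCh ha hb hne hs hr hsr hPME hEPM hPMp hx⟩)
      (inf_le_left.trans hEPM)
    have hR0 : R ≠ ⊥ := by
      intro e0
      obtain ⟨i, hiM, -, -, hi, -, -, -⟩ := hCh.carries.top.four
      obtain ⟨x, hx, hxne⟩ := hmov i hiM hi
      have hsub : pCoreOf r K0 ≤ E := (pCoreOf_le r K0).trans hK0E
      have hn : E ≤ Subgroup.normalizer (pCoreOf r K0 : Set G) := pairOdd_le.trans (M_le_core hQ hB hM he hCh r)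
      have hxR : x ∈ R := le_maxP_of_normal hQ hB hM he hCh ha hb hne hR (isPGroup_pCoreOf r K0)
        (fun y hy => ⟨hsub hy, mem_centOther.mpr fun s hs hsr =>
          commute_core hQ hB hM he hCh ha hb hne hs hr hsr hsub hn (isPGroup_pCoreOf r K0) hy⟩)
        (inf_le_left.trans hn) hx
      rw [e0, Subgroup.mem_bot] at hxR
      exact hxne (by rw [hxR, mul_one, (hQ.inv i hi).2])
    refine hPM (le_of_growth hQ hB hM he hCh ha hb hne hPD hEP hP (hR.le.trans inf_le_left) hR.isPGroup hPR ?_)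
    exact le_trans (inf_le_inf_left _ (CfsgLib.ZJ.normalizer_le_normalizer_zj 0 R))
      (zj_pair hQ hB hM he hCh ha hb hne huM hu hua hl2 hR huR hR0)
  refine ⟨?_, r, hr, hrl, hmov⟩
  have hPMK : P ⊓ M ≤ pCoreOf l K0 := le_core_of_other hQ hB hM he hCh ha hb hne hr hl hrl hmov hPME hEPM hPMp
  -- the `l`-core of the odd core of the fixer is trivial
  have hcore : pCoreOf l K0 = ⊥ := by
    by_contra hne'
    refine hPM (le_of_growth hQ hB hM he hCh ha hb hne hPD hEP hP ((pCoreOf_le l K0).trans hK0E)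
      (isPGroup_pCoreOf l K0) hPMK ?_)
    exact normalizer_inf_two_le hQ hB he hCh ha hb hne huM hu hua hne'
      ((pCoreOf_le l K0).trans (coreFix_le _))
      (M_le_core hQ hB hM he hCh l huM) (fun i hiM _ _ => M_le_core hQ hB hM he hCh l hiM)
      (Subgroup.le_normalizer.trans (normalizer_le_pCoreOf l K0))
  intro p hp hpM
  have := hPMK ⟨hp, hpM⟩
  rwa [hcore, Subgroup.mem_bot] at this

/-- The second half: such a subgroup of the odd core normal in the pair stabiliser fixes the centres of the swappers. -/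
theorem fix_swap_centre {l : ℕ} (hl : l.Prime) (hl2 : l ≠ 2) {P : Subgroup G}
    (hPO : P ≤ oddRad (two a b : Subgroup G))
    (hDP : two a b ≤ Subgroup.normalizer (P : Set G)) (hP : IsPGroup l P)
    (huP : u ∈ Subgroup.normalizer (P : Set G)) (hPM : ¬ P ≤ M)
    {v : G} (hvM : v ∈ M) (hv : v ∈ Z) (hva : v • a = b) {g : Ω} (hvg : v • g = g) :
    ∀ p ∈ P, p • g = g := by
  haveI := Fact.mk hl
  set K0 := coreFix G (centres Ω Z M) with hK0
  have hPD : P ≤ two a b := hPO.trans (oddRad_le _)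
  have hPME : P ⊓ M ≤ pairOdd M a b := by
    refine le_trans ?_ (le_oddRad (X := pairIn M a b) (K := oddRad (two a b : Subgroup G) ⊓ M)
      (le_inf (inf_le_left.trans (oddRad_le _)) inf_le_right)
      ((odd_oddRad _).of_dvd_nat (Subgroup.card_dvd_of_le inf_le_left)) fun x hx k hk =>
        ⟨oddRad_conj (Subgroup.le_normalizer hx.1) hk.1, M.mul_mem (M.mul_mem hx.2 hk.2) (M.inv_mem hx.2)⟩)
    exact inf_le_inf_right _ hPO
  obtain ⟨hPM0, r, hr, hrl, hmov⟩ := outside_inf hQ hB hM he hCh ha hb hne huM hu hua hl hl2 hPD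
    (pairOdd_le_two.trans hDP) hP hPME hPM
  have hPodd := odd_of_pGroup hl2 hP
  have hgM : g ∈ centres Ω Z M := mem_centres hvM hv hvg
  have hga : a ≠ g := fun e => hne (by rw [← hva, e, hvg])
  have hvi := hQ.inv v hv
  have hvP : v ∈ Subgroup.normalizer (P : Set G) := by
    have hd := oddRad_le _ (swap_mul_mem hQ hne hu hua hv hva)
    rw [show v = v * u * u by rw [mul_assoc, (hQ.inv u hu).2, mul_one]]
    exact Subgroup.mul_mem _ (hDP hd) huP
  -- fixed points of `v` in `P` centralise the inverted elements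
  set S : Set G := {x | x ∈ pCoreOf r K0 ∧ v * x * v = x⁻¹}
  have hKodd : Odd (Nat.card K0) := odd_oddRad _
  have hSK : ∀ x ∈ S, x ∈ K0 := fun x hx => pCoreOf_le r K0 hx.1
  have hKD : K0 ≤ two a b := (coreFix_le _).trans (fixer_le_two ha hb)
  have hcent : ∀ p ∈ P, p • g = g → v * p * v = p := by
    intro p hp hpg
    have hvp : v * p * v ∈ P := by
      have := conj_mem_of_normalizer hvP hp
      rwa [hvi.inv] at this
    have hj : v * p * v * p⁻¹ ∈ P := P.mul_mem hvp (P.inv_mem hp)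
    have hjb : v * p * v * p⁻¹ ∈ bad v g a := by
      refine ⟨?_, ?_, (mem_two.mp (hPD hj)).1, odd_orderOf hPodd hj⟩
      · rw [invol_conj_mul hvi.2, invol_conj_conj hvi.2, invol_conj_inv hvi.2, mul_inv_rev (v * p * v), inv_inv]
      · rw [mul_smul, inv_smul_eq_iff.mpr hpg.symm, mul_smul, mul_smul, hvg, hpg, hvg]
    rw [kerBad_eq_bad hQ hB hM he hCh hvM hv hvg ha hga] at hjb
    exact mul_inv_eq_one.mp (hPM0 _ hj hjb.1)
  have hfix : ∀ c ∈ P, v * c * v = c → ∀ x ∈ S, x * c = c * x := by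
    intro c hc hcv x hx
    have hcg : c • g = g := fix_of_fixed hQ hv hvg hcv
    have hxc : x * c * x⁻¹ ∈ P := conj_mem_of_normalizer (hDP (hKD (hSK x hx))) hc
    have hxg : x • g = g := mem_fixer.mp (coreFix_le _ (hSK x hx)) g hgM
    refine commute_of_inverted_fixed hvi.2 hx.2 (odd_orderOf hKodd (hSK x hx)) hcv (hcent _ hxc ?_)
    rw [mul_smul, mul_smul, inv_smul_eq_iff.mpr hxg.symm, hcg, hxg]
  have hcl : Subgroup.closure S ≤ pCoreOf r K0 := (Subgroup.closure_le _).mpr fun x hx => hx.1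
  have hcop := inverted_centralize hP hPodd hvi.2 hvP S
    (fun x hx => ⟨hx.2, odd_orderOf hKodd (hSK x hx), hDP (hKD (hSK x hx))⟩) hfix
  have hPC : P ≤ Subgroup.centralizer (Subgroup.closure S : Set G) := fun p hp x hx => by
    haveI := Fact.mk hr
    obtain ⟨k, hk⟩ := isPGroup_pCoreOf r K0 ⟨x, hcl hx⟩
    refine hcop x hx (Nat.Coprime.coprime_dvd_left (orderOf_dvd_of_pow_eq_one (congrArg Subtype.val hk)) ?_) p hp
    exact Nat.Coprime.pow_left k ((Nat.coprime_primes hr hl).mpr hrl)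
  -- commuting members at `g` normalise the closure
  have hnorm : ∀ w ∈ M, w * v = v * w → w ∈ Subgroup.normalizer (Subgroup.closure S : Set G) := by
    intro w hwM hwv
    refine mem_normalizer_of_conj fun x hx => ?_
    induction hx using Subgroup.closure_induction with
    | mem x hx =>
      refine Subgroup.subset_closure ⟨conj_mem_of_normalizer (M_le_core hQ hB hM he hCh r hwM) hx.1, ?_⟩
      have h1 : v * w = w * v := hwv.symm
      have h2 : w⁻¹ * v = v * w⁻¹ := (Commute.inv_left (show Commute w v from hwv)).eq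
      calc v * (w * x * w⁻¹) * v = v * w * x * (w⁻¹ * v) := by group
        _ = w * v * x * (v * w⁻¹) := by rw [h1, h2]
        _ = w * (v * x * v) * w⁻¹ := by group
        _ = (w * x * w⁻¹)⁻¹ := by rw [hx.2]; group
    | one => simp
    | mul y z _ _ hy hz => rw [← conj_mul]; exact Subgroup.mul_mem _ hy hz
    | inv y _ hy => rw [← conj_inv]; exact inv_mem hy
  obtain ⟨v1, hv1M, w1, hw1M, hv1, hv1g, hw1, hw1g, hvw, hcom⟩ := four_at hQ hCh.carries.top hgM
  obtain ⟨m, hm, hmv⟩ := invol_conj_top hQ hCh.carries.top hv1M hv1 hvM hv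
  have hmM := memGrp_le hm
  have hwv : (m * w1 * m⁻¹) * v = v * (m * w1 * m⁻¹) := by rw [← hmv, conj_mul, conj_mul, hcom]
  obtain ⟨x0, hx0, hx0ne⟩ := hmov v hvM hv
  obtain ⟨s, hs, -, hsinv, hsv⟩ := exists_inverted_in hvi
    (hKodd.of_dvd_nat (Subgroup.card_dvd_of_le (pCoreOf_le r K0))) hx0
    (by have := conj_mem_of_normalizer (M_le_core hQ hB hM he hCh r hvM) hx0
        rwa [hvi.inv] at this) hx0ne
  intro p hp
  exact lemmaV hQ hB hv hvg (hQ.conj w1 hw1 m) (fun e => hvw (mul_left_cancel (mul_right_cancel (hmv.trans e))))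
    hwv.symm (hnorm v hvM rfl) (hnorm _ (M.mul_mem (M.mul_mem hmM hw1M) (M.inv_mem hmM)) hwv)
    (fun x hx => mem_fixer.mp (coreFix_le _ (pCoreOf_le r K0 (hcl hx))) g hgM)
    ⟨s, Subgroup.subset_closure ⟨hs, hsinv⟩, hsv⟩ (hPC hp)

omit huM hu hua in
theorem odd_pairGen : Odd (Nat.card (pairGen M a b)) :=
  odd_sup_of_le_normalizer (odd_oddRad _) (odd_oddRad _)
    (pairOdd_le_two.trans (Subgroup.le_normalizer.trans (le_normalizer_oddRad _)))

omit huM hu hua in
theorem pairIn_le_normalizer_pairGen : pairIn M a b ≤ Subgroup.normalizer (pairGen M a b : Set G) := by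
  intro y hy
  refine mem_normalizer_of_conj fun x hx => ?_
  have : (pairGen M a b).map (MulAut.conj y).toMonoidHom ≤ pairGen M a b := by
    rw [pairGen, Subgroup.map_sup]
    exact sup_le_sup
      (Subgroup.map_le_iff_le_comap.mpr fun z hz => oddRad_conj (Subgroup.le_normalizer hy.1) hz)
      (Subgroup.map_le_iff_le_comap.mpr fun z hz =>
        conj_mem_of_normalizer (pairIn_normalizer hQ hB hM he hCh ha hb hne hy) hz)
  exact this ⟨x, hx, rfl⟩

omit huM hu hua in
theorem pairGen_inf : pairGen M a b ⊓ M ≤ pairOdd M a b :=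
  le_oddRad (le_inf (inf_le_left.trans (sup_le (oddRad_le _) pairOdd_le_two)) inf_le_right)
    ((odd_pairGen hQ hB hM he hCh ha hb hne).of_dvd_nat (Subgroup.card_dvd_of_le inf_le_left))
    fun x hx k hk =>
      ⟨conj_mem_of_normalizer (pairIn_le_normalizer_pairGen hQ hB hM he hCh ha hb hne hx) hk.1,
        M.mul_mem (M.mul_mem hx.2 hk.2) (M.inv_mem hx.2)⟩

/-- Q4: if every core of the odd pair group lies in `M`, so does the odd core of the pair stabiliser. -/
theorem oddRad_le_of_cores (hall : ∀ l : ℕ, l.Prime → pCoreOf l (pairGen M a b) ≤ M) :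
    oddRad (two a b : Subgroup G) ≤ M := by
  set D := pairGen M a b with hDdef
  set K0 := coreFix G (centres Ω Z M) with hK0
  set E := pairOdd M a b with hE
  have hDodd : Odd (Nat.card D) := odd_pairGen hQ hB hM he hCh ha hb hne
  haveI : Group.IsSolvable D := Cfsg.Agent.S0205.result hDodd
  obtain ⟨q, hq, hmov⟩ := exists_moving hQ hB hM he hCh
  haveI := Fact.mk hq
  have hq2 := moving_ne_two hQ hB hM he hCh hq hmov
  have hED : E ≤ D := le_sup_right
  have hD2 : D ≤ two a b := sup_le (oddRad_le _) pairOdd_le_two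
  have hallE : ∀ s : ℕ, s.Prime → pCoreOf s D ≤ E := fun s hs x hx =>
    pairGen_inf hQ hB hM he hCh ha hb hne ⟨pCoreOf_le s D hx, hall s hs hx⟩
  have hK0E : K0 ≤ E := coreFix_le_pairOdd hQ hB hM he hCh ha hb hne
  have hcores : ∀ s : ℕ, s.Prime → s ≠ q → pCoreOf s E = pCoreOf s K0 := fun s hs hsq => by
    refine le_antisymm (le_core_of_other hQ hB hM he hCh ha hb hne hq hs hsq.symm hmov (pCoreOf_le s E)
      (Subgroup.le_normalizer.trans (normalizer_le_pCoreOf s E)) (isPGroup_pCoreOf s E)) ?_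
    exact le_pCoreOf' ((pCoreOf_le s K0).trans hK0E) (pairOdd_le.trans (M_le_core hQ hB hM he hCh s))
      (isPGroup_pCoreOf s K0)
  have hCy : E ⊓ centOther q E = E ⊓ centOther q K0 := by
    ext x
    simp only [Subgroup.mem_inf, mem_centOther]
    refine and_congr_right fun _ => forall_congr' fun s => imp_congr_right fun hs => imp_congr_right fun hsq => ?_
    rw [hcores s hs hsq]
  set Cy := E ⊓ centOther q E
  set Cd := D ⊓ centOther q D
  have hCyd : Cy ≤ Cd := fun y hy => ⟨hED hy.1, mem_centOther.mpr fun s hs hsq t ht =>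
    mem_centOther.mp hy.2 s hs hsq t (pCoreOf_mono hED (hallE s hs) ht)⟩
  obtain ⟨R, hR', huR⟩ := exists_pair_sylow hQ hB hM he hCh ha hb hne huM hu hua q
  have hR : MaxP q Cy R := by rw [hCy]; exact hR'
  have hR0 : R ≠ ⊥ := by
    intro e0
    obtain ⟨i, hiM, -, -, hi, -, -, -⟩ := hCh.carries.top.four
    obtain ⟨x, hx, hxne⟩ := hmov i hiM hi
    have hsub : pCoreOf q K0 ≤ E := (pCoreOf_le q K0).trans hK0E
    have hn : E ≤ Subgroup.normalizer (pCoreOf q K0 : Set G) := pairOdd_le.trans (M_le_core hQ hB hM he hCh q)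
    have hxR : x ∈ R := le_maxP_of_normal hQ hB hM he hCh ha hb hne hR' (isPGroup_pCoreOf q K0)
      (fun y hy => ⟨hsub hy, mem_centOther.mpr fun s hs hsr =>
        commute_core hQ hB hM he hCh ha hb hne hs hq hsr hsub hn (isPGroup_pCoreOf q K0) hy⟩)
      (inf_le_left.trans hn) hx
    rw [e0, Subgroup.mem_bot] at hxR
    exact hxne (by rw [hxR, mul_one, (hQ.inv i hi).2])
  have hP1 : two a b ⊓ Subgroup.normalizer (CfsgLib.ZJ.zj 0 R : Set G) ≤ M :=
    zj_pair hQ hB hM he hCh ha hb hne huM hu hua hq2 hR' huR hR0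
  -- the Sylow subgroup is also one of the larger centraliser
  obtain ⟨T, hRT, hT⟩ := exists_maxP hR.isPGroup (hR.le.trans hCyd)
  have hTR : T = R := by
    rcases hRT.lt_or_eq with hlt | h
    swap
    · exact h.symm
    obtain ⟨y, hy, hyR, hyn⟩ := exists_mem_normalizer hT.isPGroup hlt
    have hyD := hT.le hy
    have hyE : y ∈ E := pairGen_inf hQ hB hM he hCh ha hb hne
      ⟨hyD.1, hP1 ⟨hD2 hyD.1, CfsgLib.ZJ.normalizer_le_normalizer_zj 0 R hyn⟩⟩
    obtain ⟨k, hk⟩ := hT.isPGroup ⟨y, hy⟩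
    have hyC : y ∈ Cy := ⟨hyE, cent_other_step hED hallE hyD.1 hyD.2 (congrArg Subtype.val hk)⟩
    have := hR.eq_of_le (hT.isPGroup.to_le (sup_le hlt.le (Subgroup.zpowers_le.mpr hy)))
      (sup_le hR.le (Subgroup.zpowers_le.mpr hyC)) le_sup_left
    exact absurd (this ▸ (le_sup_right : Subgroup.zpowers y ≤ _) (Subgroup.mem_zpowers y)) hyR
  rw [hTR] at hT
  have hI : IsSylowOf q R Cd := ⟨hT.le, hT.isPGroup, by
    obtain ⟨S, hS⟩ := hT.sylow
    rw [Subgroup.relIndex, ← hS]
    exact S.not_dvd_index⟩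
  intro y hy
  have hyD : y ∈ D := Subgroup.mem_sup_left hy
  exact hP1 ⟨hD2 hyD, Ext.zj_of_odd hDodd hq2 hI (Subgroup.le_normalizer hyD)⟩

end CfsgLib.Bender.Q
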