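import Cfsg.Agent.Lib.Bender.Q.B1.CircleCore
import Cfsg.Agent.Lib.Bender.B1.CircleEnd

/-!
The pair stabilisers of the chosen circle or oval lie in its stabiliser.

Blueprint: `blueprint/bender/Q_B1.md` 4.
-/

set_option autoImplicit false
set_option linter.unusedSectionVars false
set_option linter.style.haveILetI false
set_option linter.unusedVariables false

namespace CfsgLib.Bender.Q

open MulAction Cfsg CfsgLib.SuzukiRankOne
open CfsgLib.Bender.Ext (pCoreOf_le isPGroup_pCoreOf normalizer_le_pCoreOf)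
open CfsgLib.Bender.TwoClosed (IsInv two mem_two smul_conj mem_normalizer_of_conj conj_mem_of_normalizer odd_orderOf)
open CfsgLib.Bender.B1 (fixer mem_fixer invol_conj_mul invol_conj_inv invol_conj_conj le_pCoreOf'
  eq_one_of_cent_torus smul_eq_of_pair)

universe u

variable {G : Type u} {Ω : Type u} [Group G] [MulAction G Ω] {Z : Set G}

/-- An element of `M` inverted by `u` acting as a full torus, whose line stabiliser has an element of odd order
outside `M`. -/
structure Torus [Finite G] (Ω : Type u) [MulAction G Ω] {Z : Set G} (hQ : Hyp G Ω Z) (M : Subgroup G) (u : G)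
    (g : Ω) (r : G) : Prop where
  mem : r ∈ M
  rinv : u * r * u = r⁻¹
  odd : Odd (orderOf r)
  dvd : ∀ n : ℕ, (r ^ n) • g = g → qTop hQ M - 1 ∣ n
  out : ∃ x ∈ lineStab g r, Odd (orderOf x) ∧ x ∉ M

variable [Finite G] [FaithfulSMul G Ω] (hQ : Hyp G Ω Z)

omit [FaithfulSMul G Ω] in
include hQ in
/-- A subgroup centralised by the odd core of a pair stabiliser and one swapper fixes the centres of all swappers. -/
theorem fix_of_cent_oddRad {a b : Ω} (hne : b ≠ a) {u : G} (hu : u ∈ Z) (hua : u • a = b) {P : Subgroup G}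
    (hPu : ∀ p ∈ P, p * u = u * p) (hPO : ∀ p ∈ P, ∀ y ∈ oddRad (two a b : Subgroup G), p * y = y * p) {v : G}
    (hv : v ∈ Z) (hva : v • a = b) {c : Ω} (hvc : v • c = c) : ∀ p ∈ P, p • c = c := by
  intro p hp
  obtain ⟨k, hk, rfl⟩ := exists_oddRad_conj hQ hne hu hua hv hva
  refine commute_fix hQ hv hvc ?_
  exact (((show Commute p k from hPO p hp k hk).mul_right (hPu p hp)).mul_right
    (Commute.inv_right (hPO p hp k hk))).eq

variable {e : ℕ} (hB : Below.{u} (Nat.card G))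
  (hM : MaxBad G Ω Z e) (he : 1 < e) {M : Subgroup G} (hCh : Chosen Ω hQ e M)
include hQ hB hM he hCh

theorem exists_torus {a b g : Ω} (ha : a ∈ centres Ω Z M) (hb : b ∈ centres Ω Z M) (hne : b ≠ a) {u : G}
    (huM : u ∈ M) (hu : u ∈ Z) (hua : u • a = b) (hug : u • g = g) :
    ∃ y ∈ M, y ∈ oddRad (two a b : Subgroup G) ∧ u * y * u = y⁻¹ ∧ Odd (orderOf y) ∧
      ∀ n : ℕ, (y ^ n) • g = g → qTop hQ M - 1 ∣ n := by
  haveI := finite_points hQ
  have hT := hCh.carries.top
  have hT0 := isTopOdd_memGrp hT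
  have hui := hQ.inv u hu
  have hga : a ≠ g := fun e0 => hne (by rw [← hua, e0, hug])
  have hu0 : u ∈ memGrp Z M := mem_memGrp hu huM
  have ha0 : a ∈ centres Ω Z (memGrp Z M) := (centres_memGrp (Ω := Ω) M).symm ▸ ha
  obtain ⟨Q, hS⟩ := hT0.setup hQ hB ha0 hu0 hu (by rw [hua]; exact hne)
  set t := img hQ (memGrp Z M) ⟨u, hu0⟩
  have h2 := hT0.fourTop hQ hB
  obtain ⟨C, hCs, hcyc, -⟩ := Cfsg.Agent.S1131.result hS h2
  obtain ⟨c, hc⟩ := hcyc.exists_generator
  have hcI : (c : topGrp hQ (memGrp Z M)) ∈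
      invertedBy (CfsgLib.RankOne.D (⟨a, ha0⟩ : centres Ω Z (memGrp Z M)) t) t := by
    have := c.2
    rw [← SetLike.mem_coe, hCs] at this
    exact this
  obtain ⟨x, hx⟩ := img_surjective (hQ := hQ) (c : topGrp hQ (memGrp Z M))
  obtain ⟨hca, hct⟩ := (CfsgLib.RankOne.mem_D hS).mp hcI.1
  have hxa : (x : G) • a = a := by rw [← img_smul (hQ := hQ) x ⟨a, ha0⟩, hx, hca]
  have hxb : (x : G) • b = b := by
    have h := congrArg (fun z : centres Ω Z (memGrp Z M) => (z : Ω)) hct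
    rw [← hx] at h
    change (x : G) • u • a = u • a at h
    rwa [hua] at h
  set y : memGrp Z M := x⁻¹ * (⟨u, hu0⟩ * x * ⟨u, hu0⟩) with hydef
  have hy : (y : G) = (x : G)⁻¹ * (u * x * u) := rfl
  have hx2 : (x : G) ∈ (two a b : Subgroup G) := mem_two.mpr ⟨hxa, hxb⟩
  have hyO : (y : G) ∈ oddRad (two a b : Subgroup G) := by
    have h := oddRad_conj (Subgroup.le_normalizer (Subgroup.inv_mem _ hx2)) (comm_mem hQ hne hu hua hx2)
    rw [hui.inv] at h
    simpa [hy, mul_assoc] using h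
  have hya : (y : G) • a = a := (mem_two.mp (oddRad_le _ hyO)).1
  have hyinv : u * (y : G) * u = (y : G)⁻¹ := by
    rw [hy, invol_conj_mul hui.2, invol_conj_conj hui.2, invol_conj_inv hui.2, mul_inv_rev (x : G)⁻¹, inv_inv]
  refine ⟨y, memGrp_le y.2, hyO, hyinv, odd_orderOf_oddRad hyO, fun n hn => ?_⟩
  have hbad : (y : G) ^ n ∈ bad u g a := by
    refine ⟨?_, hn, mem_stabilizer_iff.mp (Subgroup.pow_mem _ (mem_stabilizer_iff.mpr hya) n),
      odd_orderOf_oddRad (Subgroup.pow_mem _ hyO n)⟩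
    have h := conj_pow (i := n) (a := u) (b := (y : G))
    rw [hui.inv, hyinv, inv_pow] at h
    exact h.symm
  rw [kerBad_eq_bad hQ hB hM he hCh huM hu hug ha hga] at hbad
  have h1 : img hQ (memGrp Z M) (y ^ n) = 1 := img_eq_one_iff.mpr fun d hd => by
    rw [Subgroup.coe_pow]
    exact hbad.2.2.2 d ((centres_memGrp (Ω := Ω) M) ▸ hd)
  have hti : t * c * t = (c : topGrp hQ (memGrp Z M))⁻¹ := by
    rw [← hcI.2, inv_eq_of_mul_eq_one_right hS.mul_self]
  have hyc : img hQ (memGrp Z M) y = (c : topGrp hQ (memGrp Z M))⁻¹ * (c : topGrp hQ (memGrp Z M))⁻¹ := by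
    rw [hydef, map_mul, map_mul, map_mul, map_inv, hx, hti]
  rw [map_pow] at h1
  have hdvd := orderOf_dvd_of_pow_eq_one h1
  have hodd : Odd (orderOf (c : topGrp hQ (memGrp Z M))) :=
    hS.odd_card.of_dvd_nat (Subgroup.orderOf_dvd_natCard _ hcI.1)
  have hord : orderOf (img hQ (memGrp Z M) y) = orderOf (c : topGrp hQ (memGrp Z M)) := by
    rw [hyc, ← mul_inv_rev, orderOf_inv, ← pow_two]
    exact Nat.Coprime.orderOf_pow (Nat.coprime_two_right.mpr hodd)
  rw [hord, Subgroup.orderOf_coe, orderOf_eq_card_of_forall_mem_zpowers hc] at hdvd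
  have hcard := card_inverted_qZ hS
  rw [show Nat.card (invertedBy (CfsgLib.RankOne.D (⟨a, ha0⟩ : centres Ω Z (memGrp Z M)) t) t) = Nat.card C by
      rw [← hCs]; rfl,
    qTop_eq hQ hB hT0 ha0, qTop_memGrp] at hcard
  rwa [show qTop hQ M - 1 = Nat.card C by omega]

/-- A subgroup fixing the centres of all swappers fixes the lines of the torus elements. -/
theorem le_lineStab_torus {a b g : Ω} {u y : G} (huM : u ∈ M) (hu : u ∈ Z) (hua : u • a = b)
    (hug : u • g = g) (hyM : y ∈ M) (hya : y • a = a) (hyb : y • b = b) {P : Subgroup G}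
    (hP : ∀ v ∈ M, v ∈ Z → v • a = b → ∀ c : Ω, v • c = c → ∀ p ∈ P, p • c = c) : P ≤ lineStab g y := by
  intro p hp
  refine mem_lineStab.mpr fun n => ?_
  refine hP (y ^ n * u * (y ^ n)⁻¹)
    (M.mul_mem (M.mul_mem (zpow_mem hyM n) huM) (inv_mem (zpow_mem hyM n)))
    (hQ.conj u hu _) ?_ _ (smul_conj hug) p hp
  have hna : (y ^ n) • a = a := mem_stabilizer_iff.mp (Subgroup.zpow_mem _ (mem_stabilizer_iff.mpr hya) n)
  have hnb : (y ^ n) • b = b := mem_stabilizer_iff.mp (Subgroup.zpow_mem _ (mem_stabilizer_iff.mpr hyb) n)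
  rw [mul_smul, mul_smul, inv_smul_eq_iff.mpr hna.symm, hua, hnb]

theorem fixer_le_lineStab {u r : G} {g : Ω} (huM : u ∈ M) (hu : u ∈ Z) (hug : u • g = g) (hr : r ∈ M) :
    fixer G (centres Ω Z M) ≤ lineStab g r := fun x hx =>
  mem_lineStab.mpr fun n =>
    mem_fixer.mp hx _ (centres_smul hQ (zpow_mem hr n) (mem_centres huM hu hug))

theorem line_of_torus {u r : G} {g : Ω} (huM : u ∈ M) (hu : u ∈ Z) (hug : u • g = g)
    (h : Torus Ω hQ M u g r) : Line Z e u g r := by
  haveI := finite_points hQ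
  have hq := (even_qTop hQ hCh.carries.top hB).2
  refine ⟨hu, hQ.inv u hu, hug, h.rinv, h.odd, fun e0 => ?_,
    (hCh.carries.ker u huM hu).trans (Set.ncard_le_ncard ?_ (Set.toFinite _))⟩
  · have := Nat.le_of_dvd one_pos (h.dvd 1 (by rwa [pow_one]))
    omega
  · exact fun x hx => ⟨fixer_le_lineStab hQ hB hM he hCh huM hu hug h.mem (mem_fixer.mpr hx.2.2.2),
      hx.2.1, hx.2.2.1⟩

/-- In the Suzuki case a torus line has no commuting members in the normalisers of its invariant subgroups. -/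
theorem noFour_of_torus {u r : G} {g : Ω} (huM : u ∈ M) (hu : u ∈ Z) (hug : u • g = g)
    (hsz : ∀ X : Subgroup G, Carries Ω Z e X → qTop hQ X = qTop hQ M →
      Nat.card (centres Ω Z X) = qTop hQ M ^ 2 + 1 ∧
      (fixOdd G (centres Ω Z M) ≤ fixOdd G (centres Ω Z X) →
        fixOdd G (centres Ω Z X) = fixOdd G (centres Ω Z M)))
    (h : Torus Ω hQ M u g r) : NoFourLine Z (fixOdd G (centres Ω Z M)) M u g r := by
  haveI := finite_points hQ
  intro W hW hWY hker hKX huX hrX hout h4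
  set X := Subgroup.normalizer (W : Set G)
  have hL := line_of_torus hQ hB hM he hCh huM hu hug h
  have hui := hQ.inv u hu
  have hXtop : X ≠ ⊤ := normalizer_ne_top hQ hW fun x hx => lineStab_fix (hWY hx)
  have hgX : g ∈ centres Ω Z X := mem_centres huX hu hug
  have hrgX : r • g ∈ centres Ω Z X := centres_smul hQ hrX hgX
  have hT : IsTop Ω Z X := ⟨hXtop, h4, g, r • g, hgX, hrgX, hL.move⟩
  have hkX : ∀ x ∈ kerLine u g r, ∀ d ∈ centres Ω Z X, x • d = d := fun x hx d hd =>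
    inverted_fix_centres hQ hB hXtop h4 hu huX hug ⟨_, hrgX, hL.move⟩ (hker hx) (lineStab_fix hx.1) hx.2.1
      hx.2.2 hd
  have hXc : Carries Ω Z e X := carries_of_one hQ hT huX hu (hL.ker.trans
    (Set.ncard_le_ncard (fun x hx => ⟨hker hx, hx.2.1, hx.2.2, hkX x hx⟩) (Set.toFinite _)))
  have hr0 : r ∈ memGrp Z X := by
    have h1 : r * r ∈ memGrp Z X := by
      have he' : r * u * r⁻¹ * u = r * r := by
        rw [show r * u * r⁻¹ * u = r * (u * r⁻¹ * u) by group, invol_conj_inv hui.2, h.rinv, inv_inv]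
      rw [← he']
      exact Subgroup.mul_mem _
        (mem_memGrp (hQ.conj u hu r) (X.mul_mem (X.mul_mem hrX huX) (X.inv_mem hrX))) (mem_memGrp hu huX)
    obtain ⟨k, hk⟩ := CfsgLib.Involutions.exists_sqrt h.odd
    rw [← hk, ← (Commute.refl r).mul_pow]
    exact Subgroup.pow_mem _ h1 k
  -- the top has the same `q`
  have hqq : qTop hQ X = qTop hQ M := by
    obtain ⟨f, hf2, hf⟩ := qTop_two_pow hQ hCh.carries.top hB
    obtain ⟨f', hf2', hf'⟩ := qTop_two_pow hQ hT hB
    set X0 := memGrp Z X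
    have hT0 : IsTopOdd Ω Z X0 := isTopOdd_memGrp hT
    have huX0 : u ∈ X0 := mem_memGrp hu huX
    have hgX0 : g ∈ centres Ω Z X0 := (centres_memGrp (Ω := Ω) X).symm ▸ hgX
    have hrgX0 : r • g ∈ centres Ω Z X0 := (centres_memGrp (Ω := Ω) X).symm ▸ hrgX
    set U := img hQ X0 ⟨u, huX0⟩
    set R := img hQ X0 ⟨r, hr0⟩
    obtain ⟨hU1, hU2⟩ := img_isInv hQ hT0.toIsTop (x := ⟨u, huX0⟩) hu
    have hURU : U * R * U = R⁻¹ := by
      rw [← map_mul, ← map_mul, ← map_inv]
      exact congrArg _ (Subtype.ext h.rinv)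
    have hRodd : Odd (orderOf R) := h.odd.of_dvd_nat (by
      rw [show orderOf r = orderOf (⟨r, hr0⟩ : X0) from (Subgroup.orderOf_mk r hr0).symm]
      exact orderOf_map_dvd _ _)
    have hRdvd : qTop hQ M - 1 ∣ orderOf R := h.dvd _ (by
      have h1 : img hQ X0 (⟨r, hr0⟩ ^ orderOf R) = 1 := by rw [map_pow, pow_orderOf_eq_one]
      have h2 := img_eq_one_iff.mp h1 g hgX0
      rwa [Subgroup.coe_pow] at h2)
    obtain ⟨w, hwX, hw, hwg⟩ := centres_swap hQ hgX0 hrgX0 hL.move.symm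
    obtain ⟨Q, hS⟩ := hT0.setup hQ hB hgX0 hwX hw (by rw [hwg]; exact hL.move)
    have hord := Ext.inverted_order hS (hT0.fourTop hQ hB) hRodd hU1 hU2 hURU
    rw [qTop_eq hQ hB hT0 hgX0, qTop_memGrp, hf'] at hord
    have hle := hCh.maxq X hXc
    rw [hf, hf'] at hle
    have hle' : f' ≤ f := (Nat.pow_le_pow_iff_right (by norm_num : 1 < 2)).mp hle
    rcases hle'.lt_or_eq with hlt | heq
    swap
    · rw [hf, hf', heq]
    obtain ⟨b1, b2, b3⟩ := Ext.pow_bound (n := f) (n' := f') (by omega) (by omega) hlt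
    rw [hf] at hRdvd
    rcases hord with h1 | h1 | ⟨-, h1⟩
    · exact absurd (hRdvd.trans h1) b1
    · exact absurd (hRdvd.trans h1) b2
    · exact absurd (hRdvd.trans h1) b3
  -- the elements of odd order of the line stabiliser in `X` fix every centre
  have hfix : ∀ y ∈ lineStab g r, y ∈ X → Odd (orderOf y) → y ∈ fixer G (centres Ω Z X) := by
    intro y hy hyX hyodd
    set X' := memGrp Z X ⊔ Subgroup.zpowers y
    have hle : X' ≤ X := sup_le memGrp_le (Subgroup.zpowers_le.mpr hyX)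
    have hT' : IsTopOdd Ω Z X' := isTopOdd_sup hQ hT hyX hyodd
    have hcen : centres Ω Z X' = centres Ω Z X := centres_eq_of_between hQ le_sup_left hle
    have hqX : qTop hQ X' = qTop hQ X := by rw [qTop, qTop, memGrp_eq_of_between hQ le_sup_left hle]
    have huX' : u ∈ X' := le_sup_left (b := Subgroup.zpowers y) (mem_memGrp hu huX)
    have hrX' : r ∈ X' := le_sup_left (b := Subgroup.zpowers y) hr0
    have hyX' : y ∈ X' := Subgroup.mem_sup_right (Subgroup.mem_zpowers y)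
    have hgX' : g ∈ centres Ω Z X' := hcen.symm ▸ hgX
    have hrgX' : r • g ∈ centres Ω Z X' := hcen.symm ▸ hrgX
    obtain ⟨f, hf2, hf⟩ := qTop_two_pow hQ hCh.carries.top hB
    have h4q : 4 ≤ 2 ^ f := le_trans (by norm_num) (Nat.pow_le_pow_right (by norm_num : 1 ≤ 2) hf2)
    -- the torus element in the top
    set U := img hQ X' ⟨u, huX'⟩
    set R := img hQ X' ⟨r, hrX'⟩
    obtain ⟨hU1, hU2⟩ := img_isInv hQ hT'.toIsTop (x := ⟨u, huX'⟩) hu
    have hodd : ∀ z : X', Odd (orderOf (z : G)) → Odd (orderOf (img hQ X' z)) := fun z hz =>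
      hz.of_dvd_nat (by rw [Subgroup.orderOf_coe z]; exact orderOf_map_dvd _ _)
    have hURU : U * R * U = R⁻¹ := by
      rw [← map_mul, ← map_mul, ← map_inv]
      exact congrArg _ (Subtype.ext h.rinv)
    have hRodd := hodd ⟨r, hrX'⟩ h.odd
    have hRdvd : qTop hQ M - 1 ∣ orderOf R := h.dvd _ (by
      have h1 : img hQ X' (⟨r, hrX'⟩ ^ orderOf R) = 1 := by rw [map_pow, pow_orderOf_eq_one]
      have h2 := img_eq_one_iff.mp h1 g hgX'
      rwa [Subgroup.coe_pow] at h2)
    have h2top := hT'.fourTop hQ hB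
    obtain ⟨w, hwX, hw, hwg⟩ := centres_swap hQ hgX' hrgX' hL.move.symm
    obtain ⟨Q, hS⟩ := hT'.setup hQ hB hgX' hwX hw (by rw [hwg]; exact hL.move)
    have hord := Ext.inverted_order hS h2top hRodd hU1 hU2 hURU
    rw [qTop_eq hQ hB hT' hgX', hqX] at hord
    obtain ⟨hcard, -⟩ := hsz X hXc hqq
    rw [← hcen] at hcard
    rw [hqq, hf] at hord
    rw [hf] at hRdvd hcard
    -- the order is exactly `q - 1`
    have htwo : ∀ m : ℕ, 2 ^ f - 1 ∣ m * (2 ^ f - 1) + 2 → False := fun m hm => by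
      have := Nat.le_of_dvd two_pos ((Nat.dvd_add_right (dvd_mul_left _ m)).mp hm)
      omega
    have hsq : (2 ^ f) ^ 2 + 1 = (2 ^ f + 1) * (2 ^ f - 1) + 2 := by
      obtain ⟨j, hj⟩ := Nat.exists_eq_add_of_le h4q
      rw [hj, show 4 + j - 1 = 3 + j by omega]
      ring
    have hordR : orderOf R = 2 ^ f - 1 := by
      rcases hord with h1 | h1 | ⟨-, h1⟩
      · exact Nat.dvd_antisymm h1 hRdvd
      · exact absurd (show 2 ^ f - 1 ∣ 1 * (2 ^ f - 1) + 2 by
          rw [one_mul, show 2 ^ f - 1 + 2 = 2 ^ f + 1 by omega]; exact hRdvd.trans h1) (htwo 1)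
      · exact absurd (hsq ▸ hRdvd.trans h1) (htwo _)
    -- a fixed point of a power of the torus element
    obtain ⟨c, m, hmc, hm1⟩ : ∃ (c : centres Ω Z X') (m : ℕ), R ^ m • c = c ∧ R ^ m ≠ 1 := by
      by_contra hfree
      push Not at hfree
      have h1 := Ext.orderOf_dvd_card (x := R) (S := (Set.univ : Set (centres Ω Z X')))
        (fun _ _ => Set.mem_univ _) (fun c _ m hm => hfree c m hm)
      rw [hordR, Nat.card_congr (Equiv.Set.univ _), hcard] at h1
      exact htwo _ (hsq ▸ h1)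
    have hUc : U • c ≠ c := fun e0 => hm1 (Ext.inverted_eq_one hS h2top hU1 hU2 (by
      have h := conj_pow (i := m) (a := U) (b := R)
      rw [inv_eq_of_mul_eq_one_right hU2, hURU, inv_pow] at h
      exact h.symm) (hRodd.of_dvd_nat (orderOf_pow_dvd m)) e0 hmc)
    obtain ⟨c, hcX⟩ := c
    have huc : u • c ≠ c := fun e0 => hUc (Subtype.ext e0)
    obtain ⟨Qc, hSc⟩ := hT'.setup hQ hB hcX huX' hu huc
    have hUi : U⁻¹ = U := inv_eq_of_mul_eq_one_right hU2
    have hRm : U * R ^ m * U = (R ^ m)⁻¹ := by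
      have h := conj_pow (i := m) (a := U) (b := R)
      rw [hUi, hURU, inv_pow] at h
      exact h.symm
    have hmD : R ^ m ∈ CfsgLib.RankOne.D (⟨c, hcX⟩ : centres Ω Z X') U := by
      refine (CfsgLib.RankOne.mem_D hSc).mpr ⟨hmc, ?_⟩
      have h1 : (R ^ m)⁻¹ • (⟨c, hcX⟩ : centres Ω Z X') = ⟨c, hcX⟩ := inv_smul_eq_iff.mpr hmc.symm
      rw [← hRm, mul_smul, mul_smul] at h1
      have h3 : U • U • R ^ m • U • (⟨c, hcX⟩ : centres Ω Z X') = U • (⟨c, hcX⟩ : centres Ω Z X') :=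
        congrArg (U • ·) h1
      rw [smul_smul U U, show U * U = 1 from hU2, one_smul] at h3
      exact h3
    have hcomD : ∀ z : topGrp hQ X', Odd (orderOf z) → z * R ^ m = R ^ m * z →
        z ∈ CfsgLib.RankOne.D (⟨c, hcX⟩ : centres Ω Z X') U := by
      intro z hz hzc
      have hfix : ∀ d : centres Ω Z X', R ^ m • d = d → z • d = ⟨c, hcX⟩ ∨ z • d = U • ⟨c, hcX⟩ := fun d hd =>
        CfsgLib.RankOne.inverted_fix hSc ⟨hmD, by rw [hUi]; exact hRm⟩ hm1 (by rw [← mul_smul, ← hzc, mul_smul, hd])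
      have h1 := hfix _ ((CfsgLib.RankOne.mem_D hSc).mp hmD).1
      have h2 := hfix _ ((CfsgLib.RankOne.mem_D hSc).mp hmD).2
      exact (CfsgLib.RankOne.mem_D hSc).mpr ⟨smul_eq_of_pair hz h1 h2, smul_eq_of_pair hz h2.symm h1.symm⟩
    have hRD := hcomD R hRodd ((Commute.refl R).pow_right m).eq
    have hnR : ¬ Rsq (⟨c, hcX⟩ : centres Ω Z X') U Qc := by
      intro hR'
      have hp := CfsgLib.RankOne.card_points hSc
      rw [hcard] at hp
      rcases Ext.shape_cases hSc h2top with ⟨-, h1 | h1⟩ | ⟨hn, -⟩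
      · rw [h1, qTop_eq hQ hB hT' hcX, hqX, hqq, hf] at hp
        nlinarith
      · rw [h1, qTop_eq hQ hB hT' hcX, hqX, hqq, hf] at hp
        nlinarith
      · exact hn hR'
    have hUy : ∀ z : X', (z : G) ∈ lineStab g r → U * img hQ X' z * U = img hQ X' z := by
      intro z hz
      have hju : (z : G)⁻¹ * u * z * u ∈ lineStab g r := by
        have h1 : u * (z : G) * u ∈ lineStab g r := by
          have := conj_mem_of_normalizer (u_normalizer hL) hz
          rwa [hui.inv] at this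
        simpa [mul_assoc] using (lineStab g r).mul_mem ((lineStab g r).inv_mem hz) h1
      have hinv : u * ((z : G)⁻¹ * u * z * u) * u = ((z : G)⁻¹ * u * z * u)⁻¹ := by
        rw [mul_inv_rev, mul_inv_rev, mul_inv_rev, inv_inv, hui.inv]
        calc u * ((z : G)⁻¹ * u * z * u) * u = u * ((z : G)⁻¹ * u * z) * (u * u) := by group
          _ = u * ((z : G)⁻¹ * (u * z)) := by rw [hui.2, mul_one, mul_assoc]
      obtain ⟨hwZ, hwa⟩ := conj_swap hQ (line_ne hL).symm hu (u_smul_two hL)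
        (Subgroup.inv_mem _ (lineStab_le_two hz))
      rw [inv_inv] at hwZ hwa
      have hjodd := odd_swap hQ (line_ne hL).symm hwZ hwa hu (u_smul_two hL)
      have h1 : img hQ X' (z⁻¹ * ⟨u, huX'⟩ * z * ⟨u, huX'⟩) = 1 :=
        img_eq_one_iff.mpr fun d hd => hkX _ ⟨hju, hinv, hjodd⟩ d (hcen ▸ hd)
      rw [map_mul, map_mul, map_mul, map_inv, mul_assoc, mul_assoc, inv_mul_eq_one, ← mul_assoc] at h1
      exact h1.symm
    set Y := img hQ X' ⟨y, hyX'⟩
    have e1 : U * Y * U = Y := hUy ⟨y, hyX'⟩ hy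
    have hy' : r⁻¹ * y * r ∈ lineStab g r := (Subgroup.mem_normalizer_iff''.mp r_normalizer y).mp hy
    have hy'X : r⁻¹ * y * r ∈ X' := X'.mul_mem (X'.mul_mem (X'.inv_mem hrX') hyX') hrX'
    have e2 : U * (R⁻¹ * Y * R) * U = R⁻¹ * Y * R := by
      have e := hUy ⟨_, hy'X⟩ hy'
      rwa [show img hQ X' ⟨r⁻¹ * y * r, hy'X⟩ = R⁻¹ * Y * R by rw [← map_inv, ← map_mul, ← map_mul]; rfl] at e
    have h3 : U * R⁻¹ * U = R := by
      rw [show U * R⁻¹ * U = (U * R * U)⁻¹ by rw [mul_inv_rev, mul_inv_rev, hUi, mul_assoc], hURU, inv_inv]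
    rw [invol_conj_mul hU2, invol_conj_mul hU2, h3, e1, hURU] at e2
    have hRR : Commute (R * R) Y := by
      show R * R * Y = Y * (R * R)
      calc R * R * Y = R * (R * Y * R⁻¹) * R := by group
        _ = R * (R⁻¹ * Y * R) * R := by rw [e2]
        _ = Y * (R * R) := by group
    obtain ⟨k, hk⟩ := CfsgLib.Involutions.exists_sqrt hRodd
    have hYR : Commute Y R := by
      have := (hRR.pow_left k).symm
      rwa [(Commute.refl R).mul_pow, hk] at this
    have hY1 : Y = 1 := eq_one_of_cent_torus hSc h2top hnR ⟨hRD, by rw [hUi]; exact hURU⟩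
      (by rw [hordR, qTop_eq hQ hB hT' hcX, hqX, hqq, hf]; omega)
      (hcomD Y (hodd ⟨y, hyX'⟩ hyodd) (hYR.pow_right m).eq) e1 hYR.eq
    exact mem_fixer.mpr fun d hd => img_eq_one_iff.mp hY1 d (hcen.symm ▸ hd)
  -- an outside element of odd order
  obtain ⟨v, hvY, hvX, hvodd, hvM⟩ : ∃ v, v ∈ lineStab g r ∧ v ∈ X ∧ Odd (orderOf v) ∧ v ∉ M := by
    rcases hout with hY | ⟨v, hv, hvodd, hvM⟩
    · obtain ⟨v, hv, hvodd, hvM⟩ := h.out
      exact ⟨v, hv, hY hv, hvodd, hvM⟩
    · exact ⟨v, hWY hv, Subgroup.le_normalizer hv, hvodd, hvM⟩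
  have heq := (hsz X hXc hqq).2 ((Subgroup.closure_le _).mpr fun x hx =>
    mem_fixOdd (hfix x (fixer_le_lineStab hQ hB hM he hCh huM hu hug h.mem hx.1) (hKX (mem_fixOdd hx.1 hx.2))
      hx.2) hx.2)
  exact hvM (fixer_le hQ hB he hCh (fixOdd_le _ (heq ▸ mem_fixOdd (hfix v hvY hvX hvodd) hvodd)))

/-- Q3 and Q4: the pair stabilisers of two centres of the chosen subgroup lie in it. -/
theorem circle_end {a b : Ω} (ha : a ∈ centres Ω Z M) (hb : b ∈ centres Ω Z M) (hne : a ≠ b) : two a b ≤ M := by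
  haveI := finite_points hQ
  obtain ⟨u, huM, hu, hua⟩ := centres_swap hQ ha hb hne
  have hui := hQ.inv u hu
  have h4G : FourIn Z (⊤ : Subgroup G) := by
    obtain ⟨x, -, y, -, h⟩ := hCh.carries.top.four
    exact ⟨x, Subgroup.mem_top _, y, Subgroup.mem_top _, h⟩
  set D : Subgroup G := two a b with hDdef
  set O := oddRad D with hOdef
  have hDO : D ≤ Subgroup.normalizer (O : Set G) := Subgroup.le_normalizer.trans (le_normalizer_oddRad D)
  have hO : O ≤ M := by
    refine oddRad_le_of_cores hQ hB hM he hCh ha hb hne.symm huM hu hua fun l hl => ?_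
    haveI := Fact.mk hl
    by_contra hPM
    set W := pairGen M a b
    set P0 := pCoreOf l W
    have hWD : W ≤ D := sup_le (oddRad_le _) pairOdd_le_two
    have hWodd : Odd (Nat.card W) := odd_pairGen hQ hB hM he hCh ha hb hne.symm
    have hl2 : l ≠ 2 := by
      rintro rfl
      refine hPM fun p hp => ?_
      obtain ⟨k, hk⟩ := isPGroup_pCoreOf 2 W ⟨p, hp⟩
      have h1 : orderOf p = 1 := Nat.eq_one_of_dvd_coprimes
        (Nat.Coprime.pow_left k (Nat.coprime_two_left.2 (odd_orderOf hWodd (pCoreOf_le 2 W hp))))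
        (orderOf_dvd_of_pow_eq_one (congrArg Subtype.val hk)) dvd_rfl
      rw [orderOf_eq_one_iff.mp h1]
      exact one_mem _
    have huD := mem_normalizer_two hQ hne.symm hu hua
    have huO := le_normalizer_oddRad D huD
    have huW : u ∈ Subgroup.normalizer (W : Set G) := by
      refine mem_normalizer_of_conj fun x hx => ?_
      have : W.map (MulAut.conj u).toMonoidHom ≤ W := by
        show (pairGen M a b).map _ ≤ pairGen M a b
        rw [pairGen, Subgroup.map_sup]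
        exact sup_le_sup (Subgroup.map_le_iff_le_comap.mpr fun z hz => conj_mem_of_normalizer huO hz)
          (Subgroup.map_le_iff_le_comap.mpr fun z hz => conj_mem_of_normalizer
            (swap_normalizer_pairOdd hQ hB hM he hCh ha hb hne.symm huM hu hua) hz)
      exact this ⟨x, hx, rfl⟩
    have huP := normalizer_le_pCoreOf l W huW
    have hWP : W ≤ Subgroup.normalizer (P0 : Set G) := Subgroup.le_normalizer.trans (normalizer_le_pCoreOf l W)
    have hPD : P0 ≤ D := (pCoreOf_le l W).trans hWD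
    obtain ⟨hPM0, -⟩ := outside_inf hQ hB hM he hCh ha hb hne.symm huM hu hua hl hl2 hPD
      ((le_sup_right : pairOdd M a b ≤ W).trans hWP) (isPGroup_pCoreOf l W)
      ((inf_le_inf_right _ (pCoreOf_le l W)).trans (pairGen_inf hQ hB hM he hCh ha hb hne.symm)) hPM
    -- a group outside `M` fixing the centres of the swappers
    obtain ⟨P, hP, hPD', hPM', hfixP⟩ : ∃ P : Subgroup G, IsPGroup l P ∧ P ≤ D ∧ ¬ P ≤ M ∧
        ∀ v ∈ M, v ∈ Z → v • a = b → ∀ c : Ω, v • c = c → ∀ p ∈ P, p • c = c := by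
      have hDPO : D ≤ Subgroup.normalizer (pCoreOf l O : Set G) := hDO.trans (normalizer_le_pCoreOf l O)
      by_cases hOM : pCoreOf l O ≤ M
      swap
      · exact ⟨_, isPGroup_pCoreOf l O, (pCoreOf_le l O).trans (oddRad_le D), hOM, fun v hvM hv hva c hvc =>
          fix_swap_centre hQ hB hM he hCh ha hb hne.symm huM hu hua hl hl2 (pCoreOf_le l O) hDPO
            (isPGroup_pCoreOf l O) (normalizer_le_pCoreOf l O huO) hOM hvM hv hva hvc⟩
      have hOW : O ≤ W := le_sup_left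
      have hOP : pCoreOf l O ≤ P0 :=
        le_pCoreOf' ((pCoreOf_le l O).trans hOW) (hWD.trans hDPO) (isPGroup_pCoreOf l O)
      have hO1 : pCoreOf l O = ⊥ :=
        (Subgroup.eq_bot_iff_forall _).mpr fun x hx => hPM0 x (hOP hx) (hOM hx)
      have hPn : O ≤ Subgroup.normalizer (P0 : Set G) := hOW.trans hWP
      have hinf : P0 ⊓ O = ⊥ := le_bot_iff.mp (hO1 ▸ le_pCoreOf' inf_le_right
        (fun y hy => mem_normalizer_of_conj fun x hx =>
          ⟨conj_mem_of_normalizer (hPn hy) hx.1, O.mul_mem (O.mul_mem hy hx.2) (O.inv_mem hy)⟩)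
        ((isPGroup_pCoreOf l W).to_le inf_le_left))
      refine ⟨P0, isPGroup_pCoreOf l W, hPD, hPM, fun v hvM hv hva c hvc =>
        fix_of_cent_oddRad hQ hne.symm hu hua (fun p hp => ?_)
          (fun p hp y hy => (CfsgLib.Bender.Ext.commute_of_inf_eq_bot (hPD.trans hDO) hPn hinf hp y hy).symm)
          hv hva hvc⟩
      have h1 : u * p * u * p⁻¹ ∈ P0 ⊓ O := by
        constructor
        · have := conj_mem_of_normalizer huP hp
          rw [hui.inv] at this
          exact P0.mul_mem this (P0.inv_mem hp)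
        · have := comm_mem hQ hne.symm hu hua (hPD hp)
          rwa [hui.inv] at this
      rw [hinf, Subgroup.mem_bot, mul_inv_eq_one] at h1
      calc p * u = u * p * u * u := by rw [h1]
        _ = u * p := by rw [mul_assoc, hui.2, mul_one]
    rcases hCh.shape with h | ⟨h, hsz⟩
    · refine hPM' ((fun p hp => fixer_le hQ hB he hCh (mem_fixer.mpr fun c hc => ?_)) : P ≤ M)
      obtain ⟨hpa, hpb⟩ := mem_two.mp (hPD' hp)
      by_cases hca : c = a
      · rw [hca, hpa]
      by_cases hcb : c = b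
      · rw [hcb, hpb]
      have hq : Nat.card (centres Ω Z M) ≠ qTop hQ M ^ 2 + 1 := by
        have := (even_qTop hQ hCh.carries.top hB).2
        rw [h]
        nlinarith
      rw [← circ_eq_centres hQ hCh.carries.top hB ha hb hne.symm h] at hc
      obtain ⟨v, hvM, hv, hva, hvc⟩ := circ_centre hQ hCh.carries.top hB hq ha hb hne.symm hc hca hcb
      exact hfixP v hvM hv hva c hvc p hp
    obtain ⟨g, hug⟩ := exists_fix hQ hu
    obtain ⟨y, hyM, hyO, hyinv, hyodd, hydvd⟩ := exists_torus hQ hB hM he hCh ha hb hne.symm huM hu hua hug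
    obtain ⟨hya, hyb⟩ := mem_two.mp (oddRad_le _ hyO)
    have hPy := le_lineStab_torus hQ hB hM he hCh huM hu hua hug hyM hya hyb hfixP
    obtain ⟨p₀, hp₀, hp₀M⟩ := SetLike.not_le_iff_exists.mp hPM'
    refine no_line_family hQ h4G hM he (u := u) (g := g) (K := fixOdd G (centres Ω Z M)) (M := M)
      (fun r => Torus Ω hQ M u g r)
      (fun r hr => ⟨line_of_torus hQ hB hM he hCh huM hu hug hr,
        noFour_of_torus hQ hB hM he hCh huM hu hug hsz hr,
        (fixOdd_le _).trans (fixer_le_lineStab hQ hB hM he hCh huM hu hug hr.mem)⟩)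
      ?_ y ⟨hyM, hyinv, hyodd, hydvd, p₀, hPy hp₀, odd_orderOf (odd_of_pGroup hl2 hP) hp₀, hp₀M⟩
    rintro r l' V hr hocc
    obtain ⟨hL, hl', hl'2, hVD, hYV, huV, hVl, hVc, hVY, htype⟩ := id hocc
    haveI := Fact.mk hl'
    have hKY := fixer_le_lineStab hQ hB hM he hCh huM hu hug hr.mem
    obtain ⟨-, hVY1, -, -⟩ := outside_facts hQ h4G hM he hL (noFour_of_torus hQ hB hM he hCh huM hu hug hsz hr)
      ((fixOdd_le _).trans hKY) hl'2 hVD hYV hocc.isPGroup huV hVY
    have hgM : g ∈ centres Ω Z M := mem_centres huM hu hug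
    have ha' : r⁻¹ • g ∈ centres Ω Z M := centres_smul hQ (inv_mem hr.mem) hgM
    have hb' : r • g ∈ centres Ω Z M := centres_smul hQ hr.mem hgM
    have hne' : r • g ≠ r⁻¹ • g := (line_ne hL).symm
    have hua' := u_smul_two hL
    set Ko := coreFix G (centres Ω Z M)
    have hKoY : Ko ≤ lineStab g r := (coreFix_le _).trans hKY
    have hVM1 : ∀ v ∈ V, v ∈ M → v = 1 := by
      intro v hv hvM
      obtain ⟨q, hq, hmov⟩ := exists_moving hQ hB hM he hCh
      refine hVY1 v hv (hKY (cent_le_fixer hQ hB hM he hCh hmov ⟨hvM, fun x hx => ?_⟩))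
      have hxK : x ∈ Ko := Ext.pCoreOf_le q Ko hx
      have h1 : v * x * v⁻¹ * x⁻¹ ∈ Ko :=
        Ko.mul_mem (conj_mem_of_normalizer (le_normalizer_coreFix hQ hCh hvM) hxK) (Ko.inv_mem hxK)
      have h2 : v * x * v⁻¹ * x⁻¹ ∈ V := by
        rw [show v * x * v⁻¹ * x⁻¹ = v * (x * v⁻¹ * x⁻¹) by group]
        exact V.mul_mem hv (conj_mem_of_normalizer (hYV (hKoY hxK)) (V.inv_mem hv))
      have h3 := hVY1 _ h2 (hKoY h1)
      rw [mul_inv_eq_one, mul_inv_eq_iff_eq_mul] at h3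
      exact h3.symm
    obtain ⟨v₀, hv₀, hv₀Y⟩ := SetLike.not_le_iff_exists.mp hVY
    have hv₀M : v₀ ∉ M := fun hv => hv₀Y (by rw [hVM1 v₀ hv₀ hv]; exact one_mem _)
    have hfixV : ∀ v ∈ M, v ∈ Z → v • r⁻¹ • g = r • g → ∀ c : Ω, v • c = c → ∀ p ∈ V, p • c = c := by
      intro v hvM hv hva c hvc
      rcases htype with ⟨hVO, hDV⟩ | ⟨hVu, hVO⟩
      · exact fix_swap_centre hQ hB hM he hCh ha' hb' hne' huM hu hua' hl' hl'2 hVO hDV hocc.isPGroup huV
          (fun hle => hv₀M (hle hv₀)) hvM hv hva hvc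
      · exact fix_of_cent_oddRad hQ hne' hu hua' hVu hVO hv hva hvc
    refine ⟨hfixV u huM hu hua' g hug, hVM1, ?_⟩
    obtain ⟨z, hzM, hzO, hzinv, hzodd, hzdvd⟩ := exists_torus hQ hB hM he hCh ha' hb' hne' huM hu hua' hug
    obtain ⟨hza, hzb⟩ := mem_two.mp (oddRad_le _ hzO)
    refine ⟨z, hzO, ⟨hzM, hzinv, hzodd, hzdvd, v₀,
      le_lineStab_torus hQ hB hM he hCh huM hu hua' hug hzM hza hzb hfixV hv₀,
      odd_orderOf (odd_of_pGroup hl'2 hocc.isPGroup) hv₀, hv₀M⟩, ?_⟩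
    rw [← bad_line_one hQ hM hL, kerBad_eq_bad hQ hB hM he hCh huM hu hug hb' hL.move]
    exact fun x hx => ⟨fixer_le_lineStab hQ hB hM he hCh huM hu hug hzM (mem_fixer.mpr hx.2.2.2), hx.2.1, hx.2.2.1⟩
  -- the pair stabiliser normalises the group of the members at the two points and the odd core
  have hMa : ∀ i ∈ Z, i • a = a → i ∈ M := fun i hi hia => by
    obtain ⟨i0, hi0M, hi0, hi0a⟩ := ha
    obtain ⟨k, hk, rfl⟩ := exists_conj_oddRad hQ hi0 hi0a hi hia hne
    exact M.mul_mem (M.mul_mem (hO hk) hi0M) (M.inv_mem (hO hk))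
  have hMb : ∀ i ∈ Z, i • b = b → i ∈ M := fun i hi hib => by
    obtain ⟨i0, hi0M, hi0, hi0b⟩ := hb
    obtain ⟨k, hk, rfl⟩ := exists_conj_oddRad hQ hi0 hi0b hi hib hne.symm
    have hk' : k ∈ M := hO (by rw [hOdef, hDdef, CfsgLib.Bender.TwoClosed.mem_two_comm]; exact hk)
    exact M.mul_mem (M.mul_mem hk' hi0M) (M.inv_mem hk')
  set X := Subgroup.closure {i | i ∈ Z ∧ (i • a = a ∨ i • b = b)} ⊔ O with hXdef
  have hXM : X ≤ M := sup_le ((Subgroup.closure_le _).mpr fun i hi => hi.2.elim (hMa i hi.1) (hMb i hi.1)) hO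
  have hmemX : ∀ i ∈ Z, (i • a = a ∨ i • b = b) → i ∈ X := fun i hi h =>
    Subgroup.mem_sup_left (Subgroup.subset_closure ⟨hi, h⟩)
  have huX : u ∈ X := by
    obtain ⟨i0, -, hi0, hi0a⟩ := id ha
    obtain ⟨j0, -, hj0, hj0b⟩ := id hb
    obtain ⟨w, hw, he', hcl⟩ := exists_swap_conj hQ hi0 hi0a hj0 hj0b hne
    obtain ⟨hwa, -⟩ := swap_points hQ hi0a hj0 hj0b hw he'
    have hwX : w ∈ X := (Subgroup.closure_le _).mpr
      (Set.insert_subset (hmemX i0 hi0 (Or.inl hi0a)) (Set.singleton_subset_iff.mpr (hmemX j0 hj0 (Or.inr hj0b)))) hcl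
    obtain ⟨k, hk, rfl⟩ := exists_oddRad_conj hQ hne.symm hw hwa hu hua
    exact X.mul_mem (X.mul_mem (Subgroup.mem_sup_right hk) hwX) (X.inv_mem (Subgroup.mem_sup_right hk))
  obtain ⟨g, hug⟩ := exists_fix hQ hu
  have hga : a ≠ g := fun e0 => hne (by rw [← hua, e0, hug])
  obtain ⟨hXc, hXq, hcirc⟩ := normalizer_top hQ hB he hCh ha hb hne.symm huM hu hua (Y := X)
    (fun e0 => hCh.carries.top.ne_top (top_le_iff.mp (e0 ▸ hXM))) huX
    (fun i _ hi hia => hmemX i hi (Or.inl hia)) (fun x hx => Subgroup.mem_sup_right (by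
      rw [hOdef, hDdef, ← hua]
      refine bad_mem_oddRad hQ hu (g := g) (by rw [hua]; exact hne.symm) ?_
      exact ⟨hx.2.1, hx.2.2.2 g (mem_centres huM hu hug), hx.2.2.2 a ha, hx.2.2.1⟩))
  have hcen : centres Ω Z X = centres Ω Z M := by
    refine Set.Subset.antisymm (centres_mono hXM) ?_
    rcases hCh.shape with h | ⟨h, hsz⟩
    · rw [← circ_eq_centres hQ hCh.carries.top hB ha hb hne.symm h, ← hcirc]
      obtain ⟨i0, -, hi0, hi0a⟩ := id ha
      exact circ_subset hQ (mem_centres (hmemX i0 hi0 (Or.inl hi0a)) hi0 hi0a)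
        (hua ▸ centres_smul hQ huX (mem_centres (hmemX i0 hi0 (Or.inl hi0a)) hi0 hi0a))
    · exact (Set.eq_of_subset_of_ncard_le (centres_mono hXM)
        (by rw [← Nat.card_coe_set_eq, ← Nat.card_coe_set_eq, h, (hsz X hXc hXq).1]) (Set.toFinite _)).ge
  intro d hd
  obtain ⟨hda, hdb⟩ := mem_two.mp hd
  have hdX : ∀ x ∈ X, d * x * d⁻¹ ∈ X := fun x hx => by
    have : X.map (MulAut.conj d).toMonoidHom ≤ X := by
      rw [hXdef, Subgroup.map_sup]
      refine sup_le_sup (Subgroup.map_le_iff_le_comap.mpr ((Subgroup.closure_le _).mpr fun i hi => ?_))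
        (Subgroup.map_le_iff_le_comap.mpr fun z hz => conj_mem_of_normalizer (hDO hd) hz)
      refine Subgroup.subset_closure ⟨hQ.conj i hi.1 d, ?_⟩
      show (d * i * d⁻¹) • a = a ∨ (d * i * d⁻¹) • b = b
      rcases hi.2 with h' | h'
      · exact Or.inl (by rw [mul_smul, mul_smul, inv_smul_eq_iff.mpr hda.symm, h', hda])
      · exact Or.inr (by rw [mul_smul, mul_smul, inv_smul_eq_iff.mpr hdb.symm, h', hdb])
    exact this ⟨x, hx, rfl⟩
  refine hCh.stable d fun c hc => ?_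
  rw [← hcen] at hc ⊢
  obtain ⟨i, hiX, hi, hic⟩ := hc
  exact ⟨d * i * d⁻¹, hdX i hiX, hQ.conj i hi d, smul_conj hic⟩

end CfsgLib.Bender.Q
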