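import Cfsg.Agent.Lib.Bender.Q.B1.RankOneEnd
import Cfsg.Agent.Lib.Bender.B1.Climb
import Cfsg.Agent.Lib.Bender.B1.CliqueCore

/-!
Primes `p` at which no Sylow subgroup of a pair stabiliser normalised by a swapping member fixes the point of that
member: they do not divide the degree, Sylow subgroups fix exactly two points, and, by the ascent, a maximal
`p`-group with three fixed points lies under one normalised by a member fixing one of its fixed points.

Blueprint: `blueprint/bender/Q_B1.md` 5.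
-/

set_option autoImplicit false
set_option linter.unusedSectionVars false
set_option linter.style.haveILetI false

namespace CfsgLib.Bender.Q

open MulAction
open CfsgLib.Bender.TwoClosed (IsInv two mem_two smul_conj odd_orderOf odd_card_of_forall eq_one_of_two_odd MaxP
  exists_maxP maxP_of_card mem_normalizer_of_conj conj_mem_of_normalizer exists_mem_normalizer fixSet fixSet_smul
  mem_of_sq_mem odd_orderOf_of_pGroup)
open CfsgLib.Bender.B1 (smul_eq_of_pair card_conj_image)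

universe u

variable {G : Type u} [Group G] [Finite G]

/-- Two conjugates of an involution with odd product are conjugate in any normaliser containing both. -/
theorem exists_conj_root_odd {K R : Subgroup G} {u r : G} (hu : IsInv u)
    (huK : u ∈ Subgroup.normalizer (K : Set G)) (hr : r ∈ K) (ho : Odd (orderOf (u * (r * u * r⁻¹))))
    (hn : r * u * r⁻¹ ∈ Subgroup.normalizer (R : Set G)) (hnu : u ∈ Subgroup.normalizer (R : Set G)) :
    ∃ t ∈ K, t ∈ Subgroup.normalizer (R : Set G) ∧ t * u * t⁻¹ = r * u * r⁻¹ := by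
  set s : G := r * u * r⁻¹ * u with hs
  have hsK : s ∈ K := by
    rw [hs, show r * u * r⁻¹ * u = r * (u * r⁻¹ * u⁻¹) * (u * u) by group, hu.2, mul_one]
    exact K.mul_mem hr (conj_mem_of_normalizer huK (K.inv_mem hr))
  have hsodd : Odd (orderOf s) := by
    rw [hs, show r * u * r⁻¹ * u = u⁻¹ * (u * (r * u * r⁻¹)) * u⁻¹⁻¹ by group, CfsgLib.Involutions.orderOf_conj]
    exact ho
  have hinv : u * s * u⁻¹ = s⁻¹ := by
    rw [hs, mul_inv_rev, mul_inv_rev, mul_inv_rev, inv_inv, hu.inv]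
    simp [mul_assoc, hu.2]
  obtain ⟨k, hk⟩ := CfsgLib.Involutions.exists_sqrt hsodd
  refine ⟨s ^ k, pow_mem hsK k, pow_mem ((Subgroup.normalizer (R : Set G)).mul_mem hn hnu) k, ?_⟩
  have h1 : u * (s ^ k)⁻¹ * u⁻¹ = s ^ k := by
    rw [← inv_pow, ← conj_pow, show u * s⁻¹ * u⁻¹ = (u * s * u⁻¹)⁻¹ by group, hinv, inv_inv]
  calc s ^ k * u * (s ^ k)⁻¹ = s ^ k * (u * (s ^ k)⁻¹ * u⁻¹) * u := by group
    _ = s * u := by rw [h1, hk]
    _ = r * u * r⁻¹ := by rw [hs, mul_assoc, hu.2, mul_one]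

/-- The centraliser of an isolated involution in an invariant maximal `p`-subgroup is maximal in its centraliser. -/
theorem maxP_cent {p : ℕ} [Fact p.Prime] {K R : Subgroup G} {u : G} (hu : IsInv u)
    (huK : u ∈ Subgroup.normalizer (K : Set G)) (hodd : ∀ k ∈ K, Odd (orderOf (u * (k * u * k⁻¹))))
    (hR : MaxP p K R) (huR : u ∈ Subgroup.normalizer (R : Set G)) :
    MaxP p (K ⊓ Subgroup.centralizer ({u} : Set G)) (R ⊓ Subgroup.centralizer ({u} : Set G)) := by
  set C : Subgroup G := Subgroup.centralizer ({u} : Set G)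
  obtain ⟨P0, h0, hP0⟩ := exists_maxP (K := K ⊓ C) (hR.isPGroup.to_le (inf_le_left : R ⊓ C ≤ R))
    (inf_le_inf_right C hR.le)
  have hu0 : u ∈ Subgroup.normalizer (P0 : Set G) := mem_normalizer_of_conj fun x hx => by
    have h1 : x * u = u * x := Subgroup.mem_centralizer_singleton_iff.mp (hP0.le hx).2
    rwa [← h1, mul_inv_cancel_right]
  obtain ⟨R', hR', hPR', huR'⟩ := exists_invariant_maxP hu huK hodd hP0.isPGroup (hP0.le.trans inf_le_left) hu0
  obtain ⟨g, hg, hgR⟩ := hR.conj hR'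
  have hgu : g * u * g⁻¹ ∈ Subgroup.normalizer (R' : Set G) := mem_normalizer_of_conj fun x hx => by
    have h1 : g⁻¹ * x * g ∈ R := (hgR _).mpr (by simpa [mul_assoc] using hx)
    have h2 := (hgR _).mp (conj_mem_of_normalizer huR h1)
    simpa [mul_assoc] using h2
  obtain ⟨t, ht, htn, htu⟩ := exists_conj_root_odd hu huK hg (hodd g hg) hgu huR'
  set n : G := t⁻¹ * g with hn
  have hnu : n * u * n⁻¹ = u := by
    calc n * u * n⁻¹ = t⁻¹ * (g * u * g⁻¹) * t := by rw [hn]; group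
      _ = u := by rw [← htu]; group
  have hnR : ∀ x, x ∈ R' → n⁻¹ * x * n ∈ R := fun x hx => by
    refine (hgR _).mpr ?_
    rw [show g * (n⁻¹ * x * n) * g⁻¹ = t * x * t⁻¹ by rw [hn]; group]
    exact conj_mem_of_normalizer htn hx
  have hle : P0.map (MulAut.conj n⁻¹).toMonoidHom ≤ R ⊓ C := by
    rintro _ ⟨x, hx, rfl⟩
    refine Subgroup.mem_inf.mpr ⟨by simpa using hnR x (hPR' hx), Subgroup.mem_centralizer_singleton_iff.mpr ?_⟩
    have h1 : x * u = u * x := Subgroup.mem_centralizer_singleton_iff.mp (hP0.le hx).2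
    show n⁻¹ * x * n⁻¹⁻¹ * u = u * (n⁻¹ * x * n⁻¹⁻¹)
    calc n⁻¹ * x * n⁻¹⁻¹ * u = n⁻¹ * (x * (n * u * n⁻¹)) * n := by group
      _ = n⁻¹ * ((n * u * n⁻¹) * x) * n := by rw [hnu, h1]
      _ = u * (n⁻¹ * x * n⁻¹⁻¹) := by group
  have hcard : Nat.card P0 ≤ Nat.card (R ⊓ C : Subgroup G) := by
    have hinj : Function.Injective ((MulAut.conj n⁻¹).toMonoidHom : G →* G) := (MulAut.conj n⁻¹).injective
    rw [← Subgroup.card_map_of_injective (K := P0) hinj]
    exact Subgroup.card_le_of_le hle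
  exact (Subgroup.eq_of_le_of_card_ge h0 hcard).symm ▸ hP0

variable {Ω : Type u} [MulAction G Ω] {Z : Set G}

/-- No Sylow `p`-subgroup of a pair stabiliser normalised by a swapping member fixes the point of the member. -/
def Even' (p : ℕ) (G : Type u) (Ω : Type u) [Group G] [MulAction G Ω] (Z : Set G) : Prop :=
  ∀ (u : G) (a g : Ω) (R : Subgroup G), u ∈ Z → u • g = g → u • a ≠ a → MaxP p (two a (u • a)) R →
    u ∈ Subgroup.normalizer (R : Set G) → g ∉ fixSet Ω R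

/-- The member `c` has as many conjugates under `U` as the `p`-part of the number of members at a point. -/
def FullConj (p : ℕ) (Ω : Type u) [MulAction G Ω] (Z : Set G) (U : Subgroup G) (c : G) : Prop :=
  c ∈ Z ∧ c ∈ Subgroup.normalizer (U : Set G) ∧
    ∀ a : Ω, ((fun x => x * c * x⁻¹) '' (U : Set G)).ncard = p ^ (Nat.card (MemAt Z a)).factorization p

variable (hQ : Hyp G Ω Z)
include hQ

theorem card_memAt_ne_zero (a : Ω) : Nat.card (MemAt Z a) ≠ 0 := by
  obtain ⟨i, hi, hia⟩ := hQ.exists_at a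
  haveI : Nonempty (MemAt Z a) := ⟨⟨i, hi, hia⟩⟩
  exact Nat.card_pos.ne'

/-- The order of a Sylow subgroup of a swapped pair stabiliser, by the centraliser of the swapper in it. -/
theorem card_swap_maxP {p : ℕ} [Fact p.Prime] {u : G} (hu : u ∈ Z) {d : Ω} (hd : u • d ≠ d) {P : Subgroup G}
    (hP : MaxP p (two d (u • d)) P) (huP : u ∈ Subgroup.normalizer (P : Set G)) (a : Ω) :
    Nat.card P = p ^ (Nat.card (MemAt Z a)).factorization p *
      Nat.card (P ⊓ Subgroup.centralizer ({u} : Set G) : Subgroup G) := by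
  rw [(maxP_cent (hQ.inv u hu) (mem_normalizer_two hQ hd hu rfl) (fun _ hk => odd_swap_conj hQ hd hu rfl hk)
      hP huP).card, hP.card, ← pow_add, card_two_eq hQ hd hu rfl, card_memAt_eq hQ d a,
    Nat.factorization_mul (card_memAt_ne_zero hQ a) Nat.card_pos.ne', Finsupp.add_apply]

theorem fullConj_of_maxP {p : ℕ} [Fact p.Prime] {c : G} (hc : c ∈ Z) {d : Ω} (hd : c • d ≠ d) {P : Subgroup G}
    (hP : MaxP p (two d (c • d)) P) (hcP : c ∈ Subgroup.normalizer (P : Set G)) : FullConj p Ω Z P c := by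
  refine ⟨hc, hcP, fun a => Nat.eq_of_mul_eq_mul_right
    (Nat.card_pos (α := (P ⊓ Subgroup.centralizer ({c} : Set G) : Subgroup G))) ?_⟩
  rw [card_conj_image P c]
  exact card_swap_maxP hQ hc hd hP hcP a

/-- An invariant `p`-group containing a Sylow subgroup of one swapped pair stabiliser and fixing another swapped
pair has all its inverted elements in the former. -/
theorem inverted_mem {p : ℕ} [Fact p.Prime] (hp2 : p ≠ 2) {u : G} (hu : u ∈ Z) {a c : Ω} (ha : u • a ≠ a)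
    (hc : u • c ≠ c) {R X : Subgroup G} (hR : MaxP p (two a (u • a)) R)
    (huR : u ∈ Subgroup.normalizer (R : Set G)) (hX : MaxP p (two c (u • c)) X)
    (huX : u ∈ Subgroup.normalizer (X : Set G)) (hRX : R ≤ X) {j : G} (hj : j ∈ X) (hinv : u * j * u = j⁻¹) :
    j ∈ R := by
  have hui := hQ.inv u hu
  have hsub : (fun x => x * u * x⁻¹) '' (R : Set G) ⊆ (fun x => x * u * x⁻¹) '' (X : Set G) :=
    Set.image_mono hRX
  have heq := Set.eq_of_subset_of_ncard_le hsub
    (by rw [(fullConj_of_maxP hQ hu hc hX huX).2.2 a, (fullConj_of_maxP hQ hu ha hR huR).2.2 a]) (Set.toFinite _)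
  obtain ⟨r, hr, hru⟩ : j * u * j⁻¹ ∈ (fun x => x * u * x⁻¹) '' (R : Set G) := heq ▸ ⟨j, hj, rfl⟩
  refine mem_of_sq_mem (odd_orderOf_of_pGroup hp2 hX.isPGroup hj) ?_
  have h1 : j * j = r * (u * r⁻¹ * u⁻¹) := by
    calc j * j = j * (u * j * u)⁻¹ := by rw [hinv, inv_inv]
      _ = j * u⁻¹ * j⁻¹ * u⁻¹ := by group
      _ = j * u * j⁻¹ * u⁻¹ := by rw [hui.inv]
      _ = r * u * r⁻¹ * u⁻¹ := by rw [← (show r * u * r⁻¹ = j * u * j⁻¹ from hru)]
      _ = r * (u * r⁻¹ * u⁻¹) := by group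
  rw [h1]
  exact R.mul_mem hr (conj_mem_of_normalizer huR (R.inv_mem hr))

/-- A Sylow subgroup of a pair stabiliser is normalised by a member exchanging the pair. -/
theorem swap_maxP {p : ℕ} [Fact p.Prime] {a b : Ω} (hne : b ≠ a) {P : Subgroup G} (hP : MaxP p (two a b) P) :
    ∃ x ∈ Subgroup.normalizer (P : Set G), x ∈ Z ∧ x • a = b := by
  obtain ⟨u, hu, hua, -⟩ := exists_swap hQ hne.symm
  obtain ⟨R, hR, -, huR⟩ := exists_swap_maxP hQ hne hu hua (p := p) (X := ⊥) IsPGroup.of_bot bot_le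
    (mem_normalizer_of_conj fun x hx => by rw [Subgroup.mem_bot.mp hx, mul_one, mul_inv_cancel]; exact one_mem _)
  obtain ⟨k, hk, hconj⟩ := hP.conj hR
  obtain ⟨h1, h2⟩ := conj_swap hQ hne hu hua ((two a b : Subgroup G).inv_mem hk)
  refine ⟨k⁻¹ * u * k⁻¹⁻¹, mem_normalizer_of_conj fun x hx => ?_, h1, h2⟩
  have h3 := conj_mem_of_normalizer huR ((hconj x).mp hx)
  refine (hconj _).mpr ?_
  rwa [show k * (k⁻¹ * u * k⁻¹⁻¹ * x * (k⁻¹ * u * k⁻¹⁻¹)⁻¹) * k⁻¹ = u * (k * x * k⁻¹) * u⁻¹ by group]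

theorem card_fixSet_modEq {p : ℕ} [Fact p.Prime] {X : Subgroup G} (hX : IsPGroup p X) :
    Nat.card Ω ≡ Nat.card (fixSet Ω X) [MOD p] := by
  haveI := finite_points hQ
  refine (hX.card_modEq_card_fixedPoints (α := Ω)).trans (congrArg (· % p) ?_)
  exact Nat.card_congr (Equiv.subtypeEquivRight fun d => ⟨fun h x hx => h ⟨x, hx⟩, fun h x => h x x.2⟩)

variable [FaithfulSMul G Ω]

section Fpf

variable {X : Subgroup G} (hXodd : Odd (Nat.card X))
include hXodd

/-- A commuting pair of distinct members of the normaliser fixes a fixed point. -/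
theorem four_fix {e f : G} (he : e ∈ Z) (hf : f ∈ Z) (hne : e ≠ f) (hcom : e * f = f * e)
    (hen : e ∈ Subgroup.normalizer (X : Set G)) (hfn : f ∈ Subgroup.normalizer (X : Set G))
    {w : Ω} (hw : e • w = w) : w ∈ fixSet Ω X := by
  have hfw : f • w = w := commute_fix hQ he hw hcom.symm
  have he2 := (hQ.inv e he).2
  have hf2 := (hQ.inv f hf).2
  let A : Subgroup G :=
    { carrier := {x | x = 1 ∨ x = e ∨ x = f ∨ x = e * f}
      one_mem' := Or.inl rfl
      mul_mem' := by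
        intro x y hx hy
        have h1 : f * (e * f) = e := by rw [← mul_assoc, ← hcom, mul_assoc, hf2, mul_one]
        have h2 : e * (e * f) = f := by rw [← mul_assoc, he2, one_mul]
        have h3 : e * f * e = f := by rw [hcom, mul_assoc, he2, mul_one]
        have h4 : e * f * f = e := by rw [mul_assoc, hf2, mul_one]
        have h5 : e * f * (e * f) = 1 := by rw [mul_assoc, h1, he2]
        rcases hx with hx | hx | hx | hx <;> rcases hy with hy | hy | hy | hy <;>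
          simp [Set.mem_ofPred_eq, hx, hy, he2, hf2, h1, h2, h3, h4, h5, hcom.symm]
      inv_mem' := by
        intro x hx
        rcases hx with hx | hx | hx | hx <;>
          simp [Set.mem_ofPred_eq, hx, (hQ.inv e he).inv, (hQ.inv f hf).inv, hcom.symm] }
  have heA : e ∈ A := Or.inr (Or.inl rfl)
  have hfA : f ∈ A := Or.inr (Or.inr (Or.inl rfl))
  have hinv : ∀ x ∈ A, x ≠ 1 → x ∈ Z ∧ x • w = w := by
    intro x hx h1
    rcases hx with rfl | rfl | rfl | rfl
    · exact absurd rfl h1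
    · exact ⟨he, hw⟩
    · exact ⟨hf, hfw⟩
    · exact ⟨prod_mem hQ he hf hne hcom, by rw [mul_smul, hfw, hw]⟩
  have hnorm : A ≤ Subgroup.normalizer (X : Set G) := by
    rintro x (rfl | rfl | rfl | rfl)
    · exact one_mem _
    · exact hen
    · exact hfn
    · exact (Subgroup.normalizer (X : Set G)).mul_mem hen hfn
  have hsq : ∀ x : A, x * x = 1 := fun x => Subtype.ext (by
    by_cases h1 : (x : G) = 1
    · show (x : G) * x = 1
      rw [h1, one_mul]
    · exact (hQ.inv _ (hinv x x.2 h1).1).2)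
  haveI : Fact (Nat.Prime 2) := ⟨Nat.prime_two⟩
  haveI : IsMulCommutative A := ⟨⟨fun x y => by
    have h2 : ∀ z : A, z⁻¹ = z := fun z => inv_eq_of_mul_eq_one_right (hsq z)
    calc x * y = (x * y)⁻¹ := (h2 _).symm
      _ = y * x := by rw [mul_inv_rev, h2, h2]⟩⟩
  have hpg : IsPGroup 2 A := fun x => ⟨1, by rw [pow_one, pow_two]; exact hsq x⟩
  have hnc : ¬ IsCyclic A := fun hcyc => by
    obtain ⟨g, hg⟩ := hcyc.exists_generator
    have key : ∀ x : A, x ≠ 1 → x = g := fun x hx => by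
      obtain ⟨n, rfl⟩ := Subgroup.mem_zpowers_iff.mp (hg x)
      obtain ⟨k, rfl | rfl⟩ := Int.even_or_odd' n
      · exact absurd (by rw [zpow_mul, zpow_two, hsq g, one_zpow]) hx
      · rw [zpow_add_one, zpow_mul, zpow_two, hsq g, one_zpow, one_mul]
    exact hne (congrArg Subtype.val ((key ⟨e, heA⟩ fun h => (hQ.inv e he).1 (congrArg Subtype.val h)).trans
      (key ⟨f, hfA⟩ fun h => (hQ.inv f hf).1 (congrArg Subtype.val h)).symm))
  have hcop : (Nat.card A).Coprime (Nat.card X) := by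
    obtain ⟨k, hk⟩ := IsPGroup.iff_card.mp hpg
    exact hk ▸ (Nat.coprime_two_left.mpr hXodd).pow_left k
  have hle : X ≤ stabilizer G w := by
    rw [← CfsgLib.coprime_generated_by_centralizers hnc hnorm hcop]
    refine iSup₂_le fun x hx => fun y hy => mem_stabilizer_iff.mpr ?_
    obtain ⟨h1, h2⟩ := hinv x hx.1 hx.2
    exact commute_fix hQ h1 h2 (Subgroup.mem_centralizer_singleton_iff.mp hy.2)
  exact fun x hx => mem_stabilizer_iff.mp (hle hx)

variable (hfpf : ∀ x ∈ Subgroup.normalizer (X : Set G), x ∈ Z → ∀ r ∈ fixSet Ω X, x • r ≠ r)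
include hfpf

theorem no_four_of_fpf : ¬ FourIn Z (Subgroup.normalizer (X : Set G)) := by
  rintro ⟨e, hen, f, hfn, he, hf, hne, hcom⟩
  obtain ⟨w, hw⟩ := exists_fix hQ he
  exact hfpf e hen he w (four_fix hQ hXodd he hf hne hcom hen hfn hw) hw

/-- Members of a normaliser moving all fixed points: with any two fixed points exchanged by one or the fixed points
of a Sylow subgroup, at most two points are fixed. -/
theorem fix_le_two {p : ℕ} [Fact p.Prime] (hp2 : p ≠ 2)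
    (hmem : ∃ z ∈ Subgroup.normalizer (X : Set G), z ∈ Z)
    (hpair : ∀ c ∈ fixSet Ω X, ∀ d ∈ fixSet Ω X, c ≠ d →
      (∃ x ∈ Subgroup.normalizer (X : Set G), x ∈ Z ∧ x • c = d) ∨
        ∃ P, MaxP p (Subgroup.normalizer (X : Set G)) P ∧ c ∈ fixSet Ω P ∧ d ∈ fixSet Ω P ∧
          ∀ e ∈ fixSet Ω P, e ∈ fixSet Ω X → e = c ∨ e = d)
    {c d e : Ω} (hc : c ∈ fixSet Ω X) (hd : d ∈ fixSet Ω X) (he : e ∈ fixSet Ω X) (hcd : c ≠ d) (hce : c ≠ e)
    (hde : d ≠ e) : False := by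
  set N := Subgroup.normalizer (X : Set G) with hN
  have h4 := no_four_of_fpf hQ hXodd hfpf
  obtain ⟨z, hzN, hz⟩ := hmem
  have hzi := hQ.inv z hz
  set O : Subgroup G := oddRad N
  have hON : O ≤ N := oddRad_le N
  have hOodd : Odd (Nat.card O) := odd_oddRad N
  have hNO : N ≤ Subgroup.normalizer (O : Set G) := Subgroup.le_normalizer.trans (le_normalizer_oddRad N)
  have hcomm : ∀ g ∈ N, z * g * z⁻¹ * g⁻¹ ∈ O := fun g hg => by
    rw [hzi.inv]
    exact comm_mem_of_no_four hQ h4 hz hzN hg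
  have hclass : ∀ x ∈ N, x ∈ Z → z * x ∈ O := by
    intro x hx hxZ
    refine mem_of_sq_mem (odd_mul_of_no_four hQ h4 hzN hx hz hxZ) ?_
    have h := hcomm x hx
    rwa [hzi.inv, (hQ.inv x hxZ).inv, mul_assoc (z * x)] at h
  have hcross : ∀ x ∈ N, x ∈ Z → ∀ r ∈ fixSet Ω X, ∀ o ∈ O, x • r ≠ o • r := by
    intro x hx hxZ r hr o ho hxo
    have hxi := hQ.inv x hxZ
    haveI : Fact (Nat.Prime 2) := ⟨Nat.prime_two⟩
    classical
    haveI : Finite (MulAction.orbit O r) := Finite.of_equiv _ (MulAction.orbitEquivQuotientStabilizer O r).symm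
    haveI := Fintype.ofFinite (MulAction.orbit O r)
    have hmaps : ∀ q : MulAction.orbit O r, x • (q : Ω) ∈ MulAction.orbit O r := by
      rintro ⟨_, o', rfl⟩
      refine ⟨⟨x * o' * x⁻¹ * o, O.mul_mem (conj_mem_of_normalizer (hNO hx) o'.2) ho⟩, ?_⟩
      show (x * (o' : G) * x⁻¹ * o) • r = x • (o' : G) • r
      rw [mul_smul, ← hxo, mul_smul, inv_smul_smul, mul_smul]
    let σ : Equiv.Perm (MulAction.orbit O r) :=
      Function.Involutive.toPerm (fun q => ⟨x • (q : Ω), hmaps q⟩)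
        (fun q => Subtype.ext (hxi.smul_twice (q : Ω)))
    have hcard : ¬ 2 ∣ Fintype.card (MulAction.orbit O r) := fun h => Nat.not_even_iff_odd.mpr hOodd
      (even_iff_two_dvd.mpr (h.trans (by
        rw [← Nat.card_eq_fintype_card, Nat.card_congr (MulAction.orbitEquivQuotientStabilizer O r),
          ← Subgroup.index_eq_card]
        exact Subgroup.index_dvd_card _)))
    obtain ⟨⟨_, o', rfl⟩, hfix⟩ := Equiv.Perm.exists_fixed_point_of_prime hcard (σ := σ) (n := 1) (by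
      rw [pow_one, pow_two]
      exact Equiv.ext fun q => Subtype.ext (hxi.smul_twice (q : Ω)))
    exact hfpf _ hx hxZ _ (fixSet_smul (hON o'.2) hr) (congrArg Subtype.val hfix)
  have hswap : ∀ {c' d' : Ω}, c' ∈ fixSet Ω X → d' ∈ fixSet Ω X → c' ≠ d' →
      ∃ x ∈ N, x ∈ Z ∧ x • c' = d' := by
    intro c' d' hc' hd' hne
    rcases hpair c' hc' d' hd' hne with h | ⟨P, hP, hcP, hdP, honly⟩
    · exact h
    set K : Subgroup G := O ⊔ P with hK
    have hKN : K ≤ N := sup_le hON hP.le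
    have hKodd : Odd (Nat.card K) := odd_sup_of_le_normalizer hOodd (odd_of_pGroup hp2 hP.isPGroup)
      (hP.le.trans hNO)
    have hzK : ∀ k ∈ K, z * k * z⁻¹ ∈ K := fun k hk => by
      rw [show z * k * z⁻¹ = z * k * z⁻¹ * k⁻¹ * k by group]
      exact K.mul_mem ((le_sup_left : O ≤ K) (hcomm k (hKN hk))) hk
    obtain ⟨R, hR, hzR⟩ := CfsgLib.Bender.TwoClosed.exists_invariant_maxP (p := p) hKodd hzi.2 hzK
    obtain ⟨g, hg, hgP⟩ := (hP.of_le hKN le_sup_right).conj hR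
    have hgN := hKN hg
    have hmap : ∀ {r : Ω}, r ∈ fixSet Ω P → g • r ∈ fixSet Ω R := fun {r} hr x hx => by
      have h := hr _ ((hgP (g⁻¹ * x * g)).mpr (by simpa [mul_assoc] using hx))
      rwa [mul_smul, mul_smul, inv_smul_eq_iff] at h
    refine ⟨g⁻¹ * z * g, N.mul_mem (N.mul_mem (N.inv_mem hgN) hzN) hgN, by simpa using hQ.conj z hz g⁻¹, ?_⟩
    have hback : g⁻¹ • z • g • c' ∈ fixSet Ω P := fun x hx => by
      have h := fixSet_smul hzR (hmap hcP) (g * x * g⁻¹) ((hgP x).mp hx)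
      rw [mul_smul, mul_smul] at h
      rw [← smul_left_cancel_iff g, smul_inv_smul]
      exact h
    rw [mul_smul, mul_smul]
    rcases honly _ hback (fixSet_smul (N.inv_mem hgN) (fixSet_smul hzN (fixSet_smul hgN hc'))) with h | h
    · exact absurd (inv_smul_eq_iff.mp h) (hfpf _ hzN hz _ (fixSet_smul hgN hc'))
    · exact h
  have hOfix : ∀ o ∈ O, ∀ r ∈ fixSet Ω X, o • r = r := by
    intro o ho r hr
    by_contra hne
    obtain ⟨x, hx, hxZ, hxr⟩ := hswap hr (fixSet_smul (hON ho) hr) (Ne.symm hne)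
    exact hcross x hx hxZ r hr o ho hxr
  have hzd : ∀ {c' d' : Ω}, c' ∈ fixSet Ω X → d' ∈ fixSet Ω X → c' ≠ d' → z • c' = d' := by
    intro c' d' hc' hd' hne
    obtain ⟨x, hx, hxZ, hxc⟩ := hswap hc' hd' hne
    rw [show z = (z * x) * x by rw [mul_assoc, (hQ.inv x hxZ).2, mul_one], mul_smul, hxc]
    exact hOfix _ (hclass x hx hxZ) _ hd'
  exact hde ((hzd hc hd hcd).symm.trans (hzd hc he hce))

end Fpf

section Ascent

variable {p : ℕ} [Fact p.Prime] (hp2 : p ≠ 2)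
include hp2

/-- The ascent: above a subgroup with a full member, either a member normalising a group in between fixes one of
its fixed points, or a member normalises the top. -/
theorem ascent (hn : ¬ p ∣ Nat.card Ω) {U T : Subgroup G} (hT : IsPGroup p T) (hUT : U ≤ T)
    (hTfix : (fixSet Ω T).Nonempty) {c : G} (hfull : FullConj p Ω Z U c) :
    (∃ U' : Subgroup G, U ≤ U' ∧ U' ≤ T ∧
      ∃ w ∈ Z, w ∈ Subgroup.normalizer (U' : Set G) ∧ ∃ r ∈ fixSet Ω U', w • r = r) ∨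
      ∃ w ∈ Z, w ∈ Subgroup.normalizer (T : Set G) := by
  obtain ⟨U', hUU', ⟨hU'T, c, hc, hcU, hcard⟩, hmax⟩ := Finite.exists_le_maximal
    (p := fun W : Subgroup G => W ≤ T ∧ ∃ c, FullConj p Ω Z W c) ⟨hUT, c, hfull⟩
  rcases hU'T.lt_or_eq with hlt | rfl
  swap
  · exact Or.inr ⟨c, hc, hcU⟩
  by_contra hno
  push Not at hno
  obtain ⟨hno, -⟩ := hno
  have hci := hQ.inv c hc
  have hU'p : IsPGroup p U' := hT.to_le hU'T
  have hfpf : ∀ w ∈ Subgroup.normalizer (U' : Set G), w ∈ Z → ∀ r ∈ fixSet Ω U', w • r ≠ r :=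
    fun w hw hwZ r hr => hno U' hUU' hU'T w hwZ hw r hr
  set N := Subgroup.normalizer (U' : Set G) with hN
  have h4 := no_four_of_fpf hQ (odd_of_pGroup hp2 hU'p) hfpf
  obtain ⟨S, hS, hU'S, hcS⟩ := exists_invariant_maxP (p := p) hci (Subgroup.le_normalizer hcU)
    (fun k hk => odd_mul_of_no_four hQ h4 hcU (N.mul_mem (N.mul_mem hk hcU) (N.inv_mem hk)) hc (hQ.conj c hc k))
    hU'p Subgroup.le_normalizer hcU
  -- `S` fixes a point
  obtain ⟨r, hrS⟩ : (fixSet Ω S).Nonempty := by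
    by_contra hempty
    refine hn (Nat.modEq_zero_iff_dvd.mp ?_)
    have h := card_fixSet_modEq hQ hS.isPGroup
    rwa [Set.not_nonempty_iff_eq_empty.mp hempty, Nat.card_coe_set_eq, Set.ncard_empty] at h
  have hcr : c • r ≠ r := hfpf c hcU hc r fun x hx => hrS x (hU'S hx)
  obtain ⟨R, hR, hSR, hcR⟩ := exists_swap_maxP hQ hcr hc rfl hS.isPGroup
    (fun x hx => mem_two.mpr ⟨hrS x hx, fixSet_smul hcS hrS x hx⟩) hcS
  have hle : (fun x => x * c * x⁻¹) '' (U' : Set G) = (fun x => x * c * x⁻¹) '' (R : Set G) :=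
    Set.eq_of_subset_of_ncard_le (Set.image_mono (hU'S.trans hSR))
      (by rw [(fullConj_of_maxP hQ hc hcr hR hcR).2.2 r, hcard r]) (Set.toFinite _)
  -- so `c` centralises `S` modulo `U'`
  have hcomm : ∀ s ∈ S, c * s * c⁻¹ * s⁻¹ ∈ U' := by
    intro s hs
    obtain ⟨x, hx, hxc⟩ : s * c * s⁻¹ ∈ (fun x => x * c * x⁻¹) '' (U' : Set G) := hle ▸ ⟨s, hSR hs, rfl⟩
    have h1 : x * (c * x⁻¹ * c⁻¹) ∈ U' := U'.mul_mem hx (conj_mem_of_normalizer hcU (U'.inv_mem hx))
    have h2 : s * c * s⁻¹ * c⁻¹ ∈ U' := by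
      rw [← hxc]
      simpa [mul_assoc] using h1
    have h3 := U'.inv_mem h2
    rwa [show (s * c * s⁻¹ * c⁻¹)⁻¹ = c * s * c⁻¹ * s⁻¹ by group] at h3
  -- the normaliser of `U'` in `T`
  set T' := N ⊓ T
  have hU'T' : U' ≤ T' := le_inf Subgroup.le_normalizer hU'T
  obtain ⟨P, hT'P, hP⟩ := exists_maxP (p := p) (K := N) (hT.to_le inf_le_right) (inf_le_left : T' ≤ N)
  obtain ⟨g, hg, hgP⟩ := hP.conj hS
  have hgT' : ∀ x ∈ T', g * x * g⁻¹ ∈ S := fun x hx => (hgP x).mp (hT'P hx)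
  set c1 := g⁻¹ * c * g with hc1
  have hc1Z : c1 ∈ Z := by simpa using hQ.conj c hc g⁻¹
  have hc1T : c1 ∈ Subgroup.normalizer (T' : Set G) := mem_normalizer_of_conj fun x hx => by
    have h1 := conj_mem_of_normalizer (N.inv_mem hg) (hcomm _ (hgT' x hx))
    rw [show c1 * x * c1⁻¹ = g⁻¹ * (c * (g * x * g⁻¹) * c⁻¹ * (g * x * g⁻¹)⁻¹) * g⁻¹⁻¹ * x by rw [hc1]; group]
    exact T'.mul_mem (hU'T' h1) hx
  have hfull' : FullConj p Ω Z T' c1 := by
    refine ⟨hc1Z, hc1T, fun a => le_antisymm ?_ ?_⟩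
    · rw [← hcard a, hle]
      refine le_trans (Set.ncard_le_ncard (t := (fun y => g⁻¹ * y * g) '' ((fun x => x * c * x⁻¹) '' (R : Set G)))
        ?_ (Set.toFinite _)) (Set.ncard_image_le (Set.toFinite _))
      rintro _ ⟨x, hx, rfl⟩
      exact ⟨_, ⟨_, hSR (hgT' x hx), rfl⟩, by rw [hc1]; group⟩
    · rw [← hcard a, ← Set.ncard_image_of_injective _ (f := fun y => g⁻¹ * y * g)
        fun y y' e => mul_left_cancel (mul_right_cancel e)]
      refine Set.ncard_le_ncard ?_ (Set.toFinite _)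
      rintro _ ⟨_, ⟨y, hy, rfl⟩, rfl⟩
      refine ⟨g⁻¹ * y * g, hU'T' ?_, by rw [hc1]; group⟩
      simpa using conj_mem_of_normalizer (N.inv_mem hg) (show y ∈ U' from hy)
  obtain ⟨t, htT, htU, htn⟩ := exists_mem_normalizer hT hlt
  exact htU (hmax ⟨inf_le_right, c1, hfull'⟩ hU'T' ⟨htn, htT⟩)

end Ascent

section Consequences

variable {p : ℕ} [Fact p.Prime] (hp2 : p ≠ 2) (hev : Even' p G Ω Z)
include hp2 hev

/-- S1: `p` is prime to the degree. -/
theorem not_dvd_card : ¬ p ∣ Nat.card Ω := by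
  intro hn
  have hp3 : 3 ≤ p := lt_of_le_of_ne (Fact.out : p.Prime).two_le (Ne.symm hp2)
  haveI := pretransitive hQ
  haveI := finite_points hQ
  haveI := hQ.nontriv
  obtain ⟨a⟩ : Nonempty Ω := inferInstance
  obtain ⟨T, -, hT⟩ := exists_maxP (p := p) (K := stabilizer G a) IsPGroup.of_bot bot_le
  have haT : a ∈ fixSet Ω T := fun x hx => mem_stabilizer_iff.mp (hT.le hx)
  have hall : ∀ r ∈ fixSet Ω T, MaxP p (stabilizer G r) T := fun r hr => by
    obtain ⟨g, rfl⟩ := exists_smul_eq G a r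
    refine maxP_of_card hT.isPGroup (fun x hx => mem_stabilizer_iff.mpr (hr x hx)) ?_
    rw [hT.card, stabilizer_smul_eq_stabilizer_map_conj,
      Subgroup.card_map_of_injective (f := (MulAut.conj g).toMonoidHom) (MulAut.conj g).injective]
  have hpair : ∀ r ∈ fixSet Ω T, ∀ s ∈ fixSet Ω T, MaxP p (two r s) T := fun r hr s hs =>
    (hall r hr).of_le inf_le_left fun x hx => mem_two.mpr ⟨hr x hx, hs x hx⟩
  obtain ⟨c, d, e, hcd, hce, hde⟩ : ∃ c d e : fixSet Ω T, c ≠ d ∧ c ≠ e ∧ d ≠ e := by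
    classical
    haveI := Fintype.ofFinite (fixSet Ω T)
    refine Fintype.two_lt_card_iff.mp (lt_of_lt_of_le (lt_of_lt_of_le (by norm_num) hp3) ?_)
    rw [← Nat.card_eq_fintype_card]
    haveI : Nonempty (fixSet Ω T) := ⟨⟨a, haT⟩⟩
    exact Nat.le_of_dvd Nat.card_pos
      (Nat.modEq_zero_iff_dvd.mp ((card_fixSet_modEq hQ hT.isPGroup).symm.trans (Nat.modEq_zero_iff_dvd.mpr hn)))
  obtain ⟨z, hz, hzZ, -⟩ :=
    swap_maxP hQ (b := (d : Ω)) (fun h => hcd (Subtype.ext h.symm)) (hpair c c.2 d d.2)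
  refine fix_le_two hQ (odd_of_pGroup hp2 hT.isPGroup) ?_ hp2 ⟨z, hz, hzZ⟩ (fun r hr s hs hne => Or.inl ?_)
    c.2 d.2 e.2 (Subtype.coe_ne_coe.mpr hcd) (Subtype.coe_ne_coe.mpr hce) (Subtype.coe_ne_coe.mpr hde)
  · intro x hxn hx r hr hxr
    obtain ⟨s, hs, hsr⟩ : ∃ s ∈ fixSet Ω T, s ≠ r := by
      by_cases h : (c : Ω) = r
      · exact ⟨d, d.2, fun e => hcd (Subtype.ext (h.trans e.symm))⟩
      · exact ⟨c, c.2, h⟩
    exact hev x s r T hx hxr (fun e => hsr (eq_of_fix hQ hx e hxr)) (hpair s hs _ (fixSet_smul hxn hs)) hxn hr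
  · exact swap_maxP hQ hne.symm (hpair r hr s hs)

/-- S2: the climb. -/
theorem exists_climb {u : G} (hu : u ∈ Z) {a : Ω} (ha : u • a ≠ a) {R : Subgroup G}
    (hR : MaxP p (two a (u • a)) R) (huR : u ∈ Subgroup.normalizer (R : Set G)) :
    ∃ (X : Subgroup G) (c : Ω), R ≤ X ∧ MaxP p ⊤ X ∧ u ∈ Subgroup.normalizer (X : Set G) ∧ u • c ≠ c ∧
      (∀ d : Ω, d ∈ fixSet Ω X ↔ d = c ∨ d = u • c) ∧ ∀ j ∈ X, u * j * u = j⁻¹ → j ∈ R := by
  obtain ⟨g, hg⟩ := exists_fix hQ hu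
  have hgR := hev u a g R hu hg ha hR huR
  have hui := hQ.inv u hu
  obtain ⟨X, hRX, ⟨hX, huX, c, hc, hcX⟩, hmax⟩ := Finite.exists_le_maximal
    (p := fun Y : Subgroup G => IsPGroup p Y ∧ u ∈ Subgroup.normalizer (Y : Set G) ∧
      ∃ c, u • c ≠ c ∧ c ∈ fixSet Ω Y)
    ⟨hR.isPGroup, huR, a, ha, fun x hx => (mem_two.mp (hR.le hx)).1⟩
  have hgX : g ∉ fixSet Ω X := fun h => hgR fun x hx => h x (hRX hx)
  have hXodd := odd_of_pGroup hp2 hX
  have hfpf : ∀ x ∈ Subgroup.normalizer (X : Set G), x ∈ Z → ∀ r ∈ fixSet Ω X, x • r ≠ r := by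
    intro x hxn hx r hr hxr
    by_cases hrg : r = g
    · exact hgX (hrg ▸ hr)
    obtain ⟨w, hw, he, hwcl⟩ := exists_swap_conj hQ hx hxr hu hg hrg
    have hwn : w ∈ Subgroup.normalizer (X : Set G) :=
      (Subgroup.closure_le _).mpr (Set.insert_subset hxn (Set.singleton_subset_iff.mpr huX)) hwcl
    exact hgX ((swap_points hQ hxr hu hg hw he).1 ▸ fixSet_smul hwn hr)
  have hmem : ∀ r ∈ fixSet Ω X, X ≤ two r (u • r) := fun r hr x hx =>
    mem_two.mpr ⟨hr x hx, fixSet_smul huX hr x hx⟩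
  -- the maximal invariant group is maximal in the stabiliser of each of its swapped pairs
  have hMax : ∀ r ∈ fixSet Ω X, MaxP p (two r (u • r)) X := fun r hr => by
    have hr' : u • r ≠ r := hfpf u huX hu r hr
    obtain ⟨S, hS, hXS, huS⟩ := exists_swap_maxP hQ hr' hu rfl hX (hmem r hr) huX
    exact le_antisymm hXS (hmax ⟨hS.isPGroup, huS, r, hr', fun x hx => (mem_two.mp (hS.le hx)).1⟩ hXS) ▸ hS
  -- a Sylow subgroup of the normaliser fixes a point of `fixSet X`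
  set N := Subgroup.normalizer (X : Set G) with hN
  have h4 := no_four_of_fpf hQ hXodd hfpf
  set O : Subgroup G := oddRad N
  have hON : O ≤ N := oddRad_le N
  have hNO : N ≤ Subgroup.normalizer (O : Set G) := Subgroup.le_normalizer.trans (le_normalizer_oddRad N)
  obtain ⟨P, hXP, hP⟩ := exists_maxP (p := p) (K := N) hX Subgroup.le_normalizer
  have hPX : MaxP p N X := by
    set K : Subgroup G := O ⊔ P with hK
    have hKN : K ≤ N := sup_le hON hP.le
    have hKodd : Odd (Nat.card K) := odd_sup_of_le_normalizer (odd_oddRad N) (odd_of_pGroup hp2 hP.isPGroup)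
      (hP.le.trans hNO)
    have huK : ∀ k ∈ K, u * k * u⁻¹ ∈ K := fun k hk => by
      rw [show u * k * u⁻¹ = u * k * u⁻¹ * k⁻¹ * k by group, hui.inv]
      exact K.mul_mem ((le_sup_left : O ≤ K) (comm_mem_of_no_four hQ h4 hu huX (hKN hk))) hk
    obtain ⟨S, hXS, hS, huS⟩ := CfsgLib.Bender.B1.exists_invariant_maxP_above hKodd hui.2 huK hX
      (hXP.trans le_sup_right) huX
    -- `S` fixes a point of `fixSet X`
    have hfix : ∃ r ∈ fixSet Ω X, r ∈ fixSet Ω S := by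
      by_contra hnone
      push Not at hnone
      refine not_dvd_card hQ hp2 hev ?_
      have h1 := card_fixSet_modEq hQ hS.isPGroup
      have h2 : Nat.card (fixSet Ω S) = 0 := Nat.card_eq_zero.mpr (Or.inl ⟨fun r =>
        hnone r (fun x hx => r.2 x (hXS hx)) r.2⟩)
      exact Nat.modEq_zero_iff_dvd.mp (h2 ▸ h1)
    obtain ⟨r, hr, hrS⟩ := hfix
    have hSX : S = X := le_antisymm (hmax ⟨hS.isPGroup, huS, r, hfpf u huX hu r hr, hrS⟩ hXS) hXS
    refine maxP_of_card hX Subgroup.le_normalizer ?_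
    rw [← hP.card, ← hSX, hS.card, (hP.of_le hKN le_sup_right).card]
  have hXtop : MaxP p ⊤ X := by
    obtain ⟨Y, hXY, hY⟩ := exists_maxP (p := p) (K := ⊤) hX le_top
    rcases hXY.lt_or_eq with hlt | rfl
    swap
    · exact hY
    obtain ⟨y, hy, hyX, hyn⟩ := exists_mem_normalizer hY.isPGroup hlt
    have hW : X ⊔ Subgroup.zpowers y ≤ X := (hPX.eq_of_le (hY.isPGroup.to_le (sup_le hlt.le
      (Subgroup.zpowers_le.mpr hy))) (sup_le Subgroup.le_normalizer (Subgroup.zpowers_le.mpr hyn)) le_sup_left).le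
    exact absurd (hW ((le_sup_right : Subgroup.zpowers y ≤ _) (Subgroup.mem_zpowers y))) hyX
  refine ⟨X, c, hRX, hXtop, huX, hc, fun d => ⟨fun hd => ?_, ?_⟩,
    fun j hj hinv => inverted_mem hQ hp2 hu ha hc hR huR (hMax c hcX) huX hRX hj hinv⟩
  · by_contra hne
    push Not at hne
    refine fix_le_two hQ hXodd hfpf hp2 ⟨u, huX, hu⟩ (fun r hr s hs hrs => Or.inl ?_) hcX (fixSet_smul huX hcX) hd
      hc.symm hne.1.symm hne.2.symm
    exact swap_maxP hQ hrs.symm (hXtop.of_le le_top fun x hx => mem_two.mpr ⟨hr x hx, hs x hx⟩)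
  · rintro (rfl | rfl)
    · exact hcX
    · exact fixSet_smul huX hcX

/-- The degree is congruent to two. -/
theorem card_modEq_two : Nat.card Ω ≡ 2 [MOD p] := by
  haveI := hQ.nontriv
  obtain ⟨g⟩ : Nonempty Ω := inferInstance
  obtain ⟨u, hu, hg⟩ := hQ.exists_at g
  obtain ⟨a, ha⟩ := exists_ne_point hQ g
  have hua : u • a ≠ a := fun e => ha (eq_of_fix hQ hu e hg)
  obtain ⟨R, hR, -, huR⟩ := exists_swap_maxP hQ hua hu rfl (p := p) (X := ⊥) IsPGroup.of_bot bot_le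
    (mem_normalizer_of_conj fun x hx => by rw [Subgroup.mem_bot.mp hx, mul_one, mul_inv_cancel]; exact one_mem _)
  obtain ⟨X, c, -, hX, -, hc, hfix, -⟩ := exists_climb hQ hp2 hev hu hua hR huR
  refine (card_fixSet_modEq hQ hX.isPGroup).trans (congrArg (· % p) ?_)
  rw [Nat.card_coe_set_eq, show fixSet Ω X = {c, u • c} from Set.ext fun d => by simp [hfix d],
    Set.ncard_pair hc.symm]

/-- Every `p`-subgroup fixes at least two points. -/
theorem exists_two_fixed {X : Subgroup G} (hX : IsPGroup p X) :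
    ∃ c d : Ω, c ≠ d ∧ c ∈ fixSet Ω X ∧ d ∈ fixSet Ω X := by
  have h := (card_fixSet_modEq hQ hX).symm.trans (card_modEq_two hQ hp2 hev)
  have hp3 : 3 ≤ p := lt_of_le_of_ne (Fact.out : p.Prime).two_le (Ne.symm hp2)
  have h2 : 2 ≤ Nat.card (fixSet Ω X) := by
    by_contra hlt
    push Not at hlt
    have := h.eq_of_lt_of_lt (by omega) (by omega)
    omega
  obtain ⟨⟨c, hc⟩, ⟨d, hd⟩, hne⟩ : ∃ c d : fixSet Ω X, c ≠ d := by
    by_contra hall
    push Not at hall
    haveI : Subsingleton (fixSet Ω X) := ⟨hall⟩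
    rcases isEmpty_or_nonempty (fixSet Ω X) with he | hne
    · rw [Nat.card_of_isEmpty] at h2; omega
    · rw [Nat.card_unique] at h2; omega
  exact ⟨c, d, fun e => hne (Subtype.ext e), hc, hd⟩

omit hev in
/-- A Sylow subgroup of a pair stabiliser fixing only that pair is a Sylow subgroup of the group. -/
theorem maxP_top_of_fix {a b : Ω} {R : Subgroup G} (hR : MaxP p (two a b) R)
    (hfix : ∀ d ∈ fixSet Ω R, d = a ∨ d = b) : MaxP p ⊤ R := by
  obtain ⟨Y, hRY, hY⟩ := exists_maxP (p := p) (K := ⊤) hR.isPGroup le_top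
  rcases hRY.lt_or_eq with hlt | rfl
  swap
  · exact hY
  obtain ⟨y, hy, hyR, hyn⟩ := exists_mem_normalizer hY.isPGroup hlt
  have hodd := odd_orderOf_of_pGroup hp2 hY.isPGroup hy
  have haR : a ∈ fixSet Ω R := fun x hx => (mem_two.mp (hR.le hx)).1
  have hbR : b ∈ fixSet Ω R := fun x hx => (mem_two.mp (hR.le hx)).2
  have h1 := hfix _ (fixSet_smul hyn haR)
  have h2 := hfix _ (fixSet_smul hyn hbR)
  have hy2 : y ∈ two a b := mem_two.mpr ⟨smul_eq_of_pair hodd h1 h2, smul_eq_of_pair hodd h2.symm h1.symm⟩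
  have hW := hR.eq_of_le (hY.isPGroup.to_le (sup_le hlt.le (Subgroup.zpowers_le.mpr hy)))
    (sup_le hR.le (Subgroup.zpowers_le.mpr hy2)) le_sup_left
  exact absurd (hW ▸ (le_sup_right : Subgroup.zpowers y ≤ _) (Subgroup.mem_zpowers y)) hyR

omit hp2 hev in
/-- Pairs which are the fixed points of Sylow subgroups are conjugate in the stabiliser of a point. -/
theorem top_pairs_conj {c d d' : Ω} (hne : c ≠ d) {X X' : Subgroup G} (hX : MaxP p ⊤ X) (hX' : MaxP p ⊤ X')
    (hf : ∀ e, e ∈ fixSet Ω X ↔ e = c ∨ e = d) (hf' : ∀ e, e ∈ fixSet Ω X' ↔ e = c ∨ e = d') :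
    ∃ g : G, g • c = c ∧ g • d = d' := by
  have hle : ∀ {Y : Subgroup G}, MaxP p ⊤ Y → c ∈ fixSet Ω Y → MaxP p (stabilizer G c) Y := fun hY hc =>
    hY.of_le le_top fun x hx => mem_stabilizer_iff.mpr (hc x hx)
  obtain ⟨g, hg, hgX⟩ := (hle hX ((hf c).mpr (Or.inl rfl))).conj (hle hX' ((hf' c).mpr (Or.inl rfl)))
  have hgc := mem_stabilizer_iff.mp hg
  have h : g • d ∈ fixSet Ω X' := fun x hx => by
    have h1 := (hf d).mpr (Or.inr rfl) _ ((hgX (g⁻¹ * x * g)).mpr (by simpa [mul_assoc] using hx))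
    rwa [mul_smul, mul_smul, inv_smul_eq_iff] at h1
  rcases (hf' _).mp h with h1 | h1
  · exact absurd (smul_left_cancel g (h1.trans hgc.symm)).symm hne
  · exact ⟨g, hgc, h1⟩

/-- S3: above a Sylow subgroup of a pair stabiliser fixing a third point, some subgroup fixing three points has a
normalising member at one of its fixed points. -/
theorem exists_member_at_fixed {a b : Ω} (hba : b ≠ a) {R : Subgroup G} (hR : MaxP p (two a b) R) {x : Ω}
    (hx : x ∈ fixSet Ω R) (hxa : x ≠ a) (hxb : x ≠ b) :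
    ∃ U : Subgroup G, R ≤ U ∧ IsPGroup p U ∧
      ∃ w ∈ Z, w ∈ Subgroup.normalizer (U : Set G) ∧ ∃ r ∈ fixSet Ω U, w • r = r := by
  obtain ⟨T, hRT, ⟨hT, c, hc, d, hd, e, he, hcd, hce, hde⟩, hmax⟩ := Finite.exists_le_maximal
    (p := fun W : Subgroup G => IsPGroup p W ∧ ∃ c ∈ fixSet Ω W, ∃ d ∈ fixSet Ω W, ∃ e ∈ fixSet Ω W,
      c ≠ d ∧ c ≠ e ∧ d ≠ e)
    ⟨hR.isPGroup, a, fun y hy => (mem_two.mp (hR.le hy)).1, b, fun y hy => (mem_two.mp (hR.le hy)).2, x, hx,
      hba.symm, hxa.symm, hxb.symm⟩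
  obtain ⟨v, hvR, hv, hva⟩ := swap_maxP hQ hba hR
  have hfull : FullConj p Ω Z R v := fullConj_of_maxP hQ hv (d := a) (by rw [hva]; exact hba) (by rwa [hva]) hvR
  rcases ascent hQ hp2 (not_dvd_card hQ hp2 hev) hT hRT ⟨c, hc⟩ hfull with
    ⟨U, hRU, hUT, w, hw, hwU, hr⟩ | ⟨z, hz, hzT⟩
  · exact ⟨U, hRU, hT.to_le hUT, w, hw, hwU, hr⟩
  by_contra hno
  push Not at hno
  refine fix_le_two hQ (odd_of_pGroup hp2 hT) (fun y hyn hy r hr => hno T hRT hT y hy hyn r hr) hp2 ⟨z, hzT, hz⟩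
    ?_ hc hd he hcd hce hde
  intro r hr s hs hrs
  have hTrs : T ≤ two r s := fun y hy => mem_two.mpr ⟨hr y hy, hs y hy⟩
  obtain ⟨Q, hTQ, hQ'⟩ := exists_maxP hT hTrs
  rcases hTQ.lt_or_eq with hlt | rfl
  swap
  · exact Or.inl (swap_maxP hQ hrs.symm hQ')
  refine Or.inr ?_
  set N := Subgroup.normalizer (T : Set G) with hN
  obtain ⟨y, hy, hyT, hyn⟩ := exists_mem_normalizer hQ'.isPGroup hlt
  have h0 : T ⊔ Subgroup.zpowers y ≤ N ⊓ two r s := le_inf
    (sup_le Subgroup.le_normalizer (Subgroup.zpowers_le.mpr hyn))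
    (sup_le hTrs (Subgroup.zpowers_le.mpr (hQ'.le hy)))
  obtain ⟨P, hYP, hP⟩ := exists_maxP (hQ'.isPGroup.to_le (sup_le hlt.le (Subgroup.zpowers_le.mpr hy))) h0
  have hTP : T < P := lt_of_le_of_ne (le_sup_left.trans hYP) fun e =>
    hyT (e.symm ▸ hYP ((le_sup_right : Subgroup.zpowers y ≤ _) (Subgroup.mem_zpowers y)))
  have hrP : r ∈ fixSet Ω P := fun x hx => (mem_two.mp (hP.le hx).2).1
  have hsP : s ∈ fixSet Ω P := fun x hx => (mem_two.mp (hP.le hx).2).2
  have honly : ∀ t ∈ fixSet Ω P, t = r ∨ t = s := fun t ht => by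
    by_contra hne
    push Not at hne
    exact hTP.not_ge (hmax ⟨hP.isPGroup, r, hrP, s, hsP, t, ht, hrs, hne.1.symm, hne.2.symm⟩ hTP.le)
  refine ⟨P, ?_, hrP, hsP, fun t ht _ => honly t ht⟩
  obtain ⟨W, hPW, hW'⟩ := exists_maxP (p := p) (K := N) hP.isPGroup (hP.le.trans inf_le_left)
  rcases hPW.lt_or_eq with hlt' | rfl
  swap
  · exact hW'
  obtain ⟨g, hgW, hgP, hgn⟩ := exists_mem_normalizer hW'.isPGroup hlt'
  have hodd := odd_orderOf_of_pGroup hp2 hW'.isPGroup hgW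
  have h1 := honly _ (fixSet_smul hgn hrP)
  have h2 := honly _ (fixSet_smul hgn hsP)
  have hg2 : g ∈ N ⊓ two r s :=
    ⟨hW'.le hgW, mem_two.mpr ⟨smul_eq_of_pair hodd h1 h2, smul_eq_of_pair hodd h2.symm h1.symm⟩⟩
  have hW := hP.eq_of_le (hW'.isPGroup.to_le (sup_le hlt'.le (Subgroup.zpowers_le.mpr hgW)))
    (sup_le hP.le (Subgroup.zpowers_le.mpr hg2)) le_sup_left
  exact absurd (hW ▸ (le_sup_right : Subgroup.zpowers g ≤ _) (Subgroup.mem_zpowers g)) hgP

end Consequences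

end CfsgLib.Bender.Q
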