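import Cfsg.Agent.Lib.Bender.Q.B1.CliqueCore
import Cfsg.Agent.Lib.Bender.B1.Clique

/-!
The clique end: a chosen top containing the pair stabilisers of its centres carries no inverted elements of odd
order.

Blueprint: `blueprint/bender/Q_B1.md` 5.
-/

set_option autoImplicit false
set_option linter.unusedSectionVars false
set_option linter.style.haveILetI false
set_option linter.unusedVariables false

namespace CfsgLib.Bender.Q

open MulAction Cfsg
open CfsgLib.Bender.TwoClosed (IsInv InvAt two mem_two smul_conj odd_orderOf MaxP exists_maxP maxP_of_card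
  mem_normalizer_of_conj conj_mem_of_normalizer exists_mem_normalizer fixSet fixSet_smul odd_orderOf_of_pGroup
  mem_of_sq_mem)
open CfsgLib.Bender.B1 (fixer mem_fixer card_conj_image)

universe u

variable {G : Type u} {Ω : Type u} [Group G] [Finite G] [MulAction G Ω] {Z : Set G}

/-- The fixed points of the Sylow subgroup `X` are the pair `c`, `d`. -/
def Exact (l : ℕ) (c d : Ω) (X : Subgroup G) : Prop :=
  MaxP l ⊤ X ∧ ∀ e : Ω, e ∈ fixSet Ω X ↔ e = c ∨ e = d

theorem Exact.conj {l : ℕ} [Fact l.Prime] {c d : Ω} {X : Subgroup G} (h : Exact l c d X) (g : G) :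
    Exact l (g • c) (g • d) (X.map (MulAut.conj g).toMonoidHom) := by
  refine ⟨maxP_of_card (h.1.isPGroup.map _) le_top ?_, fun e => ?_⟩
  · rw [Subgroup.card_map_of_injective (f := (MulAut.conj g).toMonoidHom) (MulAut.conj g).injective, h.1.card]
  · have hiff : e ∈ fixSet Ω (X.map (MulAut.conj g).toMonoidHom) ↔ g⁻¹ • e ∈ fixSet Ω X := by
      constructor
      · intro he x hx
        have := he (g * x * g⁻¹) ⟨x, hx, rfl⟩
        rw [mul_smul, mul_smul] at this
        exact smul_left_cancel g (this.trans (smul_inv_smul g e).symm)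
      · rintro he _ ⟨x, hx, rfl⟩
        show (g * x * g⁻¹) • e = e
        rw [mul_smul, mul_smul, he x hx, smul_inv_smul]
    rw [hiff, h.2, inv_smul_eq_iff, inv_smul_eq_iff]

variable [FaithfulSMul G Ω] (hQ : Hyp G Ω Z) {M : Subgroup G} {e l f : ℕ}
include hQ

/-- Two members of a top at a centre which agree at another centre agree at all. -/
theorem agree (hB : Below.{u} (Nat.card G)) {X : Subgroup G} (hX : IsTop Ω Z X) {a g : Ω}
    (hg : g ∈ centres Ω Z X) (hne : g ≠ a) {i j : G} (hi : i ∈ Z) (hj : j ∈ Z) (hiX : i ∈ X) (hjX : j ∈ X)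
    (hia : i • a = a) (hja : j • a = a) (hag : j • g = i • g) {c : Ω} (hc : c ∈ centres Ω Z X) :
    j • c = i • c := by
  have hii := hQ.inv i hi
  have hog : (i * j) • g = g := by rw [mul_smul, hag, hii.smul_twice]
  have hoa : (i * j) • a = a := by rw [mul_smul, hja, hia]
  have hinv : i * (i * j) * i = (i * j)⁻¹ := by
    rw [mul_inv_rev, hii.inv, (hQ.inv j hj).inv, ← mul_assoc, hii.2, one_mul]
  have hodd : Odd (orderOf (i * j)) := by
    by_contra hodd
    rw [Nat.not_odd_iff_even] at hodd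
    have hz := central_mem hQ hi hj hodd
    exact hne (eq_of_fix hQ hz (mem_stabilizer_iff.mp (pow_mem (mem_stabilizer_iff.mpr hog) _))
      (mem_stabilizer_iff.mp (pow_mem (mem_stabilizer_iff.mpr hoa) _)))
  have h := inverted_fix_centres hQ hB hX.ne_top hX.four hi hiX hia ⟨g, hg, hne⟩ (X.mul_mem hiX hjX) hoa hinv hodd hc
  rw [mul_smul] at h
  calc j • c = i • i • j • c := (hii.smul_twice _).symm
    _ = i • c := by rw [h]

variable (hK : Clique Ω hQ M e l f)
include hK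

/-- No invariant Sylow subgroup of a swapped pair fixes the point of the member. -/
theorem Clique.even' : Even' l G Ω Z := by
  intro u a g R hu hug hua hR huR hgR
  haveI := Fact.mk hK.prime
  have hui := hQ.inv u hu
  set O : Subgroup G := oAt Z g
  have hOR := (fullConj_of_maxP hQ hu hua hR huR).2.2 g
  have huO : ∀ k ∈ O, u * k * u⁻¹ ∈ O := fun k hk => conj_oAt_self hQ hug hk
  obtain ⟨P, hRP, hP, huP⟩ := CfsgLib.Bender.B1.exists_invariant_maxP_above (Z := R ⊓ O) (hK.odd_oAt hQ g) hui.2 huO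
    (hR.isPGroup.to_le inf_le_left) inf_le_right
    (mem_normalizer_of_conj fun x hx => ⟨conj_mem_of_normalizer huR hx.1, huO x hx.2⟩)
  have hcl0 : (cls Z g u).ncard ≠ 0 := fun h =>
    card_memAt_ne_zero hQ g (by rw [hK.card_memAt hQ hu hug, h, mul_zero])
  have h2 := card_conj_image P u
  rw [(CfsgLib.Bender.B1.maxP_cent hui (hK.odd_oAt hQ g) huO hP huP).card, hP.card,
    ← hK.card_cls_mul hQ hu hug, Nat.factorization_mul hcl0 Nat.card_pos.ne', Finsupp.add_apply, pow_add] at h2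
  have hOP := Nat.eq_of_mul_eq_mul_right (pow_pos hK.prime.pos _) h2
  have hsub : (fun x => x * u * x⁻¹) '' (R : Set G) ⊆ (fun x => x * u * x⁻¹) '' (P : Set G) := by
    rintro _ ⟨x, hx, rfl⟩
    have hjR : x * u * x⁻¹ * u ∈ R := by
      rw [show x * u * x⁻¹ * u = x * (u * x⁻¹ * u⁻¹) * (u * u) by group, hui.2, mul_one]
      exact R.mul_mem hx (conj_mem_of_normalizer huR (R.inv_mem hx))
    have hinv : u * (x * u * x⁻¹ * u) * u = (x * u * x⁻¹ * u)⁻¹ := by
      calc u * (x * u * x⁻¹ * u) * u = u * x * u * x⁻¹ * (u * u) := by group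
        _ = u * x * u * x⁻¹ := by rw [hui.2, mul_one]
        _ = _ := by simp [mul_inv_rev, hui.inv, mul_assoc]
    have hjodd : Odd (orderOf (x * u * x⁻¹ * u)) := odd_orderOf_of_pGroup hK.ne_two hR.isPGroup hjR
    have hjP : x * u * x⁻¹ * u ∈ P :=
      hRP ⟨hjR, mem_oAt_of_inverted hQ hu hug (hgR _ hjR) hinv hjodd⟩
    obtain ⟨k, hk⟩ := CfsgLib.Involutions.exists_sqrt hjodd
    refine ⟨(x * u * x⁻¹ * u) ^ k, P.pow_mem hjP k, ?_⟩
    set r := (x * u * x⁻¹ * u) ^ k
    have hr : u * r⁻¹ * u = r := by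
      have h := conj_pow (i := k) (a := u) (b := (x * u * x⁻¹ * u)⁻¹)
      rw [hui.inv, inv_pow] at h
      rw [← h, ← hinv, show u * (u * (x * u * x⁻¹ * u) * u) * u = (u * u) * (x * u * x⁻¹ * u) * (u * u) by group,
        hui.2, one_mul, mul_one]
    calc r * u * r⁻¹ = r * (u * r⁻¹ * u) * u := by
          rw [show r * (u * r⁻¹ * u) * u = r * u * r⁻¹ * (u * u) by group, hui.2, mul_one]
      _ = (x * u * x⁻¹ * u) * u := by rw [hr, hk]
      _ = x * u * x⁻¹ := by rw [mul_assoc, hui.2, mul_one]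
  have hle := Set.ncard_le_ncard hsub (Set.toFinite _)
  rw [hOR, hOP] at hle
  have := (Nat.pow_le_pow_iff_right hK.prime.one_lt).mp hle
  have := hK.factorization_memAt hQ hu hug
  omega

/-- S3: a Sylow subgroup of a pair stabiliser with three fixed points fixes a class at one of its fixed points. -/
theorem Clique.exists_class {a b : Ω} (hba : b ≠ a) {R : Subgroup G} (hR : MaxP l (two a b) R) {x : Ω}
    (hx : x ∈ fixSet Ω R) (hxa : x ≠ a) (hxb : x ≠ b) :
    ∃ c ∈ fixSet Ω R, ∃ w ∈ Z, w • c = c ∧ R ≤ stabCls hQ c w := by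
  haveI := Fact.mk hK.prime
  obtain ⟨U, hRU, hU, w, hw, hwn, c, hc, hwc⟩ :=
    exists_member_at_fixed hQ hK.ne_two (hK.even' hQ) hba hR hx hxa hxb
  refine ⟨c, fun t ht => hc t (hRU ht), w, hw, hwc, fun t ht => ⟨hc t (hRU ht), ?_⟩⟩
  have hwi := hQ.inv w hw
  have hu : t * w * t⁻¹ * w⁻¹ ∈ uAt Z c := by
    rw [hwi.inv]
    refine Subgroup.mul_mem _ (mem_uAt (hQ.conj w hw t) ?_) (mem_uAt hw hwc)
    rw [mul_smul, mul_smul, inv_smul_eq_iff.mpr (hc t (hRU ht)).symm, hwc, hc t (hRU ht)]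
  refine mem_oAt hu (odd_orderOf_of_pGroup hK.ne_two hU ?_)
  rw [show t * w * t⁻¹ * w⁻¹ = t * (w * t⁻¹ * w⁻¹) by group]
  exact U.mul_mem (hRU ht) (conj_mem_of_normalizer hwn (U.inv_mem (hRU ht)))

/-- A member at a centre has a lift normalising a Sylow subgroup of the kernel. -/
theorem Clique.exists_lift {a : Ω} (ha : a ∈ centres Ω Z M) {S : Subgroup G}
    (hS : MaxP l (fixer G (centres Ω Z M)) S) {i : G} (hi : i ∈ Z) (hia : i • a = a) :
    ∃ z ∈ Subgroup.normalizer (S : Set G), z ∈ Z ∧ z • a = a ∧ ∀ c ∈ centres Ω Z M, z • c = i • c := by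
  haveI := Fact.mk hK.prime
  set K := fixer G (centres Ω Z M) with hKdef
  have hiM := hK.invol_mem hQ ha hi hia
  obtain ⟨S', hS', -, hiS'⟩ := exists_invariant_maxP (hQ.inv i hi) (le_normalizer_fixer hQ hK.chosen hiM)
    (fun k hk => odd_mul_conj_fixer hQ (Clique.top hQ hK) hiM hi (fixer_le hQ hK.below hK.one_lt hK.chosen hk) hk)
    (p := l) (X := ⊥) IsPGroup.of_bot bot_le
    (mem_normalizer_of_conj fun x hx => by rw [Subgroup.mem_bot.mp hx, mul_one, mul_inv_cancel]; exact one_mem _)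
  obtain ⟨k, hk, hconj⟩ := hS'.conj hS
  have hzc : ∀ c ∈ centres Ω Z M, (k * i * k⁻¹) • c = i • c := fun c hc => by
    have h1 : k⁻¹ • c = c := inv_smul_eq_iff.mpr (mem_fixer.mp hk c hc).symm
    rw [mul_smul, mul_smul, h1, mem_fixer.mp hk _ (centres_smul hQ hiM hc)]
  refine ⟨k * i * k⁻¹, mem_normalizer_of_conj fun s hs => ?_, hQ.conj i hi k, by rw [hzc a ha, hia], hzc⟩
  have h1 : k⁻¹ * s * k ∈ S' := (hconj _).mpr (by simpa [mul_assoc] using hs)
  have h2 := (hconj _).mp (conj_mem_of_normalizer hiS' h1)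
  rwa [show k * i * k⁻¹ * s * (k * i * k⁻¹)⁻¹ = k * (i * (k⁻¹ * s * k) * i⁻¹) * k⁻¹ by group]

/-- The normaliser of a Sylow subgroup of the kernel has the same `q`. -/
theorem Clique.top_normalizer {a g : Ω} (ha : a ∈ centres Ω Z M) (hg : g ∈ centres Ω Z M) (hne : g ≠ a)
    {S : Subgroup G} (hS : MaxP l (fixer G (centres Ω Z M)) S) (hS1 : S ≠ ⊥) {u : G} (hu : u ∈ Z)
    (hug : u • g = g) (huS : u ∈ Subgroup.normalizer (S : Set G)) :
    IsTop Ω Z (Subgroup.normalizer (S : Set G)) ∧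
      qTop hQ (Subgroup.normalizer (S : Set G)) = qTop hQ M ∧
      a ∈ centres Ω Z (Subgroup.normalizer (S : Set G)) := by
  haveI := finite_points hQ
  have hT := Clique.top hQ hK
  set Y := Subgroup.normalizer (S : Set G)
  have hlift : ∀ i, i ∈ Z → i • a = a →
      ∃ z ∈ Y, z ∈ Z ∧ z • a = a ∧ ∀ c ∈ centres Ω Z M, z • c = i • c := fun i hi hia =>
    hK.exists_lift hQ ha hS hi hia
  obtain ⟨v, hvM, w, hwM, hv, hva, hw, hwa, hvw, hcom⟩ := four_at hQ hT ha
  obtain ⟨z, hzY, hz, hza, hzv⟩ := hlift v hv hva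
  obtain ⟨z', hz'Y, hz', hz'a, hz'w⟩ := hlift w hw hwa
  have hYne : Y ≠ ⊤ := fun e => hS1 (by
    haveI : S.Normal := Subgroup.normalizer_eq_top_iff.mp e
    exact eq_bot_of_normal hQ fun x hx => mem_fixer.mp (hS.le hx) a ha)
  have h4 : FourIn Z Y := by
    by_contra h4
    have hodd := odd_mul_of_no_four hQ h4 hzY hz'Y hz hz'
    have hvwZ := prod_mem hQ hv hw hvw hcom
    have hzz : ∀ c ∈ centres Ω Z M, (z * z') • c = (v * w) • c := fun c hc => by
      rw [mul_smul, mul_smul, hz'w c hc, hzv _ (centres_smul hQ hwM hc)]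
    have hfix : ∀ c ∈ centres Ω Z M, (v * w) • c = c := fun c hc => by
      rw [← hzz c hc]
      refine mem_stabilizer_iff.mp (mem_of_sq_mem hodd (mem_stabilizer_iff.mpr ?_))
      rw [mul_smul, hzz c hc, hzz _ (centres_smul hQ (M.mul_mem hvM hwM) hc)]
      exact (hQ.inv _ hvwZ).smul_twice c
    exact hne (eq_of_fix hQ hvwZ (hfix g hg) (hfix a ha))
  have haY : a ∈ centres Ω Z Y := mem_centres hzY hz hza
  have hgY : g ∈ centres Ω Z Y := mem_centres huS hu hug
  have hTY : IsTop Ω Z Y := ⟨hYne, h4, a, g, haY, hgY, hne⟩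
  refine ⟨hTY, ?_, haY⟩
  set X0 := memGrp Z M
  set Y0 := memGrp Z Y
  have hX0 := isTopOdd_memGrp hT
  have hY0 := isTopOdd_memGrp hTY
  have hcM : centres Ω Z X0 = centres Ω Z M := centres_memGrp M
  have hcY : centres Ω Z Y0 = centres Ω Z Y := centres_memGrp Y
  set a1 : centres Ω Z X0 := ⟨a, hcM.symm ▸ ha⟩
  set a2 : centres Ω Z Y0 := ⟨a, hcY.symm ▸ haY⟩
  have hchoice : ∀ y : InvAt (topGrp hQ X0) a1, ∃ x : Y0, (x : G) ∈ Z ∧ (x : G) • a = a ∧
      ∀ c : centres Ω Z X0, (x : G) • (c : Ω) = ((y.1 • c : centres Ω Z X0) : Ω) := fun y => by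
    obtain ⟨i, hi, hiy⟩ := exists_inv_lift hQ hK.below hX0 y.2.1
    have hia : (i : G) • a = a := by rw [← img_smul (hQ := hQ) i a1, hiy, y.2.2]
    obtain ⟨x, hxY, hx, hxa, hxi⟩ := hlift i hi hia
    exact ⟨⟨x, mem_memGrp hx hxY⟩, hx, hxa, fun c => by rw [← hiy, img_smul]; exact hxi c (hcM ▸ c.2)⟩
  choose x hxi hxa hxy using hchoice
  let F : InvAt (topGrp hQ X0) a1 → InvAt (topGrp hQ Y0) a2 := fun y =>
    ⟨img hQ Y0 (x y), img_isInv hQ hY0.toIsTop (x := x y) (hxi y), Subtype.ext (hxa y)⟩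
  have hF : Function.Bijective F := by
    refine ⟨fun y y' h => ?_, fun y => ?_⟩
    · have hat : (x y' : G) • g = (x y : G) • g :=
        (smul_of_img_eq (congrArg Subtype.val h) (hcY.symm ▸ hgY)).symm
      refine Subtype.ext (Subtype.ext (Equiv.ext fun c => Subtype.ext ?_))
      show ((y.1 • c : centres Ω Z X0) : Ω) = ((y'.1 • c : centres Ω Z X0) : Ω)
      rw [← hxy y c, ← hxy y' c]
      exact (agree hQ hK.below hT hg hne (hxi y) (hxi y') (hK.invol_mem hQ ha (hxi y) (hxa y))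
        (hK.invol_mem hQ ha (hxi y') (hxa y')) (hxa y) (hxa y') hat (hcM ▸ c.2)).symm
    · obtain ⟨j, hj, hjy⟩ := exists_inv_lift hQ hK.below hY0 y.2.1
      have hja : (j : G) • a = a := by rw [← img_smul (hQ := hQ) j a2, hjy, y.2.2]
      have hjX : (j : G) ∈ X0 := mem_memGrp hj (hK.invol_mem hQ ha hj hja)
      refine ⟨⟨img hQ X0 ⟨j, hjX⟩, img_isInv hQ hX0.toIsTop (x := ⟨j, hjX⟩) hj, Subtype.ext hja⟩, ?_⟩
      refine Subtype.ext (Eq.trans ?_ hjy)
      refine img_eq_of_smul fun c hc => ?_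
      refine agree hQ hK.below hTY hgY hne hj (hxi _) (memGrp_le j.2) (memGrp_le (x _).2) hja (hxa _) ?_ (hcY ▸ hc)
      exact hxy _ ⟨g, hcM.symm ▸ hg⟩
  rw [← qTop_memGrp hQ Y, ← qTop_memGrp hQ M, qTop_eq_invAt hQ hK.below hY0 a2.2,
    qTop_eq_invAt hQ hK.below hX0 a1.2, Nat.card_eq_of_bijective F hF]

/-- S4: the pair of two centres is the fixed pair of a Sylow subgroup. -/
theorem Clique.exact_centres {a b : Ω} (ha : a ∈ centres Ω Z M) (hb : b ∈ centres Ω Z M) (hne : b ≠ a) :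
    ∃ X, Exact (G := G) l a b X := by
  haveI := Fact.mk hK.prime
  haveI := finite_points hQ
  have hT := Clique.top hQ hK
  obtain ⟨u, huM, hu, rfl⟩ := centres_swap hQ ha hb hne.symm
  have hui := hQ.inv u hu
  obtain ⟨g, hug⟩ := exists_fix hQ hu
  have hgM : g ∈ centres Ω Z M := mem_centres huM hu hug
  have hga : g ≠ a := fun e => hne (e ▸ hug)
  have hgb : g ≠ u • a := fun e => hga (by rw [← hug, e, hui.smul_twice])
  obtain ⟨R, hR, -, huR⟩ := exists_swap_maxP hQ hne hu rfl (p := l) (X := ⊥) IsPGroup.of_bot bot_le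
    (mem_normalizer_of_conj fun x hx => by rw [Subgroup.mem_bot.mp hx, mul_one, mul_inv_cancel]; exact one_mem _)
  have haR : a ∈ fixSet Ω R := fun x hx => (mem_two.mp (hR.le hx)).1
  have hbR : u • a ∈ fixSet Ω R := fun x hx => (mem_two.mp (hR.le hx)).2
  have hev := hK.even' hQ
  by_cases hall : ∀ d ∈ fixSet Ω R, d = a ∨ d = u • a
  · refine ⟨R, maxP_top_of_fix hQ hK.ne_two hR hall, fun d => ⟨hall d, ?_⟩⟩
    rintro (rfl | rfl)
    · exact haR
    · exact hbR
  exfalso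
  push Not at hall
  obtain ⟨d, hd, hda, hdb⟩ := hall
  obtain ⟨X, c, hRX, hX, huX, hc, hfix, hin⟩ := exists_climb hQ hK.ne_two hev hu hne hR huR
  have hlt : R < X := by
    refine lt_of_le_of_ne hRX fun e => ?_
    subst e
    rcases (hfix a).mp haR with h1 | h1 <;> rcases (hfix _).mp hbR with h2 | h2 <;>
      rcases (hfix d).mp hd with h3 | h3 <;>
      first | exact hne (h2.trans h1.symm) | exact hda (h3.trans h1.symm) | exact hdb (h3.trans h2.symm)
  -- an element of the normaliser commuting with `u`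
  obtain ⟨x, hxX, hxR, hxn⟩ := exists_mem_normalizer hX.isPGroup hlt
  set j := x * u * x⁻¹ * u with hj
  have hjX : j ∈ X := by
    rw [hj, show x * u * x⁻¹ * u = x * (u * x⁻¹ * u⁻¹) * (u * u) by group, hui.2, mul_one]
    exact X.mul_mem hxX (conj_mem_of_normalizer huX (X.inv_mem hxX))
  have hjinv : u * j * u = j⁻¹ := by
    rw [hj]
    calc u * (x * u * x⁻¹ * u) * u = u * x * u * x⁻¹ * (u * u) := by group
      _ = u * x * u * x⁻¹ := by rw [hui.2, mul_one]
      _ = _ := by simp [mul_inv_rev, hui.inv, mul_assoc]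
  have hjR := hin j hjX hjinv
  obtain ⟨k, hk⟩ := CfsgLib.Involutions.exists_sqrt (odd_orderOf_of_pGroup hK.ne_two hR.isPGroup hjR)
  set r := j ^ k with hr
  have hrR : r ∈ R := R.pow_mem hjR k
  set y := r⁻¹ * x with hy
  have hyX : y ∈ X := X.mul_mem (X.inv_mem (hRX hrR)) hxX
  have hyn : y ∈ Subgroup.normalizer (R : Set G) :=
    Subgroup.mul_mem _ (Subgroup.inv_mem _ (Subgroup.le_normalizer hrR)) hxn
  have hyR : y ∉ R := fun h => hxR (by simpa [hy] using R.mul_mem hrR h)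
  have hyu : u * y * u = y := by
    have h1 : u * r⁻¹ * u = r := by
      have h := conj_pow (i := k) (a := u) (b := j⁻¹)
      rw [hui.inv, inv_pow] at h
      rw [hr, ← h, ← hjinv, show u * (u * j * u) * u = (u * u) * j * (u * u) by group, hui.2, one_mul, mul_one]
    have h2 : u * x * u = j⁻¹ * x := by
      rw [← hjinv, hj, show u * (x * u * x⁻¹ * u) * u * x = u * x * u * (x⁻¹ * (u * u) * x) by group, hui.2]
      group
    calc u * y * u = (u * r⁻¹ * u) * (u * x * u) := by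
          rw [hy, show (u * r⁻¹ * u) * (u * x * u) = u * r⁻¹ * (u * u) * x * u by group, hui.2]; group
      _ = y := by rw [h1, h2, ← hk, mul_inv_rev, hy]; group
  have hyg : y • g = g := fix_of_fixed hQ hu hug hyu
  have hyu' : y * u = u * y := by
    calc y * u = (u * y * u) * u := by rw [hyu]
      _ = u * y := by rw [mul_assoc (u * y), hui.2, mul_one]
  have hya : y • a ≠ a := fun e => hyR (by
    have h2 : y ∈ two a (u • a) := mem_two.mpr ⟨e, by rw [← mul_smul, hyu', mul_smul, e]⟩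
    have := hR.eq_of_le (hX.isPGroup.to_le (sup_le hRX (Subgroup.zpowers_le.mpr hyX)))
      (sup_le hR.le (Subgroup.zpowers_le.mpr h2)) le_sup_left
    exact this ▸ (le_sup_right : Subgroup.zpowers y ≤ _) (Subgroup.mem_zpowers y))
  have hpow : ∀ z ∈ R, ∃ n : ℕ, z ^ l ^ n = 1 := fun z hz => by
    obtain ⟨n, hn⟩ := hR.isPGroup ⟨z, hz⟩
    exact ⟨n, congrArg Subtype.val hn⟩
  have hRM : R ≤ M := hR.le.trans (hK.two_le _ _ ha hb hne.symm)
  set K := fixer G (centres Ω Z M) with hKdef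
  set S := R ⊓ stabilizer G g with hSdef
  have hSK : S ≤ K := fun z hz => mem_fixer.mpr fun c' hc' => by
    obtain ⟨n, hn⟩ := hpow z hz.1
    exact fix_all_of_three hQ hT hK.below hK.prime hK.hq hK.dvd hK.not_dvd (hRM hz.1)
      (odd_orderOf_of_pGroup hK.ne_two hR.isPGroup hz.1) hn ha hb hgM hne hga
      hgb (haR z hz.1) (hbR z hz.1) (mem_stabilizer_iff.mp hz.2) hc'
  have hKD : K ≤ two a (u • a) := fixer_le_two ha hb
  have hS : MaxP l K S := by
    obtain ⟨P, hSP, hP⟩ := exists_maxP (hR.isPGroup.to_le (inf_le_left : S ≤ R)) hSK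
    obtain ⟨P', hPP', hP'⟩ := exists_maxP hP.isPGroup (hP.le.trans hKD)
    obtain ⟨t, ht, htc⟩ := hP'.conj hR
    have htK : t ∈ Subgroup.normalizer (K : Set G) :=
      le_normalizer_fixer hQ hK.chosen (hK.two_le _ _ ha hb hne.symm ht)
    have hle : P.map (MulAut.conj t).toMonoidHom ≤ S := by
      rintro _ ⟨p, hp, rfl⟩
      exact ⟨(htc p).mp (hPP' hp),
        mem_stabilizer_iff.mpr (mem_fixer.mp (conj_mem_of_normalizer htK (hP.le hp)) g hgM)⟩
    have hcard := Subgroup.card_le_of_le hle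
    rw [Subgroup.card_map_of_injective (f := (MulAut.conj t).toMonoidHom) (MulAut.conj t).injective] at hcard
    have heq : S = P := Subgroup.eq_of_le_of_card_ge hSP hcard
    rw [heq]
    exact hP
  by_cases hS1 : S = ⊥
  · have hlK : ¬ l ∣ Nat.card K := fun h => by
      have h1 := hS.card
      rw [hS1, Subgroup.card_bot] at h1
      have := hK.prime.factorization_pos_of_dvd Nat.card_pos.ne' h
      exact absurd h1.symm (Nat.one_lt_pow (by omega) hK.prime.one_lt).ne'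
    have hlO : ∀ c' : Ω, ¬ l ∣ Nat.card (oAt Z c') := fun c' h => by
      obtain ⟨z, hz⟩ := exists_prime_orderOf_dvd_card' (G := oAt Z c') l h
      obtain ⟨a', ha', g', rfl⟩ := hK.exists_centre hQ c'
      have h1 : g'⁻¹ * (z : G) * g' ∈ oAt Z a' := by simpa using conj_oAt hQ g'⁻¹ z.2
      have h2 : g'⁻¹ * (z : G) * g' ∈ K := coreFix_le _ (hK.oAt_le hQ ha' h1)
      refine hlK ?_
      have h3 := Subgroup.orderOf_dvd_natCard K h2
      rwa [show g'⁻¹ * (z : G) * g' = g'⁻¹ * (z : G) * g'⁻¹⁻¹ by rw [inv_inv], CfsgLib.Involutions.orderOf_conj,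
        Subgroup.orderOf_coe, hz] at h3
    obtain ⟨c', hc', w, hw, hwc, hRw⟩ := hK.exists_class hQ hne hR hd hda hdb
    obtain ⟨v, hv, hvc, hcomm⟩ := hK.exists_cent_in_cls hQ hw hwc (hlO c') hR.isPGroup hRw
    have huc : u • c' ≠ c' := fun e => hev u a g R hu hug hne hR huR (eq_of_fix hQ hu e hug ▸ hc')
    -- `R` has an element inverted by `u`
    have hRC : ¬ R ≤ Subgroup.centralizer ({u} : Set G) := fun hle => by
      have h1 := (fullConj_of_maxP hQ hu hne hR huR).2.2 g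
      rw [show (fun x => x * u * x⁻¹) '' (R : Set G) = {u} from ?_, Set.ncard_singleton] at h1
      · have := hK.factorization_memAt hQ hu hug
        exact absurd h1.symm (Nat.one_lt_pow (by omega) hK.prime.one_lt).ne'
      · refine Set.Subset.antisymm ?_ (Set.singleton_subset_iff.mpr ⟨1, R.one_mem, by group⟩)
        rintro _ ⟨z, hz, rfl⟩
        show z * u * z⁻¹ = u
        rw [Subgroup.mem_centralizer_singleton_iff.mp (hle hz), mul_inv_cancel_right]
    obtain ⟨z, hzR, hzu⟩ := SetLike.not_le_iff_exists.mp hRC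
    set i := z * u * z⁻¹ * u with hi
    have hiR : i ∈ R := by
      rw [hi, show z * u * z⁻¹ * u = z * (u * z⁻¹ * u⁻¹) * (u * u) by group, hui.2, mul_one]
      exact R.mul_mem hzR (conj_mem_of_normalizer huR (R.inv_mem hzR))
    have hiinv : u * i * u = i⁻¹ := by
      rw [hi]
      calc u * (z * u * z⁻¹ * u) * u = u * z * u * z⁻¹ * (u * u) := by group
        _ = u * z * u * z⁻¹ := by rw [hui.2, mul_one]
        _ = _ := by simp [mul_inv_rev, hui.inv, mul_assoc]
    have hi1 := inverted_commute hQ hu hv (odd_orderOf_of_pGroup hK.ne_two hR.isPGroup hiR) hiinv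
      (hcomm i hiR) hvc huc
    refine hzu (Subgroup.mem_centralizer_singleton_iff.mpr ?_)
    calc z * u = z * u * z⁻¹ * u * (u⁻¹ * z) := by group
      _ = u * z := by rw [← hi, hi1, one_mul, hui.inv]
  · have hug' : u ∈ stabilizer G g := mem_stabilizer_iff.mpr hug
    have hyg' : y ∈ stabilizer G g := mem_stabilizer_iff.mpr hyg
    have huS : u ∈ Subgroup.normalizer (S : Set G) := mem_normalizer_of_conj fun z hz =>
      ⟨conj_mem_of_normalizer huR hz.1,
        (Subgroup.mul_mem _ (Subgroup.mul_mem _ hug' hz.2) (Subgroup.inv_mem _ hug') : u * z * u⁻¹ ∈ stabilizer G g)⟩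
    have hyS : y ∈ Subgroup.normalizer (S : Set G) := mem_normalizer_of_conj fun z hz =>
      ⟨conj_mem_of_normalizer hyn hz.1,
        (Subgroup.mul_mem _ (Subgroup.mul_mem _ hyg' hz.2) (Subgroup.inv_mem _ hyg') : y * z * y⁻¹ ∈ stabilizer G g)⟩
    obtain ⟨hT', hq, haY⟩ := hK.top_normalizer hQ ha hgM hga hS hS1 hu hug huS
    obtain ⟨n, hn⟩ := hX.isPGroup ⟨y, hyX⟩
    exact hya (fix_all_of_commute hQ hT' hK.below hK.prime (hq ▸ hK.hq) (hq ▸ hK.dvd) hK.not_dvd hyS
      (odd_orderOf_of_pGroup hK.ne_two hX.isPGroup hyX)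
      (congrArg Subtype.val hn : y ^ l ^ n = 1) huS hu (fun c' _ => by rw [← mul_smul, hyu', mul_smul]) haY)

/-- Exact pairs are conjugate. -/
theorem Clique.exact_conj {a b c d : Ω} (hne : b ≠ a) {X X' : Subgroup G} (h : Exact l a b X)
    (h' : Exact l c d X') : ∃ g : G, g • a = c ∧ g • b = d := by
  haveI := Fact.mk hK.prime
  haveI := pretransitive hQ
  obtain ⟨g, rfl⟩ := exists_smul_eq G a c
  have hg := h.conj g
  obtain ⟨k, hk, hk'⟩ := top_pairs_conj hQ
    (show g • a ≠ g • b from fun e => hne (smul_left_cancel g e).symm) hg.1 h'.1 hg.2 h'.2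
  exact ⟨k * g, by rw [mul_smul, hk], by rw [mul_smul, hk']⟩

/-- S5: every pair is the fixed pair of a Sylow subgroup. -/
theorem Clique.exact_all {c d : Ω} (hne : d ≠ c) : ∃ X, Exact (G := G) l c d X := by
  haveI := Fact.mk hK.prime
  haveI := finite_points hQ
  have hT := Clique.top hQ hK
  have hex : ∀ c d : Ω, ∀ R : Subgroup G, MaxP l (two c d) R → (∀ x ∈ fixSet Ω R, x = c ∨ x = d) →
      Exact l c d R := fun c d R hR hall => by
    refine ⟨maxP_top_of_fix hQ hK.ne_two hR hall, fun e => ⟨hall e, ?_⟩⟩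
    rintro (rfl | rfl)
    · exact fun x hx => (mem_two.mp (hR.le hx)).1
    · exact fun x hx => (mem_two.mp (hR.le hx)).2
  set Bad : Set (Subgroup G) := {R | ∃ d e x : Ω, d ≠ e ∧ x ≠ d ∧ x ≠ e ∧ MaxP l (two d e) R ∧ x ∈ fixSet Ω R}
  by_cases hBad : Bad.Nonempty
  swap
  · obtain ⟨R, -, hR⟩ := exists_maxP (p := l) (K := (two c d : Subgroup G)) (X := ⊥) IsPGroup.of_bot bot_le
    refine ⟨R, hex c d R hR fun x hx => ?_⟩
    by_contra h
    push Not at h
    exact hBad ⟨R, c, d, x, hne.symm, h.1, h.2, hR, hx⟩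
  exfalso
  obtain ⟨R, ⟨d, d', x, hde, hxd, hxe, hR, hx⟩, hmax⟩ :=
    Set.exists_max_image Bad (fun R => Nat.card R) (Set.toFinite _) hBad
  have hdR : d ∈ fixSet Ω R := fun z hz => (mem_two.mp (hR.le hz)).1
  obtain ⟨c, hc, w, hw, hwc, hRw⟩ := hK.exists_class hQ hde.symm hR hx hxd hxe
  have hcd : c ≠ d := fun e' => hK.no_class hQ hde hR hw (e' ▸ hwc) (e' ▸ hRw)
  obtain ⟨R1, hRR1, hR1⟩ := exists_maxP hR.isPGroup
    (show R ≤ two c d from fun z hz => mem_two.mpr ⟨hc z hz, hdR z hz⟩)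
  by_cases hall : ∀ z ∈ fixSet Ω R1, z = c ∨ z = d
  swap
  · push Not at hall
    obtain ⟨z, hz, hzc, hzd⟩ := hall
    have heq := Subgroup.eq_of_le_of_card_ge hRR1 (hmax R1 ⟨c, d, z, hcd, hzc, hzd, hR1, hz⟩)
    exact hK.no_class hQ hcd (heq ▸ hR1) hw hwc hRw
  obtain ⟨a, b, ha, hb, hba⟩ := hT.two
  obtain ⟨Xab, hab⟩ := hK.exact_centres hQ ha hb hba
  obtain ⟨g, rfl, rfl⟩ := hK.exact_conj hQ hba hab (hex c d R1 hR1 hall)
  obtain ⟨v, hv, hvd⟩ := hQ.exists_at (g • b)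
  refine hK.no_class hQ hde hR hv hvd fun t ht => ⟨hdR t ht, ?_⟩
  set t' := g⁻¹ * t * g with ht'
  set w' := g⁻¹ * w * g with hw'
  set v' := g⁻¹ * v * g with hv'
  have hta : t' • a = a := by rw [ht', mul_smul, mul_smul, hc t ht, inv_smul_smul]
  have htb : t' • b = b := by rw [ht', mul_smul, mul_smul, hdR t ht, inv_smul_smul]
  have htM : t' ∈ M := hK.two_le a b ha hb hba.symm (mem_two.mpr ⟨hta, htb⟩)
  have hwZ : w' ∈ Z := by simpa [hw'] using hQ.conj w hw g⁻¹
  have hwM : w' ∈ M := hK.invol_mem hQ ha hwZ (by rw [hw', mul_smul, mul_smul, hwc, inv_smul_smul])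
  have hvZ : v' ∈ Z := by simpa [hv'] using hQ.conj v hv g⁻¹
  have hvb : v' • b = b := by rw [hv', mul_smul, mul_smul, hvd, inv_smul_smul]
  have hvM : v' ∈ M := hK.invol_mem hQ hb hvZ hvb
  have ho : t' * w' * t'⁻¹ * w'⁻¹ ∈ oAt Z a := by
    have h := conj_oAt hQ g⁻¹ (hRw ht).2
    rwa [inv_smul_smul, show g⁻¹ * (t * w * t⁻¹ * w⁻¹) * g⁻¹⁻¹ = t' * w' * t'⁻¹ * w'⁻¹ by
      rw [ht', hw']; group] at h
  obtain ⟨n, hn⟩ := hR.isPGroup ⟨t, ht⟩
  have hn' : t' ^ l ^ n = 1 := by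
    have h1 : t ^ l ^ n = 1 := congrArg Subtype.val hn
    rw [ht', show g⁻¹ * t * g = g⁻¹ * t * g⁻¹⁻¹ by rw [inv_inv], conj_pow, h1, mul_one, mul_inv_cancel]
  have htodd : Odd (orderOf t') := by
    rw [ht', show g⁻¹ * t * g = g⁻¹ * t * g⁻¹⁻¹ by rw [inv_inv], CfsgLib.Involutions.orderOf_conj]
    exact odd_orderOf_of_pGroup hK.ne_two hR.isPGroup ht
  have htK : ∀ c' ∈ centres Ω Z M, t' • c' = c' := fun c' hc' => by
    refine fix_all_of_commute hQ hT hK.below hK.prime hK.hq hK.dvd hK.not_dvd htM htodd hn' hwM hwZ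
      (fun x hx => ?_) hc'
    have h1 := hK.fix_oAt hQ ha ho (centres_smul hQ hwM (centres_smul hQ htM hx))
    rwa [← mul_smul, ← mul_smul, show t' * w' * t'⁻¹ * w'⁻¹ * w' * t' = t' * w' by group, mul_smul] at h1
  have hvi := hQ.inv v' hvZ
  have hu' : t' * v' * t'⁻¹ * v'⁻¹ ∈ uAt Z b := by
    rw [hvi.inv]
    refine Subgroup.mul_mem _ (mem_uAt (hQ.conj v' hvZ t') ?_) (mem_uAt hvZ hvb)
    rw [mul_smul, mul_smul, inv_smul_eq_iff.mpr htb.symm, hvb, htb]
  have ho' : t' * v' * t'⁻¹ * v'⁻¹ ∈ oAt Z b := (hK.mem_oAt_iff hQ hb).mpr ⟨hu', fun c' hc' => by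
    have hv1 := centres_smul hQ (M.inv_mem hvM) hc'
    have ht1 : t'⁻¹ • v'⁻¹ • c' = v'⁻¹ • c' := inv_smul_eq_iff.mpr (htK _ hv1).symm
    rw [mul_smul, mul_smul, mul_smul, ht1, smul_inv_smul, htK c' hc']⟩
  have h := conj_oAt hQ g ho'
  rwa [show g * (t' * v' * t'⁻¹ * v'⁻¹) * g⁻¹ = t * v * t⁻¹ * v⁻¹ by rw [ht', hv']; group] at h

/-- The odd parts are trivial. -/
theorem Clique.oAt_eq_one {a : Ω} (ha : a ∈ centres Ω Z M) {x : G} (hx : x ∈ oAt Z a) : x = 1 := by
  obtain ⟨b, hb, hba⟩ := (Clique.top hQ hK).exists_ne hQ a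
  obtain ⟨X, hX⟩ := hK.exact_centres hQ ha hb hba
  refine eq_of_smul_eq_smul (α := Ω) fun d => ?_
  rw [one_smul]
  rcases eq_or_ne d a with rfl | hda
  · exact smul_of_mem_oAt hx
  obtain ⟨X', hX'⟩ := hK.exact_all hQ hda
  obtain ⟨g, hga, rfl⟩ := hK.exact_conj hQ hba hX hX'
  have h := hK.fix_oAt hQ ha (conj_oAt_back hQ hga hx) hb
  rwa [mul_smul, mul_smul, inv_smul_eq_iff] at h

omit hK in
/-- Q5: pair stabilisers of two centres of the chosen top do not all lie in it. -/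
theorem clique_end (hB : Below.{u} (Nat.card G)) {e : ℕ} (hM : MaxBad G Ω Z e) (he : 1 < e)
    {M : Subgroup G} (hCh : Chosen Ω hQ e M)
    (hD : ∀ a b : Ω, a ∈ centres Ω Z M → b ∈ centres Ω Z M → a ≠ b → two a b ≤ M) : False := by
  obtain ⟨f, hf2, hf⟩ := qTop_two_pow hQ hCh.carries.top hB
  obtain ⟨l, hl, hl2, hlq, hlf⟩ := CfsgLib.Bender.B1.exists_prime_pow_sub_one hf2
  have hK : Clique Ω hQ M e l f := ⟨hB, hM, he, hCh, hD, hl, hl2, hf, hf ▸ hlq, hlf⟩
  obtain ⟨a, b, ha, hb, hne⟩ := hCh.carries.top.two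
  obtain ⟨i, hiM, hi, hia⟩ := ha
  have hsub : kerBad Ω Z M i ⊆ {1} := fun x hx =>
    Set.mem_singleton_iff.mpr (hK.oAt_eq_one hQ ⟨i, hiM, hi, hia⟩ (mem_oAt_of_inverted hQ hi hia
      (hx.2.2.2 a ⟨i, hiM, hi, hia⟩) hx.2.1 hx.2.2.1))
  have h1 := (hCh.carries.ker i hiM hi).trans (Set.ncard_le_ncard hsub)
  rw [Set.ncard_singleton] at h1
  omega

end CfsgLib.Bender.Q
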