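import Cfsg.Agent.Lib.Bender.Q.B1.CircleEnd
import Cfsg.Agent.Lib.Bender.Q.B1.Climb

/-!
The group of the members at a point when the pair stabilisers of two centres of the chosen top lie in it, its odd
part, and the classes of members modulo it.

Blueprint: `blueprint/bender/Q_B1.md` 5.
-/

set_option autoImplicit false
set_option linter.unusedSectionVars false
set_option linter.style.haveILetI false
set_option linter.unusedVariables false

namespace CfsgLib.Bender.Q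

open MulAction Cfsg
open CfsgLib.Bender.TwoClosed (IsInv InvAt two mem_two smul_conj odd_orderOf odd_card_of_forall eq_one_of_two_odd MaxP
  exists_maxP maxP_of_card mem_of_sq_mem conj_mem_of_normalizer)
open CfsgLib.Bender.B1 (fixer mem_fixer card_conj_image)

universe u

variable {G : Type u} {Ω : Type u} [Group G] [MulAction G Ω] {Z : Set G}

/-- The group generated by the members at `c`. -/
def uAt (Z : Set G) (c : Ω) : Subgroup G := Subgroup.closure {x | x ∈ Z ∧ x • c = c}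

/-- The group generated by the elements of odd order of `uAt Z c`. -/
def oAt (Z : Set G) (c : Ω) : Subgroup G := Subgroup.closure {x | x ∈ uAt Z c ∧ Odd (orderOf x)}

theorem mem_uAt {x : G} {c : Ω} (hx : x ∈ Z) (hc : x • c = c) : x ∈ uAt Z c :=
  Subgroup.subset_closure ⟨hx, hc⟩

theorem oAt_le_uAt (c : Ω) : oAt Z c ≤ uAt Z c := (Subgroup.closure_le _).mpr fun _ h => h.1

theorem smul_of_mem_uAt {x : G} {c : Ω} (hx : x ∈ uAt Z c) : x • c = c :=
  mem_stabilizer_iff.mp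
    ((Subgroup.closure_le (stabilizer G c)).mpr (fun _ h => mem_stabilizer_iff.mpr h.2) hx)

theorem smul_of_mem_oAt {x : G} {c : Ω} (hx : x ∈ oAt Z c) : x • c = c := smul_of_mem_uAt (oAt_le_uAt c hx)

theorem mem_oAt {x : G} {c : Ω} (hx : x ∈ uAt Z c) (hodd : Odd (orderOf x)) : x ∈ oAt Z c :=
  Subgroup.subset_closure ⟨hx, hodd⟩

/-- The class of a member modulo the odd part at its point. -/
def cls (Z : Set G) (c : Ω) (w : G) : Set G := {j | j ∈ Z ∧ j • c = c ∧ w * j ∈ oAt Z c}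

variable (hQ : Hyp G Ω Z)
include hQ

theorem conj_uAt (g : G) {x : G} {c : Ω} (hx : x ∈ uAt Z c) : g * x * g⁻¹ ∈ uAt Z (g • c) := by
  have hle : uAt Z c ≤ (uAt Z (g • c)).comap (MulAut.conj g).toMonoidHom :=
    (Subgroup.closure_le _).mpr fun y hy => mem_uAt (hQ.conj y hy.1 g) (smul_conj hy.2)
  simpa using hle hx

theorem conj_oAt (g : G) {x : G} {c : Ω} (hx : x ∈ oAt Z c) : g * x * g⁻¹ ∈ oAt Z (g • c) := by
  have hle : oAt Z c ≤ (oAt Z (g • c)).comap (MulAut.conj g).toMonoidHom :=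
    (Subgroup.closure_le _).mpr fun y hy => mem_oAt (conj_uAt hQ g hy.1)
      (show Odd (orderOf (g * y * g⁻¹)) by rw [CfsgLib.Involutions.orderOf_conj]; exact hy.2)
  simpa using hle hx

theorem conj_oAt_self {g x : G} {c : Ω} (hg : g • c = c) (hx : x ∈ oAt Z c) : g * x * g⁻¹ ∈ oAt Z c := by
  have := conj_oAt hQ g hx
  rwa [hg] at this

theorem conj_oAt_back {g x : G} {c : Ω} (hg : g • c = c) (hx : x ∈ oAt Z c) : g⁻¹ * x * g ∈ oAt Z c := by
  have := conj_oAt_self hQ (g := g⁻¹) (inv_smul_eq_iff.mpr hg.symm) hx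
  rwa [inv_inv] at this

/-- An odd order element inverted by a member at `c` and fixing `c` lies in the odd part at `c`. -/
theorem mem_oAt_of_inverted [Finite G] {z x : G} {c : Ω} (hz : z ∈ Z) (hzc : z • c = c) (hxc : x • c = c)
    (hinv : z * x * z = x⁻¹) (hodd : Odd (orderOf x)) : x ∈ oAt Z c := by
  refine mem_oAt (mem_of_sq_mem hodd ?_) hodd
  have hzi := hQ.inv z hz
  have h1 : z * x⁻¹ * z = x := by
    rw [← hinv, show z * (z * x * z) * z = (z * z) * x * (z * z) by group, hzi.2, one_mul, mul_one]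
  have h2 : x * z * x⁻¹ * z = x * x := by
    calc x * z * x⁻¹ * z = x * (z * x⁻¹ * z) := by group
      _ = x * x := by rw [h1]
  rw [← h2]
  refine (uAt Z c).mul_mem (mem_uAt (hQ.conj z hz x) ?_) (mem_uAt hz hzc)
  rw [mul_smul, mul_smul, inv_smul_eq_iff.mpr hxc.symm, hzc, hxc]

omit hQ in
/-- The elements fixing `c` which fix the class of `w` modulo the odd part at `c`. -/
def stabCls (hQ : Hyp G Ω Z) (c : Ω) (w : G) : Subgroup G where
  carrier := {x | x • c = c ∧ x * w * x⁻¹ * w⁻¹ ∈ oAt Z c}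
  one_mem' := ⟨one_smul _ _, by simp⟩
  mul_mem' := fun {x y} hx hy => ⟨by rw [mul_smul, hy.1, hx.1], by
    have h := Subgroup.mul_mem _ (conj_oAt_self hQ hx.1 hy.2) hx.2
    rwa [show x * (y * w * y⁻¹ * w⁻¹) * x⁻¹ * (x * w * x⁻¹ * w⁻¹) = x * y * w * (x * y)⁻¹ * w⁻¹ by group] at h⟩
  inv_mem' := fun {x} hx => ⟨inv_smul_eq_iff.mpr hx.1.symm, by
    have h := conj_oAt_back hQ hx.1 (Subgroup.inv_mem _ hx.2)
    rwa [show x⁻¹ * (x * w * x⁻¹ * w⁻¹)⁻¹ * x = x⁻¹ * w * x⁻¹⁻¹ * w⁻¹ by group] at h⟩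

theorem oAt_le_stabCls {c : Ω} {w : G} (hwc : w • c = c) : oAt Z c ≤ stabCls hQ c w := fun x hx =>
  ⟨smul_of_mem_oAt hx, by
    rw [show x * w * x⁻¹ * w⁻¹ = x * (w * x⁻¹ * w⁻¹) by group]
    exact Subgroup.mul_mem _ hx (conj_oAt_self hQ hwc (Subgroup.inv_mem _ hx))⟩

theorem conj_mem_cls {c : Ω} {w x : G} (hw : w ∈ Z) (hwc : w • c = c) (hx : x ∈ stabCls hQ c w) :
    x * w * x⁻¹ ∈ cls Z c w := by
  refine ⟨hQ.conj w hw x, ?_, ?_⟩
  · rw [mul_smul, mul_smul, inv_smul_eq_iff.mpr hx.1.symm, hwc, hx.1]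
  · have h := conj_oAt_self hQ hwc (hx.2 : x * w * x⁻¹ * w⁻¹ ∈ oAt Z c)
    rwa [show w * (x * w * x⁻¹ * w⁻¹) * w⁻¹ = w * (x * w * x⁻¹) * (w * w)⁻¹ by group, (hQ.inv w hw).2, inv_one,
      mul_one] at h

theorem mem_stabCls_of_cls {c : Ω} {w x : G} (hw : w ∈ Z) (hwc : w • c = c) (hxc : x • c = c)
    (h : x * w * x⁻¹ ∈ cls Z c w) : x ∈ stabCls hQ c w := by
  refine ⟨hxc, ?_⟩
  have h1 := conj_oAt_back hQ hwc h.2.2
  rwa [show w⁻¹ * (w * (x * w * x⁻¹)) * w = x * w * x⁻¹ * w by group,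
    show x * w * x⁻¹ * w = x * w * x⁻¹ * w⁻¹ by rw [(hQ.inv w hw).inv]] at h1

theorem card_cls_conj {c c' : Ω} {w w' g : G} (hc : g • c = c') (he : g * w * g⁻¹ = w') :
    (cls Z c' w').ncard = (cls Z c w).ncard := by
  subst hc he
  rw [show cls Z (g • c) (g * w * g⁻¹) = (fun j => g * j * g⁻¹) '' cls Z c w from ?_,
    Set.ncard_image_of_injective _ fun a b h => mul_left_cancel (mul_right_cancel h)]
  ext j
  constructor
  · rintro ⟨hj, hjc, ho⟩
    refine ⟨g⁻¹ * j * g, ⟨by simpa using hQ.conj j hj g⁻¹, by rw [mul_smul, mul_smul, hjc, inv_smul_smul], ?_⟩,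
      by group⟩
    have h := conj_oAt hQ g⁻¹ ho
    rwa [inv_smul_smul, show g⁻¹ * (g * w * g⁻¹ * j) * g⁻¹⁻¹ = w * (g⁻¹ * j * g) by group] at h
  · rintro ⟨i, ⟨hi, hic, ho⟩, rfl⟩
    refine ⟨hQ.conj i hi g, smul_conj hic, ?_⟩
    rw [show g * w * g⁻¹ * (g * i * g⁻¹) = g * (w * i) * g⁻¹ by group]
    exact conj_oAt hQ g ho

omit hQ in
/-- The facts about the chosen top used in the clique argument. -/
structure Clique [Finite G] (Ω : Type u) [MulAction G Ω] {Z : Set G} (hQ : Hyp G Ω Z) (M : Subgroup G) (e l f : ℕ) :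
    Prop where
  below : Below.{u} (Nat.card G)
  max : MaxBad G Ω Z e
  one_lt : 1 < e
  chosen : Chosen Ω hQ e M
  two_le : ∀ a b : Ω, a ∈ centres Ω Z M → b ∈ centres Ω Z M → a ≠ b → two a b ≤ M
  prime : l.Prime
  ne_two : l ≠ 2
  hq : qTop hQ M = 2 ^ f
  dvd : l ∣ qTop hQ M - 1
  not_dvd : ¬ l ∣ f

variable [Finite G] [FaithfulSMul G Ω] {M : Subgroup G} {e l f : ℕ} (hK : Clique Ω hQ M e l f)
include hK

omit [FaithfulSMul G Ω] in
theorem Clique.top : IsTop Ω Z M := hK.chosen.carries.top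

theorem Clique.exists_centre (c : Ω) : ∃ a ∈ centres Ω Z M, ∃ g : G, g • a = c := by
  obtain ⟨a, -, ha, -, -⟩ := hK.top.two
  haveI := pretransitive hQ
  exact ⟨a, ha, exists_smul_eq G a c⟩

theorem Clique.invol_mem {a : Ω} (ha : a ∈ centres Ω Z M) {i : G} (hi : i ∈ Z) (hia : i • a = a) : i ∈ M := by
  obtain ⟨v, hvM, -, -, hv, hva, -⟩ := four_at hQ hK.top ha
  obtain ⟨b, hb, hne⟩ := hK.top.exists_ne hQ a
  obtain ⟨g, hg, rfl⟩ := exists_conj_oddRad hQ hv hva hi hia hne.symm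
  have hgM := hK.two_le a b ha hb hne.symm (oddRad_le _ hg)
  exact M.mul_mem (M.mul_mem hgM hvM) (M.inv_mem hgM)

theorem Clique.uAt_le {a : Ω} (ha : a ∈ centres Ω Z M) : uAt Z a ≤ M :=
  (Subgroup.closure_le _).mpr fun _ h => hK.invol_mem hQ ha h.1 h.2

/-- An element of the group of the members at a centre is one of them, or one, modulo the odd core of the fixer. -/
theorem Clique.uAt_decomp {a : Ω} (ha : a ∈ centres Ω Z M) {x : G} (hx : x ∈ uAt Z a) :
    ∃ i, (i = 1 ∨ i ∈ membersAt Z M a) ∧ ∃ k ∈ coreFix G (centres Ω Z M), x = i * k :=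
  mem_members_sup hQ hK.below hK.max hK.one_lt hK.chosen ha le_rfl
    (coreFix_le_self hQ hK.below hK.one_lt hK.chosen) (fun y hy => mem_fixer.mp (coreFix_le _ hy) a ha)
    (Subgroup.mem_sup_left ((Subgroup.closure_le _).mpr
      (fun y hy => Subgroup.subset_closure
        (show y ∈ membersAt Z M a from ⟨hK.invol_mem hQ ha hy.1 hy.2, hy.1, hy.2⟩)) hx))

theorem Clique.oAt_le {a : Ω} (ha : a ∈ centres Ω Z M) : oAt Z a ≤ coreFix G (centres Ω Z M) :=
  (Subgroup.closure_le _).mpr fun x hx => by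
    set Ko := coreFix G (centres Ω Z M)
    obtain ⟨i, hi | hi, k, hk, rfl⟩ := hK.uAt_decomp hQ ha hx.1
    · simpa [hi] using hk
    · refine mem_of_sq_mem hx.2 ?_
      have h := Ko.mul_mem (conj_mem_of_normalizer (le_normalizer_coreFix hQ hK.chosen hi.1) hk) hk
      rwa [(hQ.inv i hi.2.1).inv, show i * k * i * k = i * k * (i * k) by group] at h

theorem Clique.fix_oAt {a : Ω} (ha : a ∈ centres Ω Z M) {x : G} (hx : x ∈ oAt Z a) {c : Ω}
    (hc : c ∈ centres Ω Z M) : x • c = c :=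
  mem_fixer.mp (coreFix_le _ (hK.oAt_le hQ ha hx)) c hc

theorem Clique.mem_oAt_iff {a : Ω} (ha : a ∈ centres Ω Z M) {x : G} :
    x ∈ oAt Z a ↔ x ∈ uAt Z a ∧ ∀ c ∈ centres Ω Z M, x • c = c := by
  refine ⟨fun h => ⟨oAt_le_uAt a h, fun _ hc => hK.fix_oAt hQ ha h hc⟩, fun h => mem_oAt h.1 ?_⟩
  obtain ⟨i, hi | hi, k, hk, rfl⟩ := hK.uAt_decomp hQ ha h.1
  · rw [hi, one_mul]
    exact odd_orderOf_oddRad hk
  · obtain ⟨b, hb, hne⟩ := hK.top.exists_ne hQ a
    refine absurd (eq_of_fix hQ hi.2.1 (c := b) (d := a) ?_ hi.2.2) hne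
    have h1 := h.2 b hb
    rwa [mul_smul, mem_fixer.mp (coreFix_le _ hk) b hb] at h1

theorem Clique.odd_oAt (c : Ω) : Odd (Nat.card (oAt Z c)) := by
  refine odd_card_of_forall fun x hx hxi => ?_
  obtain ⟨a, ha, g, rfl⟩ := hK.exists_centre hQ c
  have hy : g⁻¹ * x * g ∈ oAt Z a := by simpa using conj_oAt hQ g⁻¹ hx
  have hyi : IsInv (g⁻¹ * x * g) := by simpa using hxi.conj g⁻¹
  exact hyi.1 (eq_one_of_two_odd (by rw [pow_two, hyi.2]) (odd_orderOf_oddRad (hK.oAt_le hQ ha hy)))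

/-- The conjugates of a member at `c` under the odd part are its class. -/
theorem Clique.conj_image_oAt {c : Ω} {w : G} (hw : w ∈ Z) (hwc : w • c = c) {E : Subgroup G}
    (hOE : oAt Z c ≤ E) (hEs : E ≤ stabCls hQ c w) :
    (fun x => x * w * x⁻¹) '' (E : Set G) = cls Z c w := by
  refine Set.Subset.antisymm ?_ fun j hj => ?_
  · rintro _ ⟨x, hx, rfl⟩
    exact conj_mem_cls hQ hw hwc (hEs hx)
  · obtain ⟨hjZ, hjc, ho⟩ := hj
    have hwi := hQ.inv w hw
    have hji := hQ.inv j hjZ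
    obtain ⟨k, hk⟩ := CfsgLib.Involutions.exists_sqrt (odd_orderOf (hK.odd_oAt hQ c) ho)
    set r := (w * j) ^ k
    have hinv : w * r * w = r⁻¹ := by
      have h := conj_pow (i := k) (a := w) (b := w * j)
      rw [hwi.inv] at h
      rw [← h, ← inv_pow, mul_inv_rev, hwi.inv, hji.inv, ← mul_assoc, hwi.2, one_mul]
    refine ⟨r⁻¹, hOE (Subgroup.inv_mem _ (Subgroup.pow_mem _ ho k)), ?_⟩
    calc r⁻¹ * w * r⁻¹⁻¹ = (w * r * w) * w * r := by rw [hinv]; group
      _ = w * r * (w * w) * r := by group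
      _ = w * (r * r) := by rw [hwi.2]; group
      _ = j := by rw [hk, ← mul_assoc, hwi.2, one_mul]

theorem Clique.card_cls_mul {c : Ω} {w : G} (hw : w ∈ Z) (hwc : w • c = c) :
    (cls Z c w).ncard * Nat.card ↥(oAt Z c ⊓ Subgroup.centralizer ({w} : Set G)) = Nat.card (oAt Z c) := by
  rw [← hK.conj_image_oAt hQ hw hwc le_rfl (oAt_le_stabCls hQ hwc)]
  exact card_conj_image _ w

/-- The classes at every point: there are `q - 1` of the same size. -/
theorem Clique.card_memAt {c : Ω} {w : G} (hw : w ∈ Z) (hwc : w • c = c) :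
    Nat.card (MemAt Z c) = (qTop hQ M - 1) * (cls Z c w).ncard := by
  obtain ⟨a, ha, g, rfl⟩ := hK.exists_centre hQ c
  set w₀ := g⁻¹ * w * g with hw₀
  have hw₀Z : w₀ ∈ Z := by simpa using hQ.conj w hw g⁻¹
  have hw₀a : w₀ • a = a := by rw [hw₀, mul_smul, mul_smul, hwc, inv_smul_smul]
  rw [card_memAt_eq hQ (g • a) a, card_cls_conj hQ (w := w₀) rfl (by rw [hw₀]; group)]
  set X := memGrp Z M
  have hT := isTopOdd_memGrp hK.top
  have hcen : centres Ω Z X = centres Ω Z M := centres_memGrp M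
  set a' : centres Ω Z X := ⟨a, hcen.symm ▸ ha⟩
  have hmemX : ∀ i : MemAt Z a, (i : G) ∈ X := fun i => mem_memGrp i.2.1 (hK.invol_mem hQ ha i.2.1 i.2.2)
  let φ : MemAt Z a → InvAt (topGrp hQ X) a' := fun i =>
    ⟨img hQ X ⟨i, hmemX i⟩, img_isInv hQ hT.toIsTop (x := ⟨i, hmemX i⟩) i.2.1, Subtype.ext i.2.2⟩
  have hfib : ∀ y, Nat.card {i : MemAt Z a // φ i = y} = (cls Z a w₀).ncard := by
    intro y
    obtain ⟨i, hi, hiy⟩ := exists_inv_lift hQ hK.below hT y.2.1
    have hia : (i : G) • a = a := by rw [← img_smul (hQ := hQ) i a', hiy, y.2.2]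
    obtain ⟨b, hb, hne⟩ := hK.top.exists_ne hQ a
    obtain ⟨h, hh, hhe⟩ := exists_conj_oddRad hQ hw₀Z hw₀a hi hia hne.symm
    rw [← card_cls_conj hQ (mem_two.mp (oddRad_le _ hh)).1 hhe, ← Nat.card_coe_set_eq]
    have key : ∀ j : G, ∀ hj : j ∈ Z, ∀ hja : j • a = a, φ ⟨j, hj, hja⟩ = y ↔ (i : G) * j ∈ oAt Z a := by
      intro j hj hja
      constructor
      · intro e
        have e' : img hQ X ⟨j, hmemX ⟨j, hj, hja⟩⟩ = img hQ X i := (congrArg Subtype.val e).trans hiy.symm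
        refine (hK.mem_oAt_iff hQ ha).mpr
          ⟨Subgroup.mul_mem _ (mem_uAt hi hia) (mem_uAt hj hja), fun c hc => ?_⟩
        have h1 : j • c = (i : G) • c := smul_of_img_eq e' (hcen.symm ▸ hc)
        rw [mul_smul, h1]
        exact (hQ.inv _ hi).smul_twice c
      · intro ho
        refine Subtype.ext (Eq.trans ?_ hiy)
        refine img_eq_of_smul fun c hc => ?_
        have h1 := hK.fix_oAt hQ ha ho (hcen ▸ hc)
        rw [mul_smul] at h1
        calc j • c = (i : G) • (i : G) • j • c := ((hQ.inv _ hi).smul_twice _).symm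
          _ = (i : G) • c := by rw [h1]
    exact Nat.card_congr
      { toFun := fun z => ⟨z.1.1, z.1.2.1, z.1.2.2, (key _ z.1.2.1 z.1.2.2).mp z.2⟩
        invFun := fun z => ⟨⟨z.1, z.2.1, z.2.2.1⟩, (key _ z.2.1 z.2.2.1).mpr z.2.2.2⟩
        left_inv := fun z => rfl
        right_inv := fun z => rfl }
  have hq1 : qTop hQ M = Nat.card (InvAt (topGrp hQ X) a') + 1 := by
    rw [← qTop_memGrp hQ M, qTop_eq_invAt hQ hK.below hT a'.2]
  classical
  haveI := Fintype.ofFinite (InvAt (topGrp hQ X) a')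
  rw [hq1, Nat.add_sub_cancel, ← Nat.card_congr (Equiv.sigmaFiberEquiv φ), Nat.card_sigma,
    Finset.sum_congr rfl (fun y _ => hfib y), Finset.sum_const, Finset.card_univ, smul_eq_mul,
    ← Nat.card_eq_fintype_card]

theorem Clique.factorization_memAt {c : Ω} {w : G} (hw : w ∈ Z) (hwc : w • c = c) :
    (cls Z c w).ncard.factorization l < (Nat.card (MemAt Z c)).factorization l := by
  have hpos := card_memAt_ne_zero hQ c
  rw [hK.card_memAt hQ hw hwc] at hpos ⊢
  obtain ⟨h1, h2⟩ := mul_ne_zero_iff.mp hpos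
  rw [Nat.factorization_mul h1 h2, Finsupp.add_apply]
  have := hK.prime.factorization_pos_of_dvd h1 hK.dvd
  omega

/-- A Sylow subgroup of a pair stabiliser fixes no class at either point. -/
theorem Clique.no_class {c d : Ω} (hne : d ≠ c) {R : Subgroup G} (hR : MaxP l (two d c) R) {w : G}
    (hw : w ∈ Z) (hwd : w • d = d) : ¬ R ≤ stabCls hQ d w := by
  intro hle
  haveI := Fact.mk hK.prime
  set D : Subgroup G := two d c
  set C : Subgroup G := Subgroup.centralizer ({w} : Set G)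
  set E : Subgroup G := D ⊓ stabCls hQ d w
  have hall : ∀ j, j ∈ Z → j • d = d → j ∈ (fun x => x * w * x⁻¹) '' (D : Set G) := fun j hj hjd => by
    obtain ⟨x, hx, he⟩ := exists_conj_oddRad hQ hw hwd hj hjd hne
    exact ⟨x, oddRad_le _ hx, he⟩
  have hD : (fun x => x * w * x⁻¹) '' (D : Set G) = {j | j ∈ Z ∧ j • d = d} := by
    refine Set.Subset.antisymm ?_ fun j hj => hall j hj.1 hj.2
    rintro _ ⟨x, hx, rfl⟩
    have hxd := (mem_two.mp hx).1
    exact ⟨hQ.conj w hw x, by rw [mul_smul, mul_smul, inv_smul_eq_iff.mpr hxd.symm, hwd, hxd]⟩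
  have hE : (fun x => x * w * x⁻¹) '' (E : Set G) = cls Z d w := by
    refine Set.Subset.antisymm ?_ fun j hj => ?_
    · rintro _ ⟨x, hx, rfl⟩
      exact conj_mem_cls hQ hw hwd hx.2
    · obtain ⟨x, hx, rfl⟩ := hall j hj.1 hj.2.1
      exact ⟨x, ⟨hx, mem_stabCls_of_cls hQ hw hwd (mem_two.mp hx).1 hj⟩, rfl⟩
  have hcent : E ⊓ C = D ⊓ C := by
    refine le_antisymm (inf_le_inf_right C inf_le_left) fun x hx => ⟨⟨hx.1, ?_⟩, hx.2⟩
    have hxw : x * w = w * x := Subgroup.mem_centralizer_singleton_iff.mp hx.2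
    exact ⟨(mem_two.mp hx.1).1, by rw [show x * w * x⁻¹ * w⁻¹ = 1 by rw [hxw]; group]; exact one_mem _⟩
  have h1 := card_conj_image D w
  have h2 := card_conj_image E w
  rw [show Subgroup.centralizer ({w} : Set G) = C from rfl] at h1 h2
  rw [hD] at h1
  rw [hE, hcent] at h2
  change Nat.card (MemAt Z d) * _ = _ at h1
  have hlt := hK.factorization_memAt hQ hw hwd
  have hdvd : l ^ (Nat.card D).factorization l ∣ Nat.card E :=
    hR.card ▸ Subgroup.card_dvd_of_le (le_inf hR.le hle)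
  have hle2 := (hK.prime.pow_dvd_iff_le_factorization Nat.card_pos.ne').mp hdvd
  rw [← h1, ← h2] at hle2
  have hne0 : (cls Z d w).ncard ≠ 0 := fun h => by
    rw [h, zero_mul] at h2
    exact Nat.card_pos.ne' h2.symm
  rw [Nat.factorization_mul (card_memAt_ne_zero hQ d) Nat.card_pos.ne', Nat.factorization_mul hne0 Nat.card_pos.ne',
    Finsupp.add_apply, Finsupp.add_apply] at hle2
  omega

/-- A `l`-group fixing a class of size prime to `l` centralises one of its members. -/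
theorem Clique.exists_cent_in_cls {c : Ω} {w : G} (hw : w ∈ Z) (hwc : w • c = c)
    (hcop : ¬ l ∣ Nat.card (oAt Z c)) {R : Subgroup G} (hR : IsPGroup l R) (hRc : R ≤ stabCls hQ c w) :
    ∃ v, v ∈ Z ∧ v • c = c ∧ ∀ x ∈ R, x * v = v * x := by
  haveI := Fact.mk hK.prime
  set E := stabCls hQ c w
  set C : Subgroup G := Subgroup.centralizer ({w} : Set G)
  have h1 := card_conj_image E w
  rw [hK.conj_image_oAt hQ hw hwc (oAt_le_stabCls hQ hwc) le_rfl] at h1
  have hs : ¬ l ∣ (cls Z c w).ncard := fun h => hcop (h.trans ⟨_, (hK.card_cls_mul hQ hw hwc).symm⟩)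
  obtain ⟨P, -, hP⟩ := exists_maxP (p := l) (K := E ⊓ C) (X := ⊥) IsPGroup.of_bot bot_le
  have hPE : MaxP l E P := by
    refine maxP_of_card hP.isPGroup (hP.le.trans inf_le_left) ?_
    have hne0 : (cls Z c w).ncard ≠ 0 := fun h => hs (h ▸ dvd_zero l)
    rw [hP.card, ← h1, Nat.factorization_mul hne0 Nat.card_pos.ne', Finsupp.add_apply,
      Nat.factorization_eq_zero_of_not_dvd hs, zero_add]
  obtain ⟨R', hRR', hR'⟩ := exists_maxP hR hRc
  obtain ⟨x, hx, hconj⟩ := hPE.conj hR'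
  refine ⟨x * w * x⁻¹, hQ.conj w hw x, (conj_mem_cls hQ hw hwc hx).2.1, fun r hr => ?_⟩
  have hrP : x⁻¹ * r * x ∈ P := (hconj _).mpr (by simpa [mul_assoc] using hRR' hr)
  have h2 : x⁻¹ * r * x * w = w * (x⁻¹ * r * x) :=
    Subgroup.mem_centralizer_singleton_iff.mp (hP.le hrP).2
  calc r * (x * w * x⁻¹) = x * (x⁻¹ * r * x * w) * x⁻¹ := by group
    _ = x * w * x⁻¹ * r := by rw [h2]; group

end CfsgLib.Bender.Q
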