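import Cfsg.Agent.Lib.Bender.Q.Heredity
import Cfsg.Agent.Lib.Bender.ExtRankOne
import Cfsg.Agent.S0205

/-!
Inverted elements of odd order in a subgroup with members at two points.

Blueprint: `blueprint/bender/Q_B1.md` 1 and 2.
-/

set_option autoImplicit false
set_option linter.unusedSectionVars false
set_option linter.style.haveILetI false
set_option linter.unusedVariables false

universe u

namespace CfsgLib.Bender.Q

open MulAction CfsgLib.SuzukiRankOne
open CfsgLib.Bender.TwoClosed (IsInv two mem_two smul_conj eq_one_of_inv_eq mem_of_sq_mem)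

variable {G : Type u} {Ω : Type u} [Group G] [MulAction G Ω] {Z : Set G}

/-- The elements of odd order inverted by `u` which fix `g` and `a`. -/
def bad (u : G) (g a : Ω) : Set G := {x | u * x * u = x⁻¹ ∧ x • g = g ∧ x • a = a ∧ Odd (orderOf x)}

/-- The elements of odd order of `X` inverted by `u` which fix all points of members of `X`. -/
def kerBad (Ω : Type u) [MulAction G Ω] (Z : Set G) (X : Subgroup G) (u : G) : Set G :=
  {x | x ∈ X ∧ u * x * u = x⁻¹ ∧ Odd (orderOf x) ∧ ∀ c ∈ centres Ω Z X, x • c = c}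

/-- No pair has more than `e` inverted elements fixing the centre. -/
def MaxBad (G : Type u) (Ω : Type u) [Group G] [MulAction G Ω] (Z : Set G) (e : ℕ) : Prop :=
  ∀ (u : G) (g a : Ω), u ∈ Z → u • g = g → a ≠ g → (bad u g a).ncard ≤ e

/-- A proper subgroup with commuting members and two centres carrying `e` inverted elements in its kernel. -/
def LMember (G : Type u) (Ω : Type u) [Group G] [MulAction G Ω] (Z : Set G) (e : ℕ) : Prop :=
  ∃ (X : Subgroup G) (u : G) (g : Ω), X ≠ ⊤ ∧ FourIn Z X ∧ u ∈ Z ∧ u ∈ X ∧ u • g = g ∧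
    (∃ c ∈ centres Ω Z X, c ≠ g) ∧ e ≤ (kerBad Ω Z X u).ncard

theorem memGrp_memGrp (X : Subgroup G) : memGrp Z (memGrp Z X) = memGrp Z X :=
  le_antisymm memGrp_le ((Subgroup.closure_le _).mpr fun _ hy => mem_memGrp hy.1 (mem_memGrp hy.1 hy.2))

theorem centres_memGrp (X : Subgroup G) : centres Ω Z (memGrp Z X) = centres Ω Z X :=
  Set.ext fun _ => ⟨fun ⟨x, hx, hi, hc⟩ => ⟨x, memGrp_le hx, hi, hc⟩,
    fun ⟨x, hx, hi, hc⟩ => ⟨x, mem_memGrp hi hx, hi, hc⟩⟩

theorem fourIn_memGrp {X : Subgroup G} (h : FourIn Z X) : FourIn Z (memGrp Z X) := by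
  obtain ⟨x, hx, y, hy, hxi, hyi, h1, h2⟩ := h
  exact ⟨x, mem_memGrp hxi hx, y, mem_memGrp hyi hy, hxi, hyi, h1, h2⟩

theorem conj_memGrp [Finite G] (hQ : Hyp G Ω Z) {X : Subgroup G} {g : G}
    (hg : g ∈ Subgroup.normalizer (X : Set G)) {x : G} (hx : x ∈ memGrp Z X) :
    g * x * g⁻¹ ∈ memGrp Z X := by
  induction hx using Subgroup.closure_induction with
  | mem y hy =>
    exact mem_memGrp (hQ.conj y hy.1 g) (CfsgLib.Bender.TwoClosed.conj_mem_of_normalizer hg hy.2)
  | one => simp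
  | mul y z _ _ iy iz => rw [← conj_mul]; exact Subgroup.mul_mem _ iy iz
  | inv y _ iy => rw [← conj_inv]; exact inv_mem iy

variable (hQ : Hyp G Ω Z)
include hQ

/-- The centres of a subgroup between the group of the members and `X`. -/
theorem centres_eq_of_between {X Y : Subgroup G} (h1 : memGrp Z X ≤ Y) (h2 : Y ≤ X) :
    centres Ω Z Y = centres Ω Z X :=
  Set.Subset.antisymm (centres_mono h2) ((centres_memGrp X).symm.le.trans (centres_mono h1))

theorem memGrp_eq_of_between {X Y : Subgroup G} (h1 : memGrp Z X ≤ Y) (h2 : Y ≤ X) :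
    memGrp Z Y = memGrp Z X :=
  le_antisymm ((Subgroup.closure_le _).mpr fun _ hy => mem_memGrp hy.1 (h2 hy.2))
    ((Subgroup.closure_le _).mpr fun _ hy => mem_memGrp hy.1 (h1 (mem_memGrp hy.1 hy.2)))

variable [Finite G]

/-- Adjoining a normalising element of odd order to the group of the members gives an odd index. -/
theorem odd_relIndex_sup {X : Subgroup G} {x : G} (hxX : x ∈ X) (hx : Odd (orderOf x)) :
    Odd ((memGrp Z (memGrp Z X ⊔ Subgroup.zpowers x)).relIndex (memGrp Z X ⊔ Subgroup.zpowers x)) := by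
  set K := memGrp Z X
  set L := Subgroup.zpowers x
  have hle : K ⊔ L ≤ X := sup_le memGrp_le (Subgroup.zpowers_le.mpr hxX)
  rw [memGrp_eq_of_between hQ le_sup_left hle]
  have hn : K ⊔ L ≤ Subgroup.normalizer (K : Set G) := fun g hg =>
    CfsgLib.Bender.TwoClosed.mem_normalizer_of_conj fun k hk => conj_memGrp hQ (Subgroup.le_normalizer (hle hg)) hk
  haveI : (K.subgroupOf (K ⊔ L)).Normal := (Subgroup.normal_subgroupOf_iff_le_normalizer le_sup_left).mpr hn
  have h1 := Subgroup.relIndex_sup_left (K := K.subgroupOf (K ⊔ L)) (H := L.subgroupOf (K ⊔ L))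
  rw [← Subgroup.subgroupOf_sup le_sup_left le_sup_right, Subgroup.subgroupOf_self, Subgroup.relIndex_top_right] at h1
  refine hx.of_dvd_nat ?_
  have h2 : ((K.subgroupOf (K ⊔ L)).relIndex (L.subgroupOf (K ⊔ L))) = K.relIndex L :=
    Subgroup.relIndex_subgroupOf le_sup_right
  show (K.subgroupOf (K ⊔ L)).index ∣ _
  rw [h1, h2, ← Nat.card_zpowers]
  exact Subgroup.relIndex_dvd_card _ _

/-- A subgroup fixing a point and normalised by the whole group is trivial. -/
theorem eq_bot_of_normal [FaithfulSMul G Ω] {N : Subgroup G} [N.Normal] {a : Ω}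
    (hfix : ∀ x ∈ N, x • a = a) : N = ⊥ := by
  haveI := pretransitive hQ
  refine (Subgroup.eq_bot_iff_forall _).mpr fun x hx => eq_of_smul_eq_smul (α := Ω) fun c => ?_
  obtain ⟨g, rfl⟩ := exists_smul_eq G a c
  have := hfix _ (by simpa using Subgroup.Normal.conj_mem ‹_› x hx g⁻¹ : g⁻¹ * x * g ∈ N)
  rw [mul_smul, mul_smul, inv_smul_eq_iff] at this
  rw [this, one_smul]

theorem exists_commuting_at (h4G : FourIn Z ⊤) (c : Ω) :
    ∃ x y : G, x ∈ Z ∧ x • c = c ∧ y ∈ Z ∧ y • c = c ∧ x ≠ y ∧ x * y = y * x := by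
  obtain ⟨x, -, y, -, hx, hy, hne, hxy⟩ := h4G
  obtain ⟨i, hi, hic⟩ := hQ.exists_at c
  obtain ⟨g, hg⟩ := exists_conj hQ hx hi
  have hcom : (g * x * g⁻¹) * (g * y * g⁻¹) = (g * y * g⁻¹) * (g * x * g⁻¹) := by rw [conj_mul, hxy, conj_mul]
  rw [← hg] at hic
  exact ⟨g * x * g⁻¹, g * y * g⁻¹, hQ.conj x hx g, hic, hQ.conj y hy g,
    commute_fix hQ (hQ.conj x hx g) hic hcom.symm, fun e => hne (mul_left_cancel (mul_right_cancel e)), hcom⟩

/-- The odd core of a pair stabiliser does not fix the centre of a swapper. -/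
theorem exists_moves (h4G : FourIn Z ⊤) {a b g : Ω} {u : G} (hu : u ∈ Z) (hg : u • g = g) (ha : u • a = b)
    (hne : b ≠ a) : ∃ x ∈ oddRad (two a b : Subgroup G), x • g ≠ g := by
  by_contra h
  push Not at h
  let f : Swp Z a b → MemAt Z g := fun w => ⟨w.1, w.2.1, by
    have := h _ (swap_mul_mem hQ hne hu ha w.2.1 w.2.2)
    rwa [mul_smul, hg] at this⟩
  have hf : Function.Injective f := fun w w' e => Subtype.ext (congrArg (fun z : MemAt Z g => z.1) e)
  have hb := (Nat.bijective_iff_injective_and_card f).mpr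
    ⟨hf, (card_swp hQ hne).trans (card_memAt_eq hQ a g)⟩
  obtain ⟨x, y, hx, hxg, hy, hyg, hxy, hcom⟩ := exists_commuting_at hQ h4G g
  obtain ⟨w, hw⟩ := hb.2 ⟨x, hx, hxg⟩
  obtain ⟨w', hw'⟩ := hb.2 ⟨y, hy, hyg⟩
  have hxa : x • a = b := by
    rw [show x = (w : G) from (congrArg Subtype.val hw).symm]
    exact w.2.2
  have hya : y • a = b := by
    rw [show y = (w' : G) from (congrArg Subtype.val hw').symm]
    exact w'.2.2
  exact hxy (eq_of_commute_odd (hQ.inv x hx) (hQ.inv y hy) hcom (odd_swap hQ hne hx hxa hy hya))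

/-- An odd element inverted by a member and fixing a point it moves lies in the odd core of the swapped pair. -/
theorem bad_mem_oddRad {u x : G} {g a : Ω} (hu : u ∈ Z) (hua : u • a ≠ a) (hx : x ∈ bad u g a) :
    x ∈ oddRad (two a (u • a) : Subgroup G) := by
  refine inverted_mem_oddRad hQ hua hu rfl (mem_two.mpr ⟨hx.2.2.1, ?_⟩) hx.2.2.2 hx.1
  have h1 : x⁻¹ • a = a := inv_smul_eq_iff.mpr hx.2.2.1.symm
  rw [← hx.1, mul_smul, mul_smul] at h1
  have h2 := congrArg (u • ·) h1
  simpa [(hQ.inv u hu).smul_twice] using h2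

variable [FaithfulSMul G Ω]

/-- L2, commuting members: inverted odd elements fixing the centre fix every centre. -/
theorem inverted_fix_centres (hB : Below.{u} (Nat.card G)) {X : Subgroup G} (hX : X ≠ ⊤) (h4 : FourIn Z X)
    {u : G} (hu : u ∈ Z) (huX : u ∈ X) {g : Ω} (hug : u • g = g) (hc : ∃ c ∈ centres Ω Z X, c ≠ g) {x : G}
    (hxX : x ∈ X) (hxg : x • g = g) (hxu : u * x * u = x⁻¹) (hodd : Odd (orderOf x)) {d : Ω}
    (hd : d ∈ centres Ω Z X) : x • d = d := by
  obtain ⟨c, hc, hcg⟩ := hc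
  set Y : Subgroup G := memGrp Z X ⊔ Subgroup.zpowers x with hY
  have hYX : Y ≤ X := sup_le memGrp_le (Subgroup.zpowers_le.mpr hxX)
  have hYne : Y ≠ ⊤ := fun e => hX (top_le_iff.mp (e ▸ hYX))
  have hcen : centres Ω Z Y = centres Ω Z X := centres_eq_of_between hQ le_sup_left hYX
  have h4Y : FourIn Z Y := by
    obtain ⟨p, hp, q, hq, hpi, hqi, h1, h2⟩ := h4
    exact ⟨p, le_sup_left (b := Subgroup.zpowers x) (mem_memGrp hpi hp), q,
      le_sup_left (b := Subgroup.zpowers x) (mem_memGrp hqi hq), hpi, hqi, h1, h2⟩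
  have huY : u ∈ Y := le_sup_left (b := Subgroup.zpowers x) (mem_memGrp hu huX)
  have hxY : x ∈ Y := Subgroup.mem_sup_right (Subgroup.mem_zpowers x)
  have hg : g ∈ centres Ω Z Y := mem_centres huY hu hug
  have hc' : c ∈ centres Ω Z Y := hcen ▸ hc
  have hF := oneFix_img hQ hB hYne h4Y (odd_relIndex_sup hQ hxX hodd) hg hc' hcg
  obtain ⟨t, Q, hS, -⟩ := good_img hQ hB hYne h4Y (odd_relIndex_sup hQ hxX hodd) hg hc' hcg ⟨g, hg⟩
  set U := img hQ Y ⟨u, huY⟩
  set R := img hQ Y ⟨x, hxY⟩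
  have hU2 : U * U = 1 := by
    rw [← map_mul, show (⟨u, huY⟩ : Y) * ⟨u, huY⟩ = 1 from Subtype.ext (hQ.inv u hu).2, map_one]
  have hUR : U * R * U = R⁻¹ := by
    rw [← map_mul, ← map_mul, ← map_inv]
    exact congrArg _ (Subtype.ext hxu)
  have hRodd : Odd (orderOf R) :=
    hodd.of_dvd_nat ((Subgroup.orderOf_mk x hxY) ▸ orderOf_map_dvd (img hQ Y) ⟨x, hxY⟩)
  have h1 : R = 1 := Ext.inverted_eq_one hS hF.four (img_ne_one hQ hg hc' hcg hu) hU2 hUR hRodd
    (c := ⟨g, hg⟩) (Subtype.ext hug) (Subtype.ext hxg)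
  exact img_eq_one_iff.mp h1 d (hcen.symm ▸ hd)

/-- L2, no four group: one further centre is fixed by all inverted odd elements fixing the centre. -/
theorem inverted_fix_one {X : Subgroup G} (h4 : ¬ FourIn Z X) {u : G} (hu : u ∈ Z) (huX : u ∈ X) {g : Ω}
    (hug : u • g = g) (hc : ∃ c ∈ centres Ω Z X, c ≠ g) :
    ∃ c : Ω, c ≠ g ∧ ∀ x ∈ X, x • g = g → u * x * u = x⁻¹ → Odd (orderOf x) → x • c = c := by
  obtain ⟨c₀, hc₀, hc₀g⟩ := hc
  have hg := mem_centres huX hu hug
  have hNX : oddRad X ≤ X := oddRad_le X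
  set N := oddRad X with hNdef
  have hXN : X ≤ Subgroup.normalizer (N : Set G) := Subgroup.le_normalizer.trans (le_normalizer_oddRad X)
  have hNodd : Odd (Nat.card N) := odd_oddRad X
  have hNu : ∀ x ∈ X, u * x * u * x⁻¹ ∈ N := fun x hx => comm_mem_of_no_four hQ h4 hu huX hx
  have hui := hQ.inv u hu
  haveI : Group.IsSolvable N := Cfsg.Agent.S0205.result hNodd
  let ψ : N →* Equiv.Perm (centres Ω Z X) := (centresPerm hQ X).comp (Subgroup.inclusion hNX)
  have hψ : ∀ (n : N) {d : Ω}, d ∈ centres Ω Z X → ψ n = 1 → (n : G) • d = d := fun n d hd e =>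
    congrArg Subtype.val (Equiv.ext_iff.mp e ⟨d, hd⟩)
  -- `N` moves `g`
  have hmove : ∃ n : N, (n : G) • g ≠ g := by
    obtain ⟨w, hwX, hw, hwg⟩ := centres_swap hQ hg hc₀ (Ne.symm hc₀g)
    refine ⟨⟨_, hNu w hwX⟩, fun e => ?_⟩
    have e' : (u * w * u * w⁻¹) • g = g := e
    rw [mul_smul, mul_smul, mul_smul, (hQ.inv w hw).inv, hwg] at e'
    have h1 : u • c₀ ≠ c₀ := fun h => hc₀g (eq_of_fix hQ hu h hug)
    have h2 : w • u • c₀ = g := by
      have := congrArg (u • ·) e'
      simpa [hui.smul_twice, hug] using this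
    refine h1 ?_
    have := congrArg (w • ·) h2
    simpa [(hQ.inv w hw).smul_twice, hwg] using this
  haveI : Group.IsSolvable ψ.range := Group.isSolvable_of_surjective (MonoidHom.rangeRestrict_surjective ψ)
  obtain ⟨n, hn⟩ := (Group.isSolvable_def ψ.range).mp inferInstance
  classical
  -- the last derived term moving `g`
  have hex : ∃ k, ∀ m : N, ψ.rangeRestrict m ∈ derivedSeries ψ.range k → (m : G) • g = g :=
    ⟨n, fun m hm => by rw [hn, Subgroup.mem_bot] at hm; exact hψ m hg (congrArg Subtype.val hm)⟩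
  set k := Nat.find hex
  have hk := Nat.find_spec hex
  have hk0 : k ≠ 0 := fun e => by
    obtain ⟨m, hm⟩ := hmove
    refine hm (hk m ?_)
    rw [show Nat.find hex = 0 from e, derivedSeries_zero]
    exact Subgroup.mem_top _
  obtain ⟨j, hj⟩ := Nat.exists_eq_succ_of_ne_zero hk0
  have hnot : ¬ ∀ m : N, ψ.rangeRestrict m ∈ derivedSeries ψ.range j → (m : G) • g = g :=
    Nat.find_min hex (by change j < k; omega)
  push Not at hnot
  obtain ⟨t, htj, htg⟩ := hnot
  -- members of `derivedSeries k` act trivially on the centres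
  have htriv : ∀ m : N, ψ.rangeRestrict m ∈ derivedSeries ψ.range k → ∀ d ∈ centres Ω Z X, (m : G) • d = d := by
    intro m hm d hd
    rcases eq_or_ne g d with rfl | hne
    · exact hk m hm
    · obtain ⟨w, hwX, hw, rfl⟩ := centres_swap hQ hg hd hne
      have hwm : w * (m : G) * w⁻¹ ∈ N := (Subgroup.mem_normalizer_iff.mp (hXN hwX) _).mp m.2
      set w' := centresPerm hQ X ⟨w, hwX⟩
      have hconj : ψ ⟨_, hwm⟩ = w' * ψ m * w'⁻¹ := by
        show centresPerm hQ X _ = _ * centresPerm hQ X _ * _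
        rw [← map_inv, ← map_mul, ← map_mul]
        rfl
      have hnorm : ∀ r : ψ.range, w' * (r : Equiv.Perm _) * w'⁻¹ ∈ ψ.range := by
        rintro ⟨_, m', rfl⟩
        refine ⟨⟨w * (m' : G) * w⁻¹, (Subgroup.mem_normalizer_iff.mp (hXN hwX) _).mp m'.2⟩, ?_⟩
        show centresPerm hQ X _ = _ * centresPerm hQ X _ * _
        rw [← map_inv, ← map_mul, ← map_mul]
        rfl
      let f : ψ.range →* ψ.range :=
        { toFun := fun r => ⟨w' * r * w'⁻¹, hnorm r⟩
          map_one' := Subtype.ext (by simp)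
          map_mul' := fun r s => Subtype.ext (by simp [mul_assoc]) }
      have hf : f (ψ.rangeRestrict m) ∈ derivedSeries ψ.range k :=
        map_derivedSeries_le_derivedSeries f k ⟨_, hm, rfl⟩
      have he : f (ψ.rangeRestrict m) = ψ.rangeRestrict ⟨_, hwm⟩ := Subtype.ext hconj.symm
      rw [he] at hf
      have h1 : (w * (m : G) * w⁻¹) • g = g := hk _ hf
      rw [(hQ.inv w hw).inv, mul_smul, mul_smul] at h1
      calc (m : G) • w • g = w • w • (m : G) • w • g := ((hQ.inv w hw).smul_twice _).symm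
        _ = w • g := by rw [h1]
  refine ⟨(t : G) • g, htg, fun x hxX hxg hxu hxodd => ?_⟩
  -- elements of the term commute on the centres
  have hcomm : ∀ m m' : N, ψ.rangeRestrict m ∈ derivedSeries ψ.range j →
      ψ.rangeRestrict m' ∈ derivedSeries ψ.range j → ∀ d ∈ centres Ω Z X, ((m : G) * m') • d = ((m' : G) * m) • d := by
    intro m m' hm hm' d hd
    have h1 : ψ.rangeRestrict (m * m' * m⁻¹ * m'⁻¹) ∈ derivedSeries ψ.range k := by
      rw [show k = j + 1 from hj, derivedSeries_succ, map_mul, map_mul, map_mul, map_inv, map_inv,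
        ← commutatorElement_def]
      exact Subgroup.commutator_mem_commutator hm hm'
    have h2 := htriv _ h1 (((m' : G) * m) • d)
      (centres_smul hQ (mul_mem (hNX m'.2) (hNX m.2)) hd)
    push_cast at h2
    rw [← mul_smul] at h2
    calc ((m : G) * m') • d = ((m : G) * m' * (m : G)⁻¹ * (m' : G)⁻¹ * ((m' : G) * m)) • d := by group
      _ = ((m' : G) * m) • d := h2
  -- conjugates of `t`
  have hconjj : ∀ (z : G) (hz : z ∈ X), ∀ m : N, ψ.rangeRestrict m ∈ derivedSeries ψ.range j →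
      ∃ m' : N, (m' : G) = z * m * z⁻¹ ∧ ψ.rangeRestrict m' ∈ derivedSeries ψ.range j := by
    intro z hz m hm
    have hzm : z * (m : G) * z⁻¹ ∈ N := (Subgroup.mem_normalizer_iff.mp (hXN hz) _).mp m.2
    refine ⟨⟨_, hzm⟩, rfl, ?_⟩
    set z' := centresPerm hQ X ⟨z, hz⟩
    have hnorm : ∀ r : ψ.range, z' * (r : Equiv.Perm _) * z'⁻¹ ∈ ψ.range := by
      rintro ⟨_, m', rfl⟩
      refine ⟨⟨z * (m' : G) * z⁻¹, (Subgroup.mem_normalizer_iff.mp (hXN hz) _).mp m'.2⟩, ?_⟩
      show centresPerm hQ X _ = _ * centresPerm hQ X _ * _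
      rw [← map_inv, ← map_mul, ← map_mul]
      rfl
    let f : ψ.range →* ψ.range :=
      { toFun := fun r => ⟨z' * r * z'⁻¹, hnorm r⟩
        map_one' := Subtype.ext (by simp)
        map_mul' := fun r s => Subtype.ext (by simp [mul_assoc]) }
    have hf : f (ψ.rangeRestrict m) ∈ derivedSeries ψ.range j :=
      map_derivedSeries_le_derivedSeries f j ⟨_, hm, rfl⟩
    have he : f (ψ.rangeRestrict m) = ψ.rangeRestrict ⟨_, hzm⟩ := by
      refine Subtype.ext ?_
      show _ * centresPerm hQ X _ * _ = centresPerm hQ X _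
      rw [← map_inv, ← map_mul, ← map_mul]
      rfl
    rwa [he] at hf
  obtain ⟨t', ht', ht'j⟩ := hconjj u huX t htj
  rw [hui.inv] at ht'
  -- `u • t • g = t⁻¹ • g`
  have hflip : ∀ m m' : N, ψ.rangeRestrict m ∈ derivedSeries ψ.range j →
      ψ.rangeRestrict m' ∈ derivedSeries ψ.range j → (m' : G) = u * m * u → (m' : G) • g = (m : G)⁻¹ • g := by
    intro m m' hm hm' he
    have h1 : u • ((m : G) * m') • g = ((m : G) * m') • g := by
      rw [← mul_smul]
      calc (u * ((m : G) * m')) • g = ((u * m * u) * (u * m' * u)) • u • g := by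
            rw [← mul_smul]
            congr 1
            calc u * ((m : G) * m') = u * m * (u * u) * m' * (u * u) := by rw [hui.2, mul_one, mul_one, mul_assoc]
              _ = _ := by group
        _ = ((m' : G) * m) • g := by
            rw [hug, he, show u * (u * (m : G) * u) * u = m by
              calc u * (u * (m : G) * u) * u = (u * u) * m * (u * u) := by group
                _ = m := by rw [hui.2, one_mul, mul_one]]
        _ = ((m : G) * m') • g := (hcomm m m' hm hm' g hg).symm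
    have h2 := eq_of_fix hQ hu h1 hug
    rw [mul_smul] at h2
    rw [eq_inv_smul_iff]
    exact h2
  obtain ⟨s, hs, hsj⟩ := hconjj x hxX t htj
  obtain ⟨s', hs', hs'j⟩ := hconjj u huX s hsj
  rw [hui.inv] at hs'
  have hs'i : ψ.rangeRestrict s⁻¹ ∈ derivedSeries ψ.range j := by rw [map_inv]; exact inv_mem hsj
  obtain ⟨t'', ht'', ht''j⟩ := hconjj u huX t htj
  rw [hui.inv] at ht''
  have hxsmul : x • (t : G) • g = (s : G) • g := by
    rw [hs, mul_smul, mul_smul, inv_smul_eq_iff.mpr hxg.symm]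
  have hut : u • (t : G) • g = (t : G)⁻¹ • g := by
    rw [← hflip t t'' htj ht''j ht'', ht'', mul_smul, mul_smul, hug]
  have husinv : u • (s : G)⁻¹ • g = (s : G) • g := by
    have h1 := hflip s s' hsj hs'j hs'
    rw [← h1, hs', mul_smul, mul_smul, hug, hui.smul_twice]
  have h3 : x⁻¹ • (t : G) • g = x • (t : G) • g := by
    rw [← hxu, mul_smul, mul_smul, hut, hxsmul, ← husinv]
    congr 1
    rw [hs, show (x * (t : G) * x⁻¹)⁻¹ = x * (t : G)⁻¹ * x⁻¹ by group, mul_smul, mul_smul,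
      inv_smul_eq_iff.mpr hxg.symm]
  have h4' : (x * x) • (t : G) • g = (t : G) • g := by
    rw [mul_smul, ← h3, smul_inv_smul]
  obtain ⟨i, hi⟩ := CfsgLib.Involutions.exists_sqrt hxodd
  rw [← hi, ← (Commute.refl x).mul_pow]
  exact Subgroup.pow_mem (stabilizer G ((t : G) • g)) (mem_stabilizer_iff.mpr h4') i

end CfsgLib.Bender.Q
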