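import Cfsg.Agent.Lib.Bender.Q.Ctx
import Cfsg.Agent.Lib.Bender.Q.B1.Clique

/-!
B1 for hypothesis Q: with two commuting members and smaller groups settled, no element of odd order inverted by a
member fixes its point and another one, except the identity.

Blueprint: `blueprint/bender/Q_B1.md` 6.
-/

set_option autoImplicit false
set_option linter.unusedSectionVars false
set_option linter.style.haveILetI false

namespace CfsgLib.Bender.Q

open MulAction
open CfsgLib.Bender.TwoClosed (IsInv)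

universe u

variable {G Ω : Type u} [Group G] [Finite G] [MulAction G Ω] [FaithfulSMul G Ω] {Z : Set G}

/-- Case 2 of B1: no kernel of Lie type carries a maximal count above one. -/
theorem not_lMember (hQ : Hyp G Ω Z) (hB : Below.{u} (Nat.card G)) {e : ℕ} (hM : MaxBad G Ω Z e) (he : 1 < e) :
    ¬ LMember G Ω Z e := fun hL => by
  obtain ⟨M, hCh⟩ := exists_chosen hQ hB he hL
  exact clique_end hQ hB hM he hCh fun a b ha hb hne => circle_end hQ hB hM he hCh ha hb hne

/-- B1: no bad elements. -/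
theorem noBad_of_below (hQ : Hyp G Ω Z) (h4G : FourIn Z (⊤ : Subgroup G)) (hB : Below.{u} (Nat.card G)) :
    NoBad G Ω Z := by
  intro u₀ hu y a b hua hinv hodd hya hba hyb
  by_contra hy1
  set Ns : Set ℕ := {n | ∃ (u : G) (g c : Ω), u ∈ Z ∧ u • g = g ∧ c ≠ g ∧ (bad u g c).ncard = n}
  have hfin : Ns.Finite := (Set.finite_le_nat (Nat.card G)).subset fun n hn => by
    obtain ⟨u, g, c, -, -, -, rfl⟩ := hn
    exact Set.ncard_le_card _
  obtain ⟨e, ⟨u₁, g₁, c₁, hu₁, hg₁, hc₁, rfl⟩, hmax⟩ := hfin.exists_maximal ⟨_, u₀, a, b, hu, hua, hba, rfl⟩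
  set e := (bad u₁ g₁ c₁).ncard
  have hM : MaxBad G Ω Z e := fun u g c hu' hg hc => by
    rcases le_total (bad u g c).ncard e with h | h
    · exact h
    · exact hmax ⟨u, g, c, hu', hg, hc, rfl⟩ h
  have h2 : 2 ≤ (bad u₀ a b).ncard := by
    have hsub : ({1, y} : Set G) ⊆ bad u₀ a b := by
      rintro x (rfl | rfl)
      · exact ⟨by rw [mul_one, (hQ.inv u₀ hu).2, inv_one], one_smul _ _, one_smul _ _, by simp⟩
      · exact ⟨hinv, hya, hyb, hodd⟩
    rw [← Set.ncard_pair (Ne.symm hy1)]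
    exact Set.ncard_le_ncard hsub (Set.toFinite _)
  have he : 1 < e := lt_of_lt_of_le h2 (hM u₀ a b hu hua hba)
  exact not_lMember hQ hB hM he (exists_lMember hQ h4G hM he hB ⟨u₁, g₁, c₁, hu₁, hg₁, hc₁, le_rfl⟩)

/-- The standing hypotheses of the later sections. -/
theorem ctx_of_below (hQ : Hyp G Ω Z) (h4G : FourIn Z (⊤ : Subgroup G)) (hB : Below.{u} (Nat.card G))
    (hgen : Subgroup.closure Z = ⊤) : Ctx G Ω Z :=
  ⟨hQ, hB, noBad_of_below hQ h4G hB, h4G, hgen⟩

end CfsgLib.Bender.Q
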