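import Cfsg.Agent.Lib.Bender.Q.B1.Count
import Cfsg.Agent.Lib.Bender.ExtZJ

/-!
Subgroups with commuting members and two centres: the induced rank one group, circles, and lemma V.

Blueprint: `blueprint/bender/Q_B1.md` 0.6.
-/

set_option autoImplicit false
set_option linter.unusedSectionVars false
set_option linter.style.haveILetI false
set_option linter.unusedVariables false

universe u

namespace CfsgLib.Bender.Q

open MulAction Cfsg CfsgLib.SuzukiRankOne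
open CfsgLib.Bender.TwoClosed (IsInv InvAt two mem_two smul_conj mem_normalizer_of_conj conj_mem_of_normalizer)

variable {G : Type u} {Ω : Type u} [Group G] [MulAction G Ω] {Z : Set G}

/-- A proper subgroup with commuting members and two centres. -/
structure IsTop (Ω : Type u) [MulAction G Ω] (Z : Set G) (X : Subgroup G) : Prop where
  ne_top : X ≠ ⊤
  four : FourIn Z X
  two : ∃ g c, g ∈ centres Ω Z X ∧ c ∈ centres Ω Z X ∧ c ≠ g

/-- A top in which the group of the members has odd index. -/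
structure IsTopOdd (Ω : Type u) [MulAction G Ω] (Z : Set G) (X : Subgroup G) : Prop extends IsTop Ω Z X where
  idx : Odd ((memGrp Z X).relIndex X)

/-- The number `q` of the group of members: one plus the number of induced involutions at each centre. -/
noncomputable def qTop (hQ : Hyp G Ω Z) (X : Subgroup G) : ℕ :=
  Nat.card {y : topGrp hQ (memGrp Z X) // IsInv y} / Nat.card (centres Ω Z (memGrp Z X)) + 1

/-- The circle through two centres. -/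
def circ (Z : Set G) (X : Subgroup G) (a b : Ω) : Set Ω :=
  {c | c = a ∨ c = b ∨ ∃ i ∈ X, i ∈ Z ∧ i • a = a ∧ i • b = c}

theorem circ_memGrp (X : Subgroup G) (a b : Ω) : circ Z (memGrp Z X) a b = circ Z X a b := by
  ext c
  constructor
  · rintro (h | h | ⟨i, hi, hiZ, h⟩)
    · exact Or.inl h
    · exact Or.inr (Or.inl h)
    · exact Or.inr (Or.inr ⟨i, memGrp_le hi, hiZ, h⟩)
  · rintro (h | h | ⟨i, hi, hiZ, h⟩)
    · exact Or.inl h
    · exact Or.inr (Or.inl h)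
    · exact Or.inr (Or.inr ⟨i, mem_memGrp hiZ hi, hiZ, h⟩)

theorem isTopOdd_memGrp {X : Subgroup G} (hT : IsTop Ω Z X) : IsTopOdd Ω Z (memGrp Z X) := by
  refine ⟨⟨fun e => hT.ne_top (top_le_iff.mp (e ▸ memGrp_le)), fourIn_memGrp hT.four, ?_⟩, ?_⟩
  · obtain ⟨g, c, hg, hc, hne⟩ := hT.two
    exact ⟨g, c, (centres_memGrp (Ω := Ω) X).symm ▸ hg, (centres_memGrp (Ω := Ω) X).symm ▸ hc, hne⟩
  · rw [memGrp_memGrp, Subgroup.relIndex_self]
    exact odd_one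

variable [Finite G] [FaithfulSMul G Ω] {X Y : Subgroup G} (hQ : Hyp G Ω Z)
include hQ

theorem isTopOdd_sup (hT : IsTop Ω Z X) {x : G} (hxX : x ∈ X) (hx : Odd (orderOf x)) :
    IsTopOdd Ω Z (memGrp Z X ⊔ Subgroup.zpowers x) := by
  have hle : memGrp Z X ⊔ Subgroup.zpowers x ≤ X := sup_le memGrp_le (Subgroup.zpowers_le.mpr hxX)
  refine ⟨⟨fun e => hT.ne_top (top_le_iff.mp (e ▸ hle)), ?_, ?_⟩, odd_relIndex_sup hQ hxX hx⟩
  · obtain ⟨p, hp, q, hq, hpi, hqi, h1, h2⟩ := fourIn_memGrp hT.four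
    exact ⟨p, le_sup_left (b := Subgroup.zpowers x) hp, q, le_sup_left (b := Subgroup.zpowers x) hq, hpi, hqi, h1, h2⟩
  · obtain ⟨g, c, hg, hc, hne⟩ := hT.two
    rw [centres_eq_of_between hQ le_sup_left hle]
    exact ⟨g, c, hg, hc, hne⟩

theorem IsTop.exists_ne (hT : IsTop Ω Z X) (a : Ω) : ∃ b ∈ centres Ω Z X, b ≠ a := by
  obtain ⟨g, c, hg, hc, hne⟩ := hT.two
  by_cases h : g = a
  · exact ⟨c, hc, h ▸ hne⟩
  · exact ⟨g, hg, h⟩

theorem img_isInv (hT : IsTop Ω Z X) {x : X} (hx : (x : G) ∈ Z) : IsInv (img hQ X x) := by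
  obtain ⟨g, c, hg, hc, hne⟩ := hT.two
  exact (hyp_img hQ hg hc hne).inv _ ⟨x, hx, rfl⟩

/-- Two members with the same image have a product of odd order. -/
theorem odd_mul_of_img_eq (hT : IsTop Ω Z X) {x y : X} (hx : (x : G) ∈ Z) (hy : (y : G) ∈ Z)
    (he : img hQ X x = img hQ X y) : Odd (orderOf ((x : G) * y)) := by
  by_contra hodd
  rw [Nat.not_odd_iff_even] at hodd
  obtain ⟨g, c, hg, hc, hne⟩ := hT.two
  refine img_ne_one hQ hg hc hne (x := (x * y) ^ (orderOf ((x : G) * y) / 2))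
    (by simpa using central_mem hQ hx hy hodd) ?_
  rw [map_pow, map_mul, he, ← map_mul, show y * y = 1 from Subtype.ext (hQ.inv _ hy).2, map_one, one_pow]

theorem IsTopOdd.oneFix (hB : Below.{u} (Nat.card G)) (hT : IsTopOdd Ω Z X) :
    OneFix (topGrp hQ X) (centres Ω Z X) := by
  obtain ⟨g, c, hg, hc, hne⟩ := hT.two
  exact oneFix_img hQ hB hT.ne_top hT.four hT.idx hg hc hne

theorem IsTopOdd.fourTop (hB : Below.{u} (Nat.card G)) (hT : IsTopOdd Ω Z X) : Four (topGrp hQ X) :=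
  (hT.oneFix hQ hB).four

/-- An induced involution is the image of a member. -/
theorem exists_inv_lift (hB : Below.{u} (Nat.card G)) (hT : IsTopOdd Ω Z X) {y : topGrp hQ X} (hy : IsInv y) :
    ∃ x : X, (x : G) ∈ Z ∧ img hQ X x = y := by
  obtain ⟨g, c, hg, hc, hne⟩ := hT.two
  obtain ⟨d, hd, huniq⟩ := (hT.oneFix hQ hB).one_fix y hy
  exact mem_of_unique_fix (hyp_img hQ hg hc hne) hy hd huniq

/-- The set-up of the top at a centre, for any involution moving it. -/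
theorem IsTopOdd.setup (hT : IsTopOdd Ω Z X) (hB : Below.{u} (Nat.card G)) {a : Ω} (ha : a ∈ centres Ω Z X) {w : G}
    (hwX : w ∈ X) (hw : w ∈ Z) (hwa : w • a ≠ a) :
    ∃ Q : Subgroup (topGrp hQ X), IsRankOneSetup (topGrp hQ X) (centres Ω Z X) ⟨a, ha⟩ (img hQ X ⟨w, hwX⟩) Q := by
  obtain ⟨g, c, hg, hc, hne⟩ := hT.two
  obtain ⟨t, Q, hS, -⟩ := good_img hQ hB hT.ne_top hT.four hT.idx hg hc hne ⟨a, ha⟩
  set a' : centres Ω Z X := ⟨a, ha⟩
  set w' := img hQ X ⟨w, hwX⟩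
  have hwi := img_isInv hQ hT.toIsTop (x := ⟨w, hwX⟩) hw
  have hwa' : w' • a' ≠ a' := fun e => hwa (by rw [← img_smul (hQ := hQ) ⟨w, hwX⟩ a', e])
  obtain ⟨q, hq, hqe⟩ := CfsgLib.RankOne.exists_Q_ta hS hwa'
  have hqa : q • a' = a' := CfsgLib.RankOne.mem_Q_a hS hq
  have hD : ∀ d, d ∈ stabilizer (topGrp hQ X) a' ⊓ stabilizer (topGrp hQ X) (w' • a') ↔
      q⁻¹ * d * q ∈ stabilizer (topGrp hQ X) a' ⊓ stabilizer (topGrp hQ X) (t • a') := by
    intro d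
    have hiff : ∀ r : centres Ω Z X, (q⁻¹ * d * q) • r = r ↔ d • q • r = q • r := fun r => by
      rw [mul_smul, mul_smul, inv_smul_eq_iff]
    simp only [Subgroup.mem_inf, mem_stabilizer_iff, hiff, hqa, hqe]
  refine ⟨Q, hS.two_transitive, hwi.2, hwi.1, fun e => hwa' (mem_stabilizer_iff.mp e), hS.le, hS.conj_mem, ?_, ?_,
    hS.even_card, ?_⟩
  · refine (Subgroup.eq_bot_iff_forall _).mpr fun x hx => ?_
    exact CfsgLib.RankOne.eq_one_of_fix hS hx.1 hwa' hx.2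
  · refine le_antisymm (sup_le hS.le inf_le_left) fun g hg => ?_
    have hg' : q⁻¹ * g * q ∈ stabilizer (topGrp hQ X) a' :=
      mul_mem (mul_mem (inv_mem (hS.le hq)) hg) (hS.le hq)
    obtain ⟨x, hx, d, hd, he⟩ := CfsgLib.RankOne.exists_decomp hS (mem_stabilizer_iff.mp hg')
    have hgd : g = (q * x * q⁻¹) * (q * d * q⁻¹) := by
      calc g = q * (q⁻¹ * g * q) * q⁻¹ := by group
        _ = _ := by rw [he]; group
    rw [hgd]
    refine Subgroup.mul_mem_sup (hS.conj_mem q (hS.le hq) x hx) ((hD _).mpr ?_)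
    rwa [show q⁻¹ * (q * d * q⁻¹) * q = d by group]
  · have h : (stabilizer (topGrp hQ X) a' ⊓ stabilizer (topGrp hQ X) (w' • a')) =
        (stabilizer (topGrp hQ X) a' ⊓ stabilizer (topGrp hQ X) (t • a')).map (MulAut.conj q).toMonoidHom := by
      ext d
      rw [hD]
      constructor
      · exact fun h => ⟨_, h, by simp [mul_assoc]⟩
      · rintro ⟨e, he, rfl⟩
        simpa [mul_assoc] using he
    rw [h, Subgroup.card_map_of_injective (MulAut.conj q).injective]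
    exact hS.odd_card

/-- All members of a top are conjugate in it, by an element of the group of the members. -/
theorem invol_conj_top (hT : IsTop Ω Z X) {i j : G} (hiX : i ∈ X) (hi : i ∈ Z) (hjX : j ∈ X) (hj : j ∈ Z) :
    ∃ x ∈ memGrp Z X, x * i * x⁻¹ = j := by
  have key : ∀ {i j : G}, i ∈ X → i ∈ Z → j ∈ X → j ∈ Z → ∀ {a b : Ω}, i • a = a → j • b = b → a ≠ b →
      ∃ x ∈ memGrp Z X, x * i * x⁻¹ = j := fun {i j} hiX hi hjX hj {a b} hia hjb hab => by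
    obtain ⟨w, hw, he, hcl⟩ := exists_swap_conj hQ hi hia hj hjb hab
    refine ⟨w, (Subgroup.closure_le _).mpr ?_ hcl, by rw [(hQ.inv w hw).inv, he]⟩
    exact Set.insert_subset (mem_memGrp hi hiX) (Set.singleton_subset_iff.mpr (mem_memGrp hj hjX))
  obtain ⟨a, ha⟩ := exists_fix hQ hi
  obtain ⟨b, hb⟩ := exists_fix hQ hj
  by_cases hab : a = b
  · obtain ⟨c, ⟨k, hkX, hk, hkc⟩, hca⟩ := hT.exists_ne hQ a
    obtain ⟨x, hx, hxe⟩ := key hiX hi hkX hk ha hkc hca.symm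
    obtain ⟨y, hy, hye⟩ := key hkX hk hjX hj hkc hb (hab ▸ hca)
    refine ⟨y * x, Subgroup.mul_mem _ hy hx, ?_⟩
    rw [← hye, ← hxe]
    group
  · exact key hiX hi hjX hj ha hb hab

/-- A normal subgroup moving a centre contains all members. -/
theorem invol_mem_of_normal (hT : IsTop Ω Z X) (hB : Below.{u} (Nat.card G)) {N : Subgroup G}
    (hNX : N ≤ X) (hXN : X ≤ Subgroup.normalizer (N : Set G)) {n : G} (hn : n ∈ N) {c : Ω}
    (hc : c ∈ centres Ω Z X) (hnc : n • c ≠ c) {i : G} (hiX : i ∈ X) (hi : i ∈ Z) : i ∈ N := by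
  set X0 := memGrp Z X
  have hT0 := isTopOdd_memGrp hT
  set N0 := N ⊓ X0
  obtain ⟨i0, hi0X, hi0, hi0c⟩ := hc
  have hc0 : c ∈ centres Ω Z X0 := ⟨i0, mem_memGrp hi0 hi0X, hi0, hi0c⟩
  have hi0' := hQ.inv i0 hi0
  have hn' : n * i0 * n⁻¹ * i0 ∈ N0 := by
    refine ⟨?_, Subgroup.mul_mem _ (mem_memGrp (hQ.conj i0 hi0 n)
      (X.mul_mem (X.mul_mem (hNX hn) hi0X) (X.inv_mem (hNX hn)))) (mem_memGrp hi0 hi0X)⟩
    rw [show n * i0 * n⁻¹ * i0 = n * (i0 * n⁻¹ * i0⁻¹) by rw [hi0'.inv]; group]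
    exact N.mul_mem hn (conj_mem_of_normalizer (hXN hi0X) (N.inv_mem hn))
  have hmove : (n * i0 * n⁻¹ * i0) • c ≠ c := fun e => hnc (eq_of_fix hQ (hQ.conj i0 hi0 n)
    (smul_conj hi0c) (by rwa [mul_smul, hi0c] at e))
  obtain ⟨w, hwX, hw, hwc⟩ : ∃ w ∈ X0, w ∈ Z ∧ w • c ≠ c := by
    obtain ⟨b, ⟨w, hwX, hw, hwb⟩, hne⟩ := hT0.toIsTop.exists_ne hQ c
    exact ⟨w, hwX, hw, fun e => hne (eq_of_fix hQ hw hwb e)⟩
  obtain ⟨Q, hS⟩ := hT0.setup hQ hB hc0 hwX hw hwc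
  set Nb : Subgroup (topGrp hQ X0) := (N0.subgroupOf X0).map (img hQ X0)
  haveI : (N0.subgroupOf X0).Normal := ⟨fun m hm x =>
    ⟨conj_mem_of_normalizer (hXN (memGrp_le x.2)) hm.1, X0.mul_mem (X0.mul_mem x.2 hm.2) (X0.inv_mem x.2)⟩⟩
  haveI : Nb.Normal := Subgroup.Normal.map ‹_› _ img_surjective
  have hNb : Nb ≠ ⊥ := fun e => hmove (by
    have hmem : img hQ X0 ⟨_, hn'.2⟩ ∈ Nb := ⟨_, hn', rfl⟩
    rw [e, Subgroup.mem_bot] at hmem
    exact img_eq_one_iff.mp hmem c hc0)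
  have hset : Subgroup.closure (imgSet hQ X0) ≤ Nb := (Subgroup.closure_le _).mpr fun y ⟨z, hz, hzy⟩ => by
    obtain ⟨h1, h2⟩ := img_isInv hQ hT0.toIsTop hz
    rw [← hzy]
    exact Ext.normal_invol hS (hT0.fourTop hQ hB) hNb h1 h2
  obtain ⟨x, hxX, y, hyX, hx, hy, hxy, hcom⟩ := hT0.four
  obtain ⟨g, hg, hgy⟩ := invol_conj_top hQ hT0.toIsTop hxX hx hyX hy
  obtain ⟨⟨m, hmX⟩, hm, he⟩ := hset (img_mem_closure hQ (X := X0) (x := ⟨g, memGrp_le hg⟩) hg)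
  have hk : m * x * m⁻¹ * x ∈ N0 := by
    refine ⟨?_, X0.mul_mem (X0.mul_mem (X0.mul_mem hmX hxX) (X0.inv_mem hmX)) hxX⟩
    rw [show m * x * m⁻¹ * x = m * (x * m⁻¹ * x⁻¹) by rw [(hQ.inv x hx).inv]; group]
    exact N.mul_mem hm.1 (conj_mem_of_normalizer (hXN (memGrp_le hxX)) (N.inv_mem hm.1))
  have hev : Even (orderOf (m * x * m⁻¹ * x)) := by
    obtain ⟨g', c', hg', hc', hne'⟩ := hT0.two
    by_contra hodd
    rw [Nat.not_even_iff_odd] at hodd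
    refine img_ne_of_commute hQ hg' hc' hne' (x := ⟨y, hyX⟩) (y := ⟨x, hxX⟩) hy hx
      (fun e => hxy (congrArg Subtype.val e).symm) hcom.symm ?_
    have himg : img hQ X0 ⟨m * x * m⁻¹, X0.mul_mem (X0.mul_mem hmX hxX) (X0.inv_mem hmX)⟩ = img hQ X0 ⟨y, hyX⟩ := by
      rw [show (⟨y, hyX⟩ : X0) = ⟨g, memGrp_le hg⟩ * ⟨x, hxX⟩ * (⟨g, memGrp_le hg⟩ : X0)⁻¹ from
        Subtype.ext hgy.symm, map_mul, map_mul, map_inv, ← he, ← map_inv, ← map_mul, ← map_mul]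
      rfl
    have hodd' : Odd (orderOf (img hQ X0 ⟨y, hyX⟩ * img hQ X0 ⟨x, hxX⟩)) := hodd.of_dvd_nat (by
      rw [← himg, ← map_mul]
      exact (orderOf_map_dvd _ _).trans (by rw [← Subgroup.orderOf_coe]; rfl))
    refine eq_of_commute_odd (img_isInv hQ hT0.toIsTop hy) (img_isInv hQ hT0.toIsTop hx) ?_ hodd'
    rw [← map_mul, ← map_mul]
    exact congrArg _ (Subtype.ext hcom.symm)
  have hwN := N0.pow_mem hk (orderOf (m * x * m⁻¹ * x) / 2)
  have hwZ := central_mem hQ (hQ.conj x hx m) hx hev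
  obtain ⟨v, hv, hvi⟩ := invol_conj_top hQ hT (memGrp_le hwN.2) hwZ hiX hi
  rw [← hvi]
  exact conj_mem_of_normalizer (hXN (memGrp_le hv)) hwN.1

/-- In a larger subgroup the induced involutions at a centre do not become fewer, and if they stay as many every
member of the larger one acts as one of the smaller. -/
theorem invAt_le (hB : Below.{u} (Nat.card G)) (hT : IsTopOdd Ω Z X) (hT' : IsTopOdd Ω Z Y) {a : Ω}
    (ha : a ∈ centres Ω Z X) (ha' : a ∈ centres Ω Z Y)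
    (hXY : ∀ i ∈ X, i ∈ Z → i • a = a → i ∈ Y) (hc : centres Ω Z X ⊆ centres Ω Z Y) :
    Nat.card (InvAt (topGrp hQ X) (⟨a, ha⟩ : centres Ω Z X)) ≤
      Nat.card (InvAt (topGrp hQ Y) (⟨a, ha'⟩ : centres Ω Z Y)) ∧
      (Nat.card (InvAt (topGrp hQ X) (⟨a, ha⟩ : centres Ω Z X)) =
        Nat.card (InvAt (topGrp hQ Y) (⟨a, ha'⟩ : centres Ω Z Y)) → ∀ i ∈ Y, i ∈ Z → i • a = a →
      ∃ j ∈ X, j ∈ Z ∧ j • a = a ∧ ∀ c ∈ centres Ω Z Y, i • c = j • c) := by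
  have hlift : ∀ y : InvAt (topGrp hQ X) (⟨a, ha⟩ : centres Ω Z X), ∃ j : X, (j : G) ∈ Z ∧ img hQ X j = y.1 :=
    fun y => exists_inv_lift hQ hB hT y.2.1
  choose j hj hje using hlift
  have hja : ∀ y, (j y : G) • a = a := fun y => by
    rw [← img_smul (hQ := hQ) (j y) ⟨a, ha⟩, hje y, y.2.2]
  let f : InvAt (topGrp hQ X) (⟨a, ha⟩ : centres Ω Z X) → InvAt (topGrp hQ Y) (⟨a, ha'⟩ : centres Ω Z Y) := fun y =>
    ⟨img hQ Y ⟨j y, hXY _ (j y).2 (hj y) (hja y)⟩,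
      img_isInv hQ hT'.toIsTop (x := ⟨j y, hXY _ (j y).2 (hj y) (hja y)⟩) (hj y), Subtype.ext (hja y)⟩
  have hf : Function.Injective f := fun y y' h => Subtype.ext (by
    rw [← hje y, ← hje y']
    exact img_eq_of_smul fun c hcX => smul_of_img_eq (congrArg Subtype.val h) (hc hcX))
  refine ⟨Nat.card_le_card_of_injective f hf, fun he i hiY hi hia => ?_⟩
  obtain ⟨y, hy⟩ := ((Nat.bijective_iff_injective_and_card f).mpr ⟨hf, he⟩).2
    ⟨img hQ Y ⟨i, hiY⟩, img_isInv hQ hT'.toIsTop (x := ⟨i, hiY⟩) hi, Subtype.ext hia⟩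
  exact ⟨j y, (j y).2, hj y, hja y, fun c hc' => (smul_of_img_eq (congrArg Subtype.val hy) hc').symm⟩

/-- `q` counts the induced involutions at a centre. -/
theorem qTop_eq_invAt (hB : Below.{u} (Nat.card G)) (hT : IsTopOdd Ω Z X) {a : Ω} (ha : a ∈ centres Ω Z X) :
    qTop hQ X = Nat.card (InvAt (topGrp hQ X) (⟨a, ha⟩ : centres Ω Z X)) + 1 := by
  classical
  haveI := finite_points hQ
  have hT0 := isTopOdd_memGrp hT.toIsTop
  have ha0 : a ∈ centres Ω Z (memGrp Z X) := (centres_memGrp (Ω := Ω) X).symm ▸ ha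
  set X0 := memGrp Z X with hX0
  have heq : Nat.card (InvAt (topGrp hQ X0) (⟨a, ha0⟩ : centres Ω Z X0)) =
      Nat.card (InvAt (topGrp hQ X) (⟨a, ha⟩ : centres Ω Z X)) :=
    le_antisymm (invAt_le hQ hB hT0 hT ha0 ha (fun i hi _ _ => memGrp_le hi) (centres_memGrp (Ω := Ω) X).le).1
      (invAt_le hQ hB hT hT0 ha ha0 (fun i hi hiZ _ => mem_memGrp hiZ hi) (centres_memGrp (Ω := Ω) X).ge).1
  have hO := hT0.oneFix hQ hB
  let f : {y : topGrp hQ X0 // IsInv y} → centres Ω Z X0 := fun y => (hO.one_fix y.1 y.2).exists.choose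
  haveI := Fintype.ofFinite (centres Ω Z X0)
  have hsig : Nat.card {y : topGrp hQ X0 // IsInv y} = ∑ d : centres Ω Z X0, Nat.card (InvAt (topGrp hQ X0) d) := by
    rw [← Nat.card_sigma]
    exact Nat.card_congr
      { toFun := fun y => ⟨f y, y.1, y.2, (hO.one_fix y.1 y.2).exists.choose_spec⟩
        invFun := fun z => ⟨z.2.1, z.2.2.1⟩
        left_inv := fun y => rfl
        right_inv := fun ⟨d, y, hy, hyd⟩ => by
          obtain rfl : f ⟨y, hy⟩ = d := (hO.one_fix y hy).unique (hO.one_fix y hy).exists.choose_spec hyd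
          rfl }
  rw [Finset.sum_congr rfl (fun d _ => OneFix.card_invAt_eq hO d ⟨a, ha0⟩), Finset.sum_const, Finset.card_univ,
    smul_eq_mul, ← Nat.card_eq_fintype_card] at hsig
  haveI : Nonempty (centres Ω Z X0) := ⟨⟨a, ha0⟩⟩
  rw [qTop, ← hX0, hsig, Nat.mul_div_cancel_left _ Nat.card_pos, heq]

theorem qTop_eq (hB : Below.{u} (Nat.card G)) (hT : IsTopOdd Ω Z X) {a : Ω} (ha : a ∈ centres Ω Z X) :
    qZ (topGrp hQ X) (⟨a, ha⟩ : centres Ω Z X) = qTop hQ X := by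
  rw [qTop_eq_invAt hQ hB hT ha, qZ]
  congr 1
  exact Nat.card_congr (Equiv.subtypeEquivRight fun y =>
    ⟨fun ⟨h1, h2, h3⟩ => ⟨⟨h2, h3⟩, h1⟩, fun ⟨⟨h2, h3⟩, h1⟩ => ⟨h1, h2, h3⟩⟩)

/-- The set-up of the group of the members at two centres. -/
theorem IsTop.exists_setup (hT : IsTop Ω Z X) (hB : Below.{u} (Nat.card G)) {a b : Ω}
    (ha : a ∈ centres Ω Z X) (hb : b ∈ centres Ω Z X) (hne : b ≠ a) :
    ∃ (w : G) (hw0 : w ∈ memGrp Z X) (ha0 : a ∈ centres Ω Z (memGrp Z X))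
      (Q : Subgroup (topGrp hQ (memGrp Z X))), w ∈ Z ∧ w • a = b ∧
      IsRankOneSetup (topGrp hQ (memGrp Z X)) (centres Ω Z (memGrp Z X)) ⟨a, ha0⟩
        (img hQ (memGrp Z X) ⟨w, hw0⟩) Q := by
  obtain ⟨w, hwX, hw, hwa⟩ := centres_swap hQ ha hb hne.symm
  have ha0 : a ∈ centres Ω Z (memGrp Z X) := (centres_memGrp (Ω := Ω) X).symm ▸ ha
  obtain ⟨Q, hS⟩ := (isTopOdd_memGrp hT).setup hQ hB ha0 (mem_memGrp hw hwX) hw (hwa ▸ hne)
  exact ⟨w, mem_memGrp hw hwX, ha0, Q, hw, hwa, hS⟩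

theorem qTop_memGrp (X : Subgroup G) : qTop hQ (memGrp Z X) = qTop hQ X := by
  rw [qTop, qTop, memGrp_memGrp]

theorem qTop_le (hB : Below.{u} (Nat.card G)) (hT : IsTop Ω Z X) (hT' : IsTop Ω Z Y) {a : Ω}
    (ha : a ∈ centres Ω Z X) (hXY : ∀ i ∈ X, i ∈ Z → i • a = a → i ∈ Y)
    (hc : centres Ω Z X ⊆ centres Ω Z Y) :
    qTop hQ X ≤ qTop hQ Y ∧ (qTop hQ X = qTop hQ Y → ∀ i ∈ Y, i ∈ Z → i • a = a →
      ∃ j ∈ X, j ∈ Z ∧ j • a = a ∧ ∀ c ∈ centres Ω Z Y, i • c = j • c) := by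
  have ha0 : a ∈ centres Ω Z (memGrp Z X) := (centres_memGrp (Ω := Ω) X).symm ▸ ha
  have ha0' : a ∈ centres Ω Z (memGrp Z Y) := (centres_memGrp (Ω := Ω) Y).symm ▸ hc ha
  have h1 := qTop_eq_invAt hQ hB (isTopOdd_memGrp hT) ha0
  have h2 := qTop_eq_invAt hQ hB (isTopOdd_memGrp hT') ha0'
  rw [qTop_memGrp] at h1 h2
  obtain ⟨hle, heq⟩ := invAt_le hQ hB (isTopOdd_memGrp hT) (isTopOdd_memGrp hT') ha0 ha0'
    (fun i hi hiZ hia => mem_memGrp hiZ (hXY i (memGrp_le hi) hiZ hia))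
    (by rw [centres_memGrp, centres_memGrp]; exact hc)
  refine ⟨by omega, fun he i hiY hi hia => ?_⟩
  obtain ⟨j, hjX, hj, hja, hje⟩ := heq (by omega) i (mem_memGrp hi hiY) hi hia
  exact ⟨j, memGrp_le hjX, hj, hja, fun c hc' => hje c ((centres_memGrp (Ω := Ω) Y).symm ▸ hc')⟩

theorem qTop_two_pow (hT : IsTop Ω Z X) (hB : Below.{u} (Nat.card G)) :
    ∃ f : ℕ, 2 ≤ f ∧ qTop hQ X = 2 ^ f := by
  obtain ⟨g, c, hg, hc, hne⟩ := hT.two
  obtain ⟨w, hw0, ha0, Q, -, -, hS⟩ := hT.exists_setup hQ hB hg hc hne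
  rw [← qTop_memGrp hQ X, ← qTop_eq hQ hB (isTopOdd_memGrp hT) ha0]
  exact Ext.qZ_two_pow hS ((isTopOdd_memGrp hT).fourTop hQ hB)

theorem card_centres_cases (hT : IsTop Ω Z X) (hB : Below.{u} (Nat.card G)) :
    Nat.card (centres Ω Z X) = qTop hQ X + 1 ∨ Nat.card (centres Ω Z X) = qTop hQ X ^ 2 + 1 ∨
      Nat.card (centres Ω Z X) = qTop hQ X ^ 3 + 1 := by
  obtain ⟨g, c, hg, hc, hne⟩ := hT.two
  obtain ⟨w, hw0, ha0, Q, -, -, hS⟩ := hT.exists_setup hQ hB hg hc hne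
  rw [← qTop_memGrp hQ X, ← qTop_eq hQ hB (isTopOdd_memGrp hT) ha0, ← centres_memGrp (Ω := Ω) X,
    CfsgLib.RankOne.card_points hS]
  rcases Ext.shape_cases hS ((isTopOdd_memGrp hT).fourTop hQ hB) with ⟨-, h | h⟩ | ⟨-, h⟩ <;> rw [h]
  · exact Or.inl rfl
  · exact Or.inr (Or.inr rfl)
  · exact Or.inr (Or.inl rfl)

/-- Not a Suzuki top: the structure equation has a root squaring to one. -/
theorem rsq_of_card (hT : IsTopOdd Ω Z X) (hB : Below.{u} (Nat.card G))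
    (h : Nat.card (centres Ω Z X) ≠ qTop hQ X ^ 2 + 1) {a : Ω} (ha : a ∈ centres Ω Z X) {t : topGrp hQ X}
    {Q : Subgroup (topGrp hQ X)} (hS : IsRankOneSetup (topGrp hQ X) (centres Ω Z X) ⟨a, ha⟩ t Q) :
    Rsq (⟨a, ha⟩ : centres Ω Z X) t Q := by
  rcases Ext.shape_cases hS (hT.fourTop hQ hB) with ⟨hR, -⟩ | ⟨-, hQ'⟩
  · exact hR
  · rw [CfsgLib.RankOne.card_points hS, hQ', qTop_eq hQ hB hT ha] at h
    exact absurd rfl h

theorem circ_eq_image (hB : Below.{u} (Nat.card G)) (hT : IsTopOdd Ω Z X) {a w : _} (ha : a ∈ centres Ω Z X)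
    (hwX : (w : G) ∈ X) (hw : w ∈ Z) :
    circ Z X a (w • a) = Subtype.val '' Ext.circle (⟨a, ha⟩ : centres Ω Z X) (img hQ X ⟨w, hwX⟩) := by
  ext c
  constructor
  · rintro (rfl | rfl | ⟨i, hiX, hi, hia, rfl⟩)
    · exact ⟨⟨c, ha⟩, Or.inl rfl, rfl⟩
    · exact ⟨img hQ X ⟨w, hwX⟩ • ⟨a, ha⟩, Or.inr ⟨1, one_smul _ _, one_mul 1, one_smul _ _⟩, rfl⟩
    · refine ⟨_, Or.inr ⟨img hQ X ⟨i, hiX⟩, Subtype.ext hia, (img_isInv hQ hT.toIsTop (x := ⟨i, hiX⟩) hi).2, rfl⟩, rfl⟩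
  · rintro ⟨⟨c, hc⟩, h | ⟨y, hya, hy2, hyc⟩, rfl⟩
    · exact Or.inl (congrArg Subtype.val h)
    · by_cases hy1 : y = 1
      · rw [hy1, one_smul] at hyc
        exact Or.inr (Or.inl (congrArg Subtype.val hyc).symm)
      · obtain ⟨i, hi, rfl⟩ := exists_inv_lift hQ hB hT ⟨hy1, hy2⟩
        exact Or.inr (Or.inr ⟨i, i.2, hi, congrArg Subtype.val hya, congrArg Subtype.val hyc⟩)

omit [FaithfulSMul G Ω] in
theorem circ_subset {a b : Ω} (ha : a ∈ centres Ω Z X) (hb : b ∈ centres Ω Z X) :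
    circ Z X a b ⊆ centres Ω Z X := by
  rintro c (rfl | rfl | ⟨i, hiX, -, -, rfl⟩)
  · exact ha
  · exact hb
  · exact centres_smul hQ hiX hb

theorem card_circ (hT : IsTop Ω Z X) (hB : Below.{u} (Nat.card G)) {a b : Ω}
    (ha : a ∈ centres Ω Z X) (hb : b ∈ centres Ω Z X) (hne : b ≠ a) :
    Nat.card (circ Z X a b) = qTop hQ X + 1 := by
  obtain ⟨w, hw0, ha0, Q, hw, rfl, hS⟩ := hT.exists_setup hQ hB ha hb hne
  rw [← circ_memGrp X, circ_eq_image hQ hB (isTopOdd_memGrp hT) ha0 hw0 hw,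
    Nat.card_image_of_injective Subtype.val_injective, Ext.card_circle hS ((isTopOdd_memGrp hT).fourTop hQ hB),
    qTop_eq hQ hB (isTopOdd_memGrp hT) ha0, qTop_memGrp]

theorem circ_eq_centres (hT : IsTop Ω Z X) (hB : Below.{u} (Nat.card G)) {a b : Ω}
    (ha : a ∈ centres Ω Z X) (hb : b ∈ centres Ω Z X) (hne : b ≠ a)
    (h : Nat.card (centres Ω Z X) = qTop hQ X + 1) : circ Z X a b = centres Ω Z X := by
  haveI := finite_points hQ
  refine Set.eq_of_subset_of_ncard_le (circ_subset hQ ha hb) ?_ (Set.toFinite _)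
  rw [← Nat.card_coe_set_eq, ← Nat.card_coe_set_eq, card_circ hQ hT hB ha hb hne, h]

omit [FaithfulSMul G Ω] in
/-- The circle is invariant under two-point stabilisers. -/
theorem smul_circ_of_two {a b : Ω} {x : G} (hxX : x ∈ X) (hxa : x • a = a) (hxb : x • b = b) {c : Ω}
    (hc : c ∈ circ Z X a b) : x • c ∈ circ Z X a b := by
  rcases hc with rfl | rfl | ⟨i, hiX, hi, hia, rfl⟩
  · exact Or.inl hxa
  · exact Or.inr (Or.inl hxb)
  · refine Or.inr (Or.inr ⟨x * i * x⁻¹, X.mul_mem (X.mul_mem hxX hiX) (X.inv_mem hxX), hQ.conj i hi x, ?_, ?_⟩)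
    · rw [mul_smul, mul_smul, inv_smul_eq_iff.mpr hxa.symm, hia, hxa]
    · rw [mul_smul, mul_smul, inv_smul_eq_iff.mpr hxb.symm]

theorem smul_circ_invol (hT : IsTop Ω Z X) (hB : Below.{u} (Nat.card G)) {a b : Ω}
    (ha : a ∈ centres Ω Z X) (hb : b ∈ centres Ω Z X) (hne : b ≠ a) {i : G} (hiX : i ∈ X) (hi : i ∈ Z)
    (hia : i • a = a) {c : Ω} (hc : c ∈ circ Z X a b) : i • c ∈ circ Z X a b := by
  obtain ⟨w, hw0, ha0, Q, hw, rfl, hS⟩ := hT.exists_setup hQ hB ha hb hne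
  have hT0 := isTopOdd_memGrp hT
  rw [← circ_memGrp X, circ_eq_image hQ hB hT0 ha0 hw0 hw] at hc ⊢
  obtain ⟨c', hc', rfl⟩ := hc
  exact ⟨_, Ext.circle_invol hS (hT0.fourTop hQ hB) (i := img hQ (memGrp Z X) ⟨i, mem_memGrp hi hiX⟩)
    (Subtype.ext hia) (img_isInv hQ hT0.toIsTop (x := ⟨i, mem_memGrp hi hiX⟩) hi).2 hc', rfl⟩

theorem circ_swap (hT : IsTop Ω Z X) (hB : Below.{u} (Nat.card G))
    (hq : Nat.card (centres Ω Z X) ≠ qTop hQ X ^ 2 + 1) {a : Ω} (ha : a ∈ centres Ω Z X) {w : G} (hwX : w ∈ X)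
    (hw : w ∈ Z) (hwa : w • a ≠ a) {c : Ω} (hc : c ∈ circ Z X a (w • a)) : w • c ∈ circ Z X a (w • a) := by
  have hT0 := isTopOdd_memGrp hT
  have ha0 : a ∈ centres Ω Z (memGrp Z X) := (centres_memGrp (Ω := Ω) X).symm ▸ ha
  rw [← centres_memGrp (Ω := Ω) X, ← qTop_memGrp hQ X] at hq
  obtain ⟨Q, hS⟩ := hT0.setup hQ hB ha0 (mem_memGrp hw hwX) hw hwa
  rw [← circ_memGrp X, circ_eq_image hQ hB hT0 ha0 (mem_memGrp hw hwX) hw] at hc ⊢
  obtain ⟨c', hc', rfl⟩ := hc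
  exact ⟨_, Ext.circle_t hS (rsq_of_card hQ hT0 hB hq ha0 hS) hc', rfl⟩

/-- Every other point of a circle is the centre of a swapper of the two points. -/
theorem circ_centre (hT : IsTop Ω Z X) (hB : Below.{u} (Nat.card G))
    (hq : Nat.card (centres Ω Z X) ≠ qTop hQ X ^ 2 + 1) {a b : Ω} (ha : a ∈ centres Ω Z X)
    (hb : b ∈ centres Ω Z X) (hne : b ≠ a) {c : Ω} (hc : c ∈ circ Z X a b) (hca : c ≠ a) (hcb : c ≠ b) :
    ∃ v ∈ X, v ∈ Z ∧ v • a = b ∧ v • c = c := by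
  obtain ⟨w, hwX, ha0, Q, hw, rfl, hS⟩ := hT.exists_setup hQ hB ha hb hne
  have hT0 := isTopOdd_memGrp hT
  rw [← centres_memGrp (Ω := Ω) X, ← qTop_memGrp hQ X] at hq
  rw [← circ_memGrp X, circ_eq_image hQ hB hT0 ha0 hwX hw] at hc
  obtain ⟨c', hc', rfl⟩ := hc
  obtain ⟨k, hk, hkc⟩ := Ext.circle_centre hS (rsq_of_card hQ hT0 hB hq ha0 hS) hc'
    (fun e => hca (congrArg Subtype.val e)) (fun e => hcb (by rw [e]; rfl))
  set t := img hQ (memGrp Z X) ⟨w, hwX⟩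
  have htk : IsInv (t * k) := by
    obtain ⟨hkD, hki⟩ := hk
    obtain ⟨hka, hkt⟩ := (CfsgLib.RankOne.mem_D hS).mp hkD
    refine ⟨fun e => CfsgLib.RankOne.ta_ne hS ?_, ?_⟩
    · have h := congrArg (fun z : topGrp hQ (memGrp Z X) => z • (⟨a, ha0⟩ : centres Ω Z (memGrp Z X))) e
      simpa [mul_smul, hka] using h
    · calc t * k * (t * k) = t * k * t⁻¹ * (t * t) * k := by group
        _ = 1 := by rw [hki, hS.mul_self, mul_one, inv_mul_cancel]
  obtain ⟨v, hv, hve⟩ := exists_inv_lift hQ hB hT0 htk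
  refine ⟨v, memGrp_le v.2, hv, ?_, ?_⟩
  · have := congrArg (fun z : topGrp hQ (memGrp Z X) => ((z • (⟨a, ha0⟩ : centres Ω Z (memGrp Z X)) : centres Ω Z (memGrp Z X)) : Ω)) hve
    try dsimp only at this
    rw [img_smul] at this
    rw [this, mul_smul, ((CfsgLib.RankOne.mem_D hS).mp hk.1).1]
    rfl
  · have := congrArg (fun z : topGrp hQ (memGrp Z X) => ((z • c' : centres Ω Z (memGrp Z X)) : Ω)) hve
    try dsimp only at this
    rw [img_smul, hkc] at this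
    exact this

/-- With equal `q` the circles of the two subgroups agree. -/
theorem circ_eq_of_qTop_eq (hB : Below.{u} (Nat.card G)) (hT : IsTop Ω Z X) (hT' : IsTop Ω Z Y) {a b : Ω}
    (ha : a ∈ centres Ω Z X) (hb : b ∈ centres Ω Z Y) (hXY : ∀ i ∈ X, i ∈ Z → i • a = a → i ∈ Y)
    (hc : centres Ω Z X ⊆ centres Ω Z Y) (he : qTop hQ X = qTop hQ Y) : circ Z X a b = circ Z Y a b := by
  obtain ⟨-, h⟩ := qTop_le hQ hB hT hT' ha hXY hc
  ext c
  constructor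
  · rintro (rfl | rfl | ⟨i, hiX, hi, hia, rfl⟩)
    · exact Or.inl rfl
    · exact Or.inr (Or.inl rfl)
    · exact Or.inr (Or.inr ⟨i, hXY i hiX hi hia, hi, hia, rfl⟩)
  · rintro (rfl | rfl | ⟨i, hiY, hi, hia, rfl⟩)
    · exact Or.inl rfl
    · exact Or.inr (Or.inl rfl)
    · obtain ⟨j, hjX, hj, hja, hje⟩ := h he i hiY hi hia
      exact Or.inr (Or.inr ⟨j, hjX, hj, hja, (hje b hb).symm⟩)

/-- Lemma V: the centraliser of a subgroup normalised and not centralised by commuting members fixes their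
centre. -/
theorem lemmaV (hB : Below.{u} (Nat.card G)) {B : Subgroup G} {g : Ω} {v w : G}
    (hv : v ∈ Z) (hvg : v • g = g) (hw : w ∈ Z) (hne : v ≠ w) (hcom : v * w = w * v)
    (hvn : v ∈ Subgroup.normalizer (B : Set G)) (hwn : w ∈ Subgroup.normalizer (B : Set G))
    (hBg : ∀ x ∈ B, x • g = g) (hnc : ∃ x ∈ B, x * v ≠ v * x) {y : G}
    (hy : y ∈ Subgroup.centralizer (B : Set G)) : y • g = g := by
  by_contra hyg
  set N := Subgroup.normalizer (B : Set G)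
  have hyN : y ∈ N := mem_normalizer_of_conj fun x hx => by rwa [← hy x hx, mul_inv_cancel_right]
  obtain ⟨x0, hx0, hx0v⟩ := hnc
  have hgN : g ∈ centres Ω Z N := mem_centres hvn hv hvg
  have hT : IsTop Ω Z N := by
    refine ⟨fun e => ?_, ⟨v, hvn, w, hwn, hv, hw, hne, hcom⟩, ⟨g, y • g, hgN, centres_smul hQ hyN hgN, hyg⟩⟩
    haveI : B.Normal := Subgroup.normalizer_eq_top_iff.mp e
    have hb : B = ⊥ := eq_bot_of_normal hQ hBg
    rw [hb, Subgroup.mem_bot] at hx0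
    exact hx0v (by rw [hx0, one_mul, mul_one])
  have hnorm : N ≤ Subgroup.normalizer ((Subgroup.centralizer (B : Set G) ⊓ N : Subgroup G) : Set G) := by
    refine fun n hn => mem_normalizer_of_conj fun x hx => ?_
    exact ⟨conj_mem_of_normalizer (Ext.normalizer_le_centralizer hn) hx.1,
      N.mul_mem (N.mul_mem hn hx.2) (N.inv_mem hn)⟩
  have := invol_mem_of_normal hQ hT hB inf_le_right hnorm ⟨hy, hyN⟩ hgN hyg hvn hv
  exact hx0v (this.1 x0 hx0)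

section Primes

variable (hT : IsTop Ω Z X) (hB : Below.{u} (Nat.card G)) {l f : ℕ} (hl : l.Prime)
  (hf : qTop hQ X = 2 ^ f) (hlq : l ∣ qTop hQ X - 1) (hlf : ¬ l ∣ f)
include hT hB hl hf hlq hlf

/-- An `l`-element of odd order with three fixed centres fixes all centres. -/
theorem fix_all_of_three {x : G} (hxX : x ∈ X) (hxodd : Odd (orderOf x)) {n : ℕ} (hxl : x ^ l ^ n = 1) {a b c : Ω}
    (ha : a ∈ centres Ω Z X) (hb : b ∈ centres Ω Z X) (hc : c ∈ centres Ω Z X) (hba : b ≠ a) (hca : c ≠ a)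
    (hcb : c ≠ b) (hxa : x • a = a) (hxb : x • b = b) (hxc : x • c = c) {d : Ω} (hd : d ∈ centres Ω Z X) :
    x • d = d := by
  set Y := memGrp Z X ⊔ Subgroup.zpowers x with hY
  have hle : Y ≤ X := sup_le memGrp_le (Subgroup.zpowers_le.mpr hxX)
  have hT' : IsTopOdd Ω Z Y := isTopOdd_sup hQ hT hxX hxodd
  have hcen : centres Ω Z Y = centres Ω Z X := centres_eq_of_between hQ le_sup_left hle
  have hqY : qTop hQ Y = qTop hQ X := by rw [qTop, qTop, memGrp_eq_of_between hQ le_sup_left hle]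
  have hxY : x ∈ Y := Subgroup.mem_sup_right (Subgroup.mem_zpowers x)
  rw [← hcen] at ha hb hc hd
  obtain ⟨w, hwY, hw, rfl⟩ := centres_swap hQ ha hb hba.symm
  obtain ⟨Q, hS⟩ := hT'.setup hQ hB ha hwY hw hba
  by_contra hxd
  have hx1 : img hQ Y ⟨x, hxY⟩ ≠ 1 := fun e => hxd (img_eq_one_iff.mp e d hd)
  have hD : img hQ Y ⟨x, hxY⟩ ∈ CfsgLib.RankOne.D (⟨a, ha⟩ : centres Ω Z Y) (img hQ Y ⟨w, hwY⟩) :=
    (CfsgLib.RankOne.mem_D hS).mpr ⟨Subtype.ext hxa, Subtype.ext hxb⟩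
  rcases Ext.fix_two_only hS (hT'.fourTop hQ hB) hl (by rw [qTop_eq hQ hB hT' ha, hqY, hf])
    (by rw [qTop_eq hQ hB hT' ha, hqY]; exact hlq)
    hlf hD (n := n) (by rw [← map_pow, show (⟨x, hxY⟩ : Y) ^ l ^ n = 1 from Subtype.ext hxl, map_one]) hx1
    (c := ⟨c, hc⟩) (Subtype.ext hxc) with h | h
  · exact hca (congrArg Subtype.val h)
  · exact hcb (congrArg Subtype.val h)

/-- An `l`-element commuting with a member modulo the kernel fixes all centres. -/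
theorem fix_all_of_commute {x i : G} (hxX : x ∈ X) (hxodd : Odd (orderOf x)) {n : ℕ} (hxl : x ^ l ^ n = 1)
    (hiX : i ∈ X) (hi : i ∈ Z) (hxi : ∀ c ∈ centres Ω Z X, x • i • c = i • x • c) {d : Ω}
    (hd : d ∈ centres Ω Z X) : x • d = d := by
  set Y := memGrp Z X ⊔ Subgroup.zpowers x with hY
  have hle : Y ≤ X := sup_le memGrp_le (Subgroup.zpowers_le.mpr hxX)
  have hT' : IsTopOdd Ω Z Y := isTopOdd_sup hQ hT hxX hxodd
  have hcen : centres Ω Z Y = centres Ω Z X := centres_eq_of_between hQ le_sup_left hle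
  have hqY : qTop hQ Y = qTop hQ X := by rw [qTop, qTop, memGrp_eq_of_between hQ le_sup_left hle]
  have hxY : x ∈ Y := Subgroup.mem_sup_right (Subgroup.mem_zpowers x)
  have hiY : i ∈ Y := le_sup_left (b := Subgroup.zpowers x) (mem_memGrp hi hiX)
  rw [← hcen] at hd hxi
  obtain ⟨g, c, hg, hc, hne⟩ := hT'.two
  obtain ⟨w, hwY, hw, hwg⟩ := centres_swap hQ hg hc hne.symm
  obtain ⟨Q, hS⟩ := hT'.setup hQ hB hg hwY hw (hwg ▸ hne)
  obtain ⟨hI1, hI2⟩ := img_isInv hQ hT'.toIsTop (x := ⟨i, hiY⟩) hi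
  refine img_eq_one_iff.mp (Ext.eq_one_of_commute_invol hS (hT'.fourTop hQ hB) hl
    (by rw [qTop_eq hQ hB hT' hg, hqY, hf]) (by rw [qTop_eq hQ hB hT' hg, hqY]; exact hlq) hlf (n := n)
    (by rw [← map_pow, show (⟨x, hxY⟩ : Y) ^ l ^ n = 1 from Subtype.ext hxl, map_one]) hI1 hI2 ?_) d hd
  rw [← map_mul, ← map_mul]
  exact img_eq_of_smul fun c hc => by
    rw [Subgroup.coe_mul, Subgroup.coe_mul, mul_smul, mul_smul]
    exact hxi c hc

end Primes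

end CfsgLib.Bender.Q
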